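import Groth.Agent.AlgSp.K635.Formal
import Groth.Agent.AlgSp.K596.Pts

/-!
# Universal first order thickenings: affine test objects, composition, base change, descent
-/

set_option autoImplicit false

universe u

open CategoryTheory CategoryTheory.Limits AlgebraicGeometry Opposite

namespace K635.Univ

open AlgSp K635.Glue K635.Thick K635.GlueLift K635.EtLift K635.InfLift K635.Formal

variable {S : Scheme.{u}}

/-- The universal property may be tested on first order thickenings of affine schemes. -/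
theorem isUnivFOThick_of_affine {Z Z' X : Sp S} {h : Z ⟶ X} {i : Z ⟶ Z'} {h' : Z' ⟶ X}
    (hi : IsFOThickMor i) (w : i ≫ h' = h)
    (H : ∀ (T T' : Over S) (j : T ⟶ T'), IsAffine T'.left → MoreMor.IsFirstOrderThickening j.left →
      ∀ (a : (yon S).obj T ⟶ Z) (b : (yon S).obj T' ⟶ X), (yon S).map j ≫ b = a ≫ h →
        ∃! a' : (yon S).obj T' ⟶ Z', (yon S).map j ≫ a' = a ≫ i ∧ a' ≫ h' = b) :
    IsUnivFOThick h i h' := by
  refine ⟨hi, w, fun T T' _ hT' j a b hj w' ↦ ?_⟩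
  refine glue_lift hT' hj.1.1 h' (a ≫ i) b (fun V W c hc fst snd sq ↦ ?_)
  have := H W V snd hc.aff (fot_of_isPullback hT' hj sq) (fst ≫ a) (c ≫ b)
    (by rw [← Category.assoc, ← sq.w, Category.assoc, w', Category.assoc])
  simpa only [Category.assoc] using this

/-- The universal property for thickenings of schemes. -/
theorem existsUnique_scheme {Z Z' X : Sp S} {h : Z ⟶ X} {i : Z ⟶ Z'} {h' : Z' ⟶ X}
    (H : IsUnivFOThick h i h') {T T' : Over S} (j : T ⟶ T') (hj : MoreMor.IsFirstOrderThickening j.left)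
    (a : (yon S).obj T ⟶ Z) (b : (yon S).obj T' ⟶ X) (w : (yon S).map j ≫ b = a ≫ h) :
    ∃! a' : (yon S).obj T' ⟶ Z', (yon S).map j ≫ a' = a ≫ i ∧ a' ≫ h' = b :=
  H.2.2 (IsAlgSpace.yon_obj T) (IsAlgSpace.yon_obj T') _ a b ((isFOThickMor_yon_map_iff j).2 hj) w

/-- Composition with a formally etale morphism. -/
theorem comp_formallyEtale {Z Z' Y X : Sp S} {hZ : Z ⟶ Y} {g : Y ⟶ X} {i : Z ⟶ Z'} {h' : Z' ⟶ Y}
    (HU : IsUnivFOThick hZ i h') (hg : IsFormallyEtaleMor g) : IsUnivFOThick (hZ ≫ g) i (h' ≫ g) := by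
  obtain ⟨h1, h2, h3⟩ := HU
  refine ⟨h1, by rw [← Category.assoc, h2], ?_⟩
  intro T T' hT hT' j a b hj w
  obtain ⟨m, ⟨hm1, hm2⟩, hm3⟩ := space_existsUnique_lift hg hT' hj (a ≫ hZ) b
    (by rw [Category.assoc, w])
  obtain ⟨l, ⟨hl1, hl2⟩, hl3⟩ := h3 hT hT' j a m hj hm1
  refine ⟨l, ⟨hl1, by rw [← Category.assoc, hl2, hm2]⟩, ?_⟩
  rintro l' ⟨h4, h5⟩
  refine hl3 l' ⟨h4, hm3 _ ⟨?_, ?_⟩⟩
  · rw [← Category.assoc, h4, Category.assoc, h2]
  · rw [Category.assoc, h5]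

/-- A universal first order thickening over `X` with `X ⟶ Y` ... is one over an intermediate formally etale space. -/
theorem of_comp_formallyEtale {Z Z' Y X : Sp S} {hZ : Z ⟶ Y} {g : Y ⟶ X} {i : Z ⟶ Z'} {h' : Z' ⟶ Y}
    (hw : i ≫ h' = hZ) (HU : IsUnivFOThick (hZ ≫ g) i (h' ≫ g)) (hg : IsFormallyUnramifiedMor g) :
    IsUnivFOThick hZ i h' := by
  obtain ⟨h1, h2, h3⟩ := HU
  refine ⟨h1, hw, ?_⟩
  intro T T' hT hT' j a b hj w
  obtain ⟨l, ⟨hl1, hl2⟩, hl3⟩ := h3 hT hT' j a (b ≫ g) hj (by rw [← Category.assoc, w, Category.assoc])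
  refine ⟨l, ⟨hl1, ?_⟩, ?_⟩
  · refine space_lift_unique hg hT' hj _ _ ?_ ?_
    · rw [← Category.assoc, hl1, Category.assoc, hw, w]
    · rw [Category.assoc, hl2]
  · rintro l' ⟨h4, h5⟩
    exact hl3 l' ⟨h4, by rw [← Category.assoc, h5]⟩

/-- Etale base change of a universal first order thickening. -/
theorem etale_baseChange {Z Y Y' Z' X : Sp S} (hAY' : IsAlgSpace Y') (hAZ' : IsAlgSpace Z') {e : Z ⟶ Y}
    {hY : Y ⟶ X} {iY : Y ⟶ Y'} {hY' : Y' ⟶ X}
    (HU : IsUnivFOThick hY iY hY') {iZ : Z ⟶ Z'} {e' : Z' ⟶ Y'} (he' : IsFormallyEtaleMor e')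
    (sq : IsPullback e iZ iY e') : IsUnivFOThick (e ≫ hY) iZ (e' ≫ hY') := by
  obtain ⟨h1, h2, h3⟩ := HU
  refine ⟨isFOThickMor_of_isPullback hAY' hAZ' sq h1, ?_, ?_⟩
  · rw [← Category.assoc, ← sq.w, Category.assoc, h2]
  · intro T T' hT hT' j a b hj w
    obtain ⟨m, ⟨hm1, hm2⟩, hm3⟩ := h3 hT hT' j (a ≫ e) b hj (by rw [Category.assoc, w])
    obtain ⟨l, ⟨hl1, hl2⟩, hl3⟩ := space_existsUnique_lift he' hT' hj (a ≫ iZ) m
      (by rw [Category.assoc, ← sq.w, hm1, Category.assoc])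
    refine ⟨l, ⟨hl1, by rw [← Category.assoc, hl2, hm2]⟩, ?_⟩
    rintro l' ⟨h4, h5⟩
    refine hl3 l' ⟨h4, hm3 _ ⟨?_, ?_⟩⟩
    · rw [← Category.assoc, h4, Category.assoc, ← sq.w, Category.assoc]
    · rw [Category.assoc, h5]

/-- Arbitrary base change of a universal first order thickening. -/
theorem baseChange {Z X W Y W' P : Sp S} (hAW' : IsAlgSpace W') (hAP : IsAlgSpace P) {h : Z ⟶ X} {f : Z ⟶ W}
    {g : X ⟶ Y} {h' : W ⟶ Y} (sq : IsPullback h f g h') {iW : W ⟶ W'} {hW' : W' ⟶ Y}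
    (HU : IsUnivFOThick h' iW hW') {pX : P ⟶ X} {pW : P ⟶ W'} (sq' : IsPullback pX pW g hW')
    {iZ : Z ⟶ P} (w1 : iZ ≫ pX = h) (w2 : iZ ≫ pW = f ≫ iW) :
    IsUnivFOThick h iZ pX := by
  obtain ⟨h1, h2, h3⟩ := HU
  have sq'' : IsPullback f iZ iW pW := by
    refine IsPullback.of_bot ?_ w2.symm sq'.flip
    rw [w1, h2]
    exact sq.flip
  refine ⟨isFOThickMor_of_isPullback hAW' hAP sq'' h1, w1, ?_⟩
  intro T T' hT hT' j a b hj w
  obtain ⟨m, ⟨hm1, hm2⟩, hm3⟩ := h3 hT hT' j (a ≫ f) (b ≫ g) hj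
    (by rw [← Category.assoc, w, Category.assoc, sq.w, Category.assoc])
  refine ⟨sq'.lift b m hm2.symm, ⟨sq'.hom_ext ?_ ?_, sq'.lift_fst _ _ _⟩, ?_⟩
  · rw [Category.assoc, sq'.lift_fst, w, Category.assoc, w1]
  · rw [Category.assoc, sq'.lift_snd, hm1, Category.assoc, Category.assoc, w2]
  · rintro l' ⟨h4, h5⟩
    refine sq'.hom_ext (by rw [h5, sq'.lift_fst]) ?_
    rw [sq'.lift_snd]
    refine hm3 _ ⟨?_, ?_⟩
    · rw [← Category.assoc, h4, Category.assoc, w2, Category.assoc]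
    · rw [Category.assoc, ← sq'.w, ← Category.assoc, h5]

/-- Uniqueness part of the descent. -/
theorem descend_unique {Z Y Z' Y' X : Sp S} {e : Z ⟶ Y} {hY : Y ⟶ X}
    {iZ : Z ⟶ Z'} {iY : Y ⟶ Y'} 
    {f' : Z' ⟶ Y'} (hf' : IsFormallyEtaleMor f') (w : iZ ≫ f' = e ≫ iY) {hY' : Y' ⟶ X} (w' : iY ≫ hY' = hY)
    (HU : IsUnivFOThick (e ≫ hY) iZ (f' ≫ hY')) {A A' : Over S} (i : A ⟶ A')
    (hi : MoreMor.IsFirstOrderThickening i.left) (μ : (yon S).obj A ⟶ Z) (l l' : (yon S).obj A' ⟶ Y')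
    (h1 : (yon S).map i ≫ l = μ ≫ e ≫ iY) (h2 : (yon S).map i ≫ l' = μ ≫ e ≫ iY)
    (h3 : l ≫ hY' = l' ≫ hY') : l = l' := by
  have hi' : IsFOThickMor ((yon S).map i) := (isFOThickMor_yon_map_iff _).2 hi
  obtain ⟨n, ⟨hn1, hn2⟩, -⟩ := space_existsUnique_lift hf' (IsAlgSpace.yon_obj A') hi'
    (μ ≫ iZ) l (by rw [Category.assoc, w, h1])
  obtain ⟨n', ⟨hn1', hn2'⟩, -⟩ := space_existsUnique_lift hf' (IsAlgSpace.yon_obj A') hi'
    (μ ≫ iZ) l' (by rw [Category.assoc, w, h2])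
  have key := (existsUnique_scheme HU i hi μ (l ≫ hY') (by
      rw [← Category.assoc, h1, Category.assoc, Category.assoc, w'])).unique (y₁ := n) (y₂ := n')
      ⟨hn1, by rw [← Category.assoc, hn2]⟩ ⟨hn1', by rw [← Category.assoc, hn2', h3]⟩
  rw [← hn2, ← hn2', key]

/-- Descent of universal first order thickenings along etale surjective morphisms. -/
theorem descend {Z Y Z' Y' X : Sp S} (hAZ : IsAlgSpace Z)
    {e : Z ⟶ Y} (he : IsEtaleMor e) (hes : IsSurjectiveMor e) {hY : Y ⟶ X}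
    {iZ : Z ⟶ Z'} {iY : Y ⟶ Y'} (hiY : IsFOThickMor iY)
    {f' : Z' ⟶ Y'} (hf' : IsFormallyEtaleMor f') (w : iZ ≫ f' = e ≫ iY) {hY' : Y' ⟶ X} (w' : iY ≫ hY' = hY)
    (HU : IsUnivFOThick (e ≫ hY) iZ (f' ≫ hY')) : IsUnivFOThick hY iY hY' := by
  refine isUnivFOThick_of_affine hiY w' ?_
  intro T T' j hT' hj a b hab
  have := hj.1.1
  have := hj.1.2
  -- an etale surjective chart of `Z`
  obtain ⟨U, p, hpe, hps⟩ := hAZ.atlas
  have hqe : RepWith @Etale (p ≫ e) := he p hpe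
  have hqs : RepWith @Surjective (p ≫ e) := by
    refine K596.Pts.repWith_surjective_of_surjective hqe.1 ?_
    have h5 : Points.map (p ≫ e) = Points.map e ∘ Points.map p := by
      funext x; exact Points.map_comp _ _ _
    rw [h5]
    exact Function.Surjective.comp hes (K596.Pts.surjective_of_repWith hps)
  -- pull it back to `T` and lift it to `T'`
  obtain ⟨A, α, m, sqA⟩ := hqe.1 a
  have : Etale α.left := hqe.2 _ _ _ sqA
  have : Surjective α.left := hqs.2 _ _ _ sqA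
  obtain ⟨A', α', i, hα', sq⟩ := over_exists_etale_lift j α
  have sql : IsPullback i.left α.left α'.left j.left := isPullback_left sq
  have hi : MoreMor.IsFirstOrderThickening i.left := by
    rw [← nthick_one_iff] at hj ⊢
    exact MorphismProperty.of_isPullback sql.flip hj
  have hs' : Surjective α'.left := by
    have := hi.1.2
    have h3 : Surjective (i.left ≫ α'.left) := by rw [sql.w]; infer_instance
    exact Surjective.of_comp i.left α'.left
  have hm : (m ≫ p) ≫ e = (yon S).map α ≫ a := by rw [Category.assoc, sqA.w]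
  obtain ⟨n, ⟨hn1, hn2⟩, -⟩ := existsUnique_scheme HU i hi (m ≫ p) ((yon S).map α' ≫ b) (by
    rw [← Category.assoc, ← Functor.map_comp, sq.w, Functor.map_comp, Category.assoc, hab, ← Category.assoc,
      ← Category.assoc, hm])
  obtain ⟨l, hl, -⟩ := glue_etale Y' α' (n ≫ f') (by
    let D := pullback α' α'
    let δ : D ⟶ T' := pullback.fst α' α' ≫ α'
    let jD : pullback j δ ⟶ D := pullback.snd j δ
    have hδ' : δ = pullback.snd α' α' ≫ α' := pullback.condition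
    have hD : jD ≫ δ = pullback.fst j δ ≫ j := pullback.condition.symm
    have hjD : MoreMor.IsFirstOrderThickening jD.left := by
      rw [← nthick_one_iff] at hj ⊢
      exact MorphismProperty.of_isPullback (isPullback_left (IsPullback.of_hasPullback j δ)) hj
    -- lifts to `A`
    obtain ⟨x, hx1, hx2⟩ : ∃ x : pullback j δ ⟶ A, x ≫ i = jD ≫ pullback.fst α' α' ∧ x ≫ α = pullback.fst j δ :=
      ⟨sq.lift (jD ≫ pullback.fst α' α') (pullback.fst j δ) (by rw [Category.assoc]; exact hD),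
        sq.lift_fst _ _ _, sq.lift_snd _ _ _⟩
    obtain ⟨y, hy1, hy2⟩ : ∃ y : pullback j δ ⟶ A, y ≫ i = jD ≫ pullback.snd α' α' ∧ y ≫ α = pullback.fst j δ :=
      ⟨sq.lift (jD ≫ pullback.snd α' α') (pullback.fst j δ) (by rw [Category.assoc, ← hδ', hD]),
        sq.lift_fst _ _ _, sq.lift_snd _ _ _⟩
    have e0 : ∀ (z : pullback j δ ⟶ A) (q : D ⟶ A'), z ≫ i = jD ≫ q →
        (yon S).map jD ≫ (yon S).map q ≫ n ≫ f' = (yon S).map z ≫ (m ≫ p) ≫ e ≫ iY := by
      intro z q hz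
      rw [← Category.assoc, ← Functor.map_comp, ← hz, Functor.map_comp, Category.assoc, ← Category.assoc _ n,
        hn1, Category.assoc _ iZ, w]
    refine descend_unique hf' w w' HU jD hjD ((yon S).map x ≫ (m ≫ p)) _ _ ?_ ?_ ?_
    · rw [e0 x _ hx1]; simp only [Category.assoc]
    · rw [e0 y _ hy1]
      have h6 : (yon S).map y ≫ (m ≫ p) ≫ e = (yon S).map x ≫ (m ≫ p) ≫ e := by
        rw [hm, ← Category.assoc, ← Category.assoc, ← Functor.map_comp, ← Functor.map_comp, hx2, hy2]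
      rw [← Category.assoc (m ≫ p), ← Category.assoc, h6]
      simp only [Category.assoc]
    · rw [Category.assoc, Category.assoc, Category.assoc, Category.assoc, hn2, ← Category.assoc,
        ← Category.assoc, ← Functor.map_comp, ← Functor.map_comp, pullback.condition])
  have hl1 : (yon S).map j ≫ l = a ≫ iY := by
    refine hom_ext_etale α ?_
    rw [← Category.assoc, ← Functor.map_comp, ← sq.w, Functor.map_comp, Category.assoc, hl,
      ← Category.assoc, hn1, Category.assoc (m ≫ p), w, ← Category.assoc, hm, Category.assoc]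
  have hl2 : l ≫ hY' = b := by
    refine hom_ext_etale α' ?_
    rw [← Category.assoc, hl, Category.assoc, hn2]
  refine ⟨l, ⟨hl1, hl2⟩, ?_⟩
  rintro l' ⟨h1, h2⟩
  have aux : ∀ k : (yon S).obj T' ⟶ Y', (yon S).map j ≫ k = a ≫ iY →
      (yon S).map i ≫ (yon S).map α' ≫ k = (m ≫ p) ≫ e ≫ iY := by
    intro k hk
    rw [← Category.assoc, ← Functor.map_comp, sq.w, Functor.map_comp, Category.assoc, hk, ← Category.assoc,
      ← hm, Category.assoc (m ≫ p)]
  refine hom_ext_etale α' (descend_unique hf' w w' HU i hi (m ≫ p) _ _ (aux _ h1) (aux _ hl1) ?_)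
  rw [Category.assoc, Category.assoc, h2, hl2]

end K635.Univ
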