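import Groth.Agent.S10262
import Groth.Agent.S10265
import Groth.Agent.AlgSp.K642.Pb
import Groth.Agent.AlgSp.K642.ColimEt
import Groth.Agent.AlgSp.K610.Sub
import Groth.Agent.AlgSp.K610.Factor
import Groth.Agent.AlgSp.K610.EtaleMor
import Groth.Agent.AlgSp.K613.Mono
import Groth.Agent.AlgSp.K596.QC2
/-!
Maps into an etale algebraic space `v : V ⟶ Y` are determined on points (`eq_of_points`) and glue along finite jointly
surjective families of universally closed morphisms (`glue`).
-/

set_option autoImplicit false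
universe u
open CategoryTheory CategoryTheory.Limits AlgebraicGeometry Opposite Topology

namespace K635.EtTop

open AlgSp

variable {S : Scheme.{u}}

/-- The diagonal of an etale morphism of algebraic spaces is an open immersion. -/
theorem diag_open {F G : Sp S} (hF : IsAlgSpace F) (hG : IsAlgSpace G) {f : F ⟶ G} (hf : IsEtaleMor f) :
    RepWith @IsOpenImmersion (pullback.diagonal f) := by
  have h := Groth.Agent.S10265.result (X := ⟨F, hF⟩) (Y := ⟨G, hG⟩) ⟨f⟩ hf
  exact (Groth.Agent.S10262.result (X := ⟨F, hF⟩) (Y := ⟨G, hG⟩) ⟨f⟩).1 h.2.2.2.2.2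

/-- Two maps agree at a point: they agree after some map through the point. -/
def EqAt {T V : Sp S} (a b : T ⟶ V) (x : Points T) : Prop :=
  ∃ (T' : Sp S) (p : T' ⟶ T) (x' : Points T'), Points.map p x' = x ∧ p ≫ a = p ≫ b

theorem EqAt.of_eq {T V : Sp S} {a b : T ⟶ V} (h : a = b) (x : Points T) : EqAt a b x :=
  ⟨T, 𝟙 _, x, Points.map_id x, by rw [h]⟩

theorem EqAt.symm {T V : Sp S} {a b : T ⟶ V} {x : Points T} (h : EqAt a b x) : EqAt b a x := by
  obtain ⟨T', p, x', hx, w⟩ := h
  exact ⟨T', p, x', hx, w.symm⟩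

theorem eqAt_comp_iff {T' T V : Sp S} (p : T' ⟶ T) (a b : T ⟶ V) (x : Points T') :
    EqAt (p ≫ a) (p ≫ b) x ↔ EqAt a b (Points.map p x) := by
  constructor
  · rintro ⟨R, q, y, hy, w⟩
    exact ⟨R, q ≫ p, y, by rw [Points.map_comp, hy], by simpa using w⟩
  · rintro ⟨R, q, y, hy, w⟩
    obtain ⟨z, hz1, hz2⟩ := K610.Base.exists_of_isPullback (IsPullback.of_hasPullback q p) y x hy
    refine ⟨pullback q p, pullback.snd q p, z, hz2, ?_⟩
    rw [← pullback.condition_assoc, ← pullback.condition_assoc, w]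

/-- Two maps into `V` which agree over `Y`. -/
theorem exists_equalizer {T V Y : Sp S} (hV : IsAlgSpace V) (hY : IsAlgSpace Y) {v : V ⟶ Y}
    (hv : IsEtaleMor v) (a b : T ⟶ V) (w : a ≫ v = b ≫ v) :
    ∃ (E : Sp S) (e : E ⟶ T), RepWith @IsOpenImmersion e ∧ e ≫ a = e ≫ b ∧
      (∀ (T' : Sp S) (p : T' ⟶ T), p ≫ a = p ≫ b → ∃ q : T' ⟶ E, q ≫ e = p) ∧
      Set.range (Points.map e) = {x | EqAt a b x} := by
  have sq := IsPullback.of_hasPullback (pullback.diagonal v) (pullback.lift a b w)
  have he : RepWith @IsOpenImmersion (pullback.snd (pullback.diagonal v) (pullback.lift a b w)) :=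
    MorphismProperty.of_isPullback (P := RepWith _) sq (diag_open hV hY hv)
  have ha : pullback.snd (pullback.diagonal v) (pullback.lift a b w) ≫ a = pullback.fst _ _ := by
    have := congrArg (· ≫ pullback.fst v v) sq.w
    rw [Category.assoc, Category.assoc, pullback.diagonal_fst, pullback.lift_fst, Category.comp_id] at this
    exact this.symm
  have hb : pullback.snd (pullback.diagonal v) (pullback.lift a b w) ≫ b = pullback.fst _ _ := by
    have := congrArg (· ≫ pullback.snd v v) sq.w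
    rw [Category.assoc, Category.assoc, pullback.diagonal_snd, pullback.lift_snd, Category.comp_id] at this
    exact this.symm
  have huniv : ∀ (T' : Sp S) (p : T' ⟶ T), p ≫ a = p ≫ b →
      ∃ q : T' ⟶ pullback (pullback.diagonal v) (pullback.lift a b w), q ≫ pullback.snd _ _ = p := by
    intro T' p hp
    refine ⟨pullback.lift (p ≫ a) p ?_, pullback.lift_snd _ _ _⟩
    apply pullback.hom_ext
    · simp only [Category.assoc]
      rw [pullback.diagonal_fst, pullback.lift_fst, Category.comp_id]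
    · simp only [Category.assoc]
      rw [pullback.diagonal_snd, pullback.lift_snd, Category.comp_id, hp]
  refine ⟨_, _, he, ha.trans hb.symm, huniv, ?_⟩
  ext x
  constructor
  · rintro ⟨y, rfl⟩
    exact ⟨_, _, y, rfl, ha.trans hb.symm⟩
  · rintro ⟨T', p, x', rfl, hp⟩
    obtain ⟨q, rfl⟩ := huniv T' p hp
    exact ⟨Points.map q x', (Points.map_comp _ _ _).symm⟩

theorem isOpen_eqAt {T V Y : Sp S} (hT : IsAlgSpace T) (hV : IsAlgSpace V) (hY : IsAlgSpace Y) {v : V ⟶ Y}
    (hv : IsEtaleMor v) (a b : T ⟶ V) (w : a ≫ v = b ≫ v) : IsOpen {x | EqAt a b x} := by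
  obtain ⟨E, e, he, -, -, h⟩ := exists_equalizer hV hY hv a b w
  rw [← h]
  exact (K610.OpenImm.isOpenEmbedding_points hT he).isOpen_range

theorem eq_of_points {T V Y : Sp S} (hV : IsAlgSpace V) (hY : IsAlgSpace Y) {v : V ⟶ Y}
    (hv : IsEtaleMor v) (a b : T ⟶ V) (w : a ≫ v = b ≫ v) (h : ∀ x, EqAt a b x) : a = b := by
  obtain ⟨E, e, he, hab, -, hr⟩ := exists_equalizer hV hY hv a b w
  have hs : Function.Surjective (Points.map e) := by
    rw [← Set.range_eq_univ, hr]
    exact Set.eq_univ_of_forall h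
  have := K642.ColimEt.isIso_of_open he hs
  rw [← cancel_epi e, hab]

/-- Equality of maps into an etale space, tested on a jointly surjective family. -/
theorem eq_of_cover {T V Y : Sp S} (hV : IsAlgSpace V) (hY : IsAlgSpace Y) {v : V ⟶ Y}
    (hv : IsEtaleMor v) (a b : T ⟶ V) (w : a ≫ v = b ≫ v) {T' : Sp S} (p : T' ⟶ T)
    (hp : Function.Surjective (Points.map p)) (h : p ≫ a = p ≫ b) : a = b := by
  refine eq_of_points hV hY hv a b w fun x => ?_
  obtain ⟨x', hx'⟩ := hp x
  exact ⟨T', p, x', hx', h⟩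

section Glue

variable {ι : Type*} {T Y V : Sp S} {v : V ⟶ Y} {t : T ⟶ Y} {T' : ι → Sp S} {g : ∀ i, T' i ⟶ T}
  {a : ∀ i, T' i ⟶ V}

theorem exists_lift_of_range {F G H : Sp S} {j : G ⟶ H} (hj : RepWith @IsOpenImmersion j) (f : F ⟶ H)
    (h : ∀ x, Points.map f x ∈ Set.range (Points.map j)) : ∃ g : F ⟶ G, g ≫ j = f :=
  (K610.Factor.factors_open_iff hj f).2 (by rintro _ ⟨x, rfl⟩; exact h x)

/-- Etale, mono and surjective on points implies iso. -/
theorem isIso_of_mono {F G : Sp S} (hF : IsAlgSpace F) {f : F ⟶ G} (hf : IsEtaleMor f) (hm : Mono f)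
    (hs : Function.Surjective (Points.map f)) : IsIso f := by
  refine K642.ColimEt.isIso_of_open (K613.Mono.repWith_isOpenImmersion_of_mono hF hf fun T g => ?_) hs
  exact MorphismProperty.of_isPullback (P := MorphismProperty.monomorphisms (Sp S))
    (IsPullback.of_hasPullback f g) hm

theorem glue [Finite ι] (hT : IsAlgSpace T) (hV : IsAlgSpace V) (hY : IsAlgSpace Y) (hv : IsEtaleMor v)
    (hT' : ∀ i, IsAlgSpace (T' i)) (hg : ∀ i, IsUnivClosedMor (g i))
    (hs : ∀ x : Points T, ∃ (i : ι) (x' : Points (T' i)), Points.map (g i) x' = x)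
    (ha : ∀ i, a i ≫ v = g i ≫ t)
    (hc : ∀ i j, pullback.fst (g i) (g j) ≫ a i = pullback.snd (g i) (g j) ≫ a j) :
    ∃ b : T ⟶ V, b ≫ v = t ∧ ∀ i, g i ≫ b = a i := by
  have hc' : ∀ i j (R : Sp S) (p : R ⟶ T' i) (q : R ⟶ T' j), p ≫ g i = q ≫ g j → p ≫ a i = q ≫ a j := by
    intro i j R p q h
    have h1 : pullback.lift p q h ≫ pullback.fst (g i) (g j) = p := pullback.lift_fst _ _ _
    have h2 : pullback.lift p q h ≫ pullback.snd (g i) (g j) = q := pullback.lift_snd _ _ _
    rw [← h1, Category.assoc, hc, ← Category.assoc, h2]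
  have hW : IsAlgSpace (pullback t v) := K613.Chart.isAlgSpace_pullback hT hV hY t v
  have hw : IsEtaleMor (pullback.fst t v) :=
    K610.EtaleMor.isEtaleMor_baseChange hV hW hT (IsPullback.of_hasPullback t v) hv
  let s : ∀ i, T' i ⟶ pullback t v := fun i => pullback.lift (g i) (a i) (ha i).symm
  have hs1 : ∀ i, s i ≫ pullback.fst t v = g i := fun i => pullback.lift_fst _ _ _
  have hs2 : ∀ i, s i ≫ pullback.snd t v = a i := fun i => pullback.lift_snd _ _ _
  have hss : ∀ i j (R : Sp S) (p : R ⟶ T' i) (q : R ⟶ T' j), p ≫ g i = q ≫ g j → p ≫ s i = q ≫ s j := by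
    intro i j R p q h
    apply pullback.hom_ext
    · rw [Category.assoc, Category.assoc, hs1, hs1, h]
    · rw [Category.assoc, Category.assoc, hs2, hs2, hc' i j R p q h]
  -- the image
  let O : Set (Points (pullback t v)) := {x | ∃ i y, Points.map (s i) y = x}
  -- the sections
  let σ : ∀ i, T' i ⟶ pullback (g i) (pullback.fst t v) := fun i =>
    pullback.lift (𝟙 _) (s i) (by rw [Category.id_comp, hs1])
  have hσ1 : ∀ i, σ i ≫ pullback.fst _ _ = 𝟙 _ := fun i => pullback.lift_fst _ _ _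
  have hσ2 : ∀ i, σ i ≫ pullback.snd _ _ = s i := fun i => pullback.lift_snd _ _ _
  have hWi : ∀ i, IsAlgSpace (pullback (g i) (pullback.fst t v)) := fun i =>
    K613.Chart.isAlgSpace_pullback (hT' i) hW hT _ _
  have hσo : ∀ i, IsOpen (Set.range (Points.map (σ i))) := by
    intro i
    have h1 : IsEtaleMor (σ i ≫ pullback.fst _ _) := by
      rw [hσ1]; intro U φ hφ; rwa [Category.comp_id]
    have h2 : IsEtaleMor (pullback.fst (g i) (pullback.fst t v)) :=
      K610.EtaleMor.isEtaleMor_baseChange hW (hWi i) (hT' i) (IsPullback.of_hasPullback _ _) hw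
    have h3 := K610.EtaleMor.isEtaleMor_of_comp (hT' i) (hWi i) h1 h2
    have h4 := K596.QC2.isUnivOpenMor_of_isEtaleMor (hT' i) h3
    exact (h4 (hWi i) (𝟙 _) (𝟙 _) (σ i) (IsPullback.of_horiz_isIso (CommSq.mk (by simp)))).isOpen_range
  have hpre : ∀ i z, Points.map (pullback.snd (g i) (pullback.fst t v)) z ∈ O → z ∈ Set.range (Points.map (σ i)) := by
    rintro i z ⟨j, y, hy⟩
    obtain ⟨r, hr1, hr2⟩ := K610.Base.exists_of_isPullback (IsPullback.of_hasPullback
      (pullback.snd (g i) (pullback.fst t v)) (s j)) z y hy.symm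
    -- on the fibre product the map to `W_i` is through `σ i`
    have e1 : (pullback.fst (pullback.snd (g i) (pullback.fst t v)) (s j) ≫ pullback.fst _ _) ≫ g i =
        pullback.snd (pullback.snd (g i) (pullback.fst t v)) (s j) ≫ g j := by
      rw [Category.assoc, pullback.condition, ← Category.assoc, pullback.condition, Category.assoc, hs1]
    have e2 := hss i j _ _ _ e1
    have e3 : pullback.fst (pullback.snd (g i) (pullback.fst t v)) (s j) =
        (pullback.fst (pullback.snd (g i) (pullback.fst t v)) (s j) ≫ pullback.fst _ _) ≫ σ i := by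
      apply pullback.hom_ext
      · rw [Category.assoc _ (σ i), hσ1, Category.comp_id]
      · rw [Category.assoc _ (σ i), hσ2, e2, pullback.condition]
    refine ⟨Points.map (pullback.fst (pullback.snd (g i) (pullback.fst t v)) (s j) ≫ pullback.fst _ _) r, ?_⟩
    rw [← Points.map_comp, ← e3, hr1]
  have hO : IsOpen O := by
    have hcl : ∀ i, IsClosed (Points.map (pullback.snd (g i) (pullback.fst t v)) ''
        (Set.range (Points.map (σ i)))ᶜ) := fun i =>
      hg i hW (pullback.fst t v) _ _ (IsPullback.of_hasPullback _ _) _ (hσo i).isClosed_compl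
    have hcu := isClosed_iUnion_of_finite hcl
    have he : (⋃ i, Points.map (pullback.snd (g i) (pullback.fst t v)) ''
        (Set.range (Points.map (σ i)))ᶜ) = Oᶜ := by
      ext x
      simp only [Set.mem_iUnion, Set.mem_compl_iff]
      constructor
      · rintro ⟨i, z, hz, rfl⟩ hx
        exact hz (hpre i z hx)
      · intro hx
        obtain ⟨i, x', hx'⟩ := hs (Points.map (pullback.fst t v) x)
        obtain ⟨z, hz1, hz2⟩ := K610.Base.exists_of_isPullback (IsPullback.of_hasPullback (g i)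
          (pullback.fst t v)) x' x hx'
        refine ⟨i, z, ?_, hz2⟩
        rintro ⟨y, rfl⟩
        apply hx
        refine ⟨i, y, ?_⟩
        rw [← hz2, ← Points.map_comp, hσ2]
    rw [he] at hcu
    exact isOpen_compl_iff.1 hcu.isOpen_compl |>.isOpen_compl |> fun h => by simpa using h
  obtain ⟨X', j, hj, hjr⟩ := K610.Sub.exists_open_subspace ⟨pullback t v, hW⟩ O hO
  have hX' : IsAlgSpace X'.obj := X'.property
  have hsl : ∀ i, ∃ s' : T' i ⟶ X'.obj, s' ≫ j.hom = s i := fun i =>
    exists_lift_of_range hj (s i) fun x => by rw [hjr]; exact ⟨i, x, rfl⟩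
  choose s' hs' using hsl
  have hjm : Mono j.hom := K610.Factor.mono_of_isOpenImmersion hj
  have hs's : ∀ x : Points X'.obj, ∃ i y, Points.map (s' i) y = x := by
    intro x
    obtain ⟨i, y, hy⟩ : Points.map j.hom x ∈ O := hjr ▸ ⟨x, rfl⟩
    refine ⟨i, y, (K610.OpenImm.isOpenEmbedding_points hW hj).injective ?_⟩
    rw [← Points.map_comp, hs', hy]
  have hq : IsEtaleMor (j.hom ≫ pullback.fst t v) := by
    intro U φ hφ
    rw [← Category.assoc]
    exact hw _ (K610.EtaleMor.comp_etale hφ (K610.OpenImm.repWith_etale_of_open hj))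
  have hqm : Mono (j.hom ≫ pullback.fst t v) := by
    constructor
    intro R α β hαβ
    refine eq_of_points hX' hT hq α β hαβ fun x => ?_
    obtain ⟨i, y, hy⟩ := hs's (Points.map α x)
    obtain ⟨k, z, hz⟩ := hs's (Points.map β x)
    obtain ⟨c, hc1, hc2⟩ := K610.Base.exists_of_isPullback (IsPullback.of_hasPullback (s' i) α) y x hy
    obtain ⟨d, hd1, hd2⟩ := K610.Base.exists_of_isPullback (IsPullback.of_hasPullback (s' k) β) z x hz
    obtain ⟨e, he1, he2⟩ := K610.Base.exists_of_isPullback (IsPullback.of_hasPullback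
      (pullback.snd (s' i) α) (pullback.snd (s' k) β)) c d (hc2.trans hd2.symm)
    refine ⟨_, pullback.fst (pullback.snd (s' i) α) (pullback.snd (s' k) β) ≫ pullback.snd _ _, e, ?_, ?_⟩
    · rw [Points.map_comp, he1, hc2]
    · have f1 : (pullback.fst (pullback.snd (s' i) α) (pullback.snd (s' k) β) ≫ pullback.snd _ _) ≫ α =
          (pullback.fst (pullback.snd (s' i) α) (pullback.snd (s' k) β) ≫ pullback.fst _ _) ≫ s' i := by
        rw [Category.assoc, Category.assoc, pullback.condition]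
      have f2 : (pullback.fst (pullback.snd (s' i) α) (pullback.snd (s' k) β) ≫ pullback.snd _ _) ≫ β =
          (pullback.snd (pullback.snd (s' i) α) (pullback.snd (s' k) β) ≫ pullback.fst _ _) ≫ s' k := by
        rw [pullback.condition, Category.assoc, Category.assoc, pullback.condition]
      rw [f1, f2, ← cancel_mono j.hom, Category.assoc _ (s' i), Category.assoc _ (s' k), hs', hs']
      apply hss
      have f3 := congrArg (· ≫ j.hom ≫ pullback.fst t v) f1
      have f4 := congrArg (· ≫ j.hom ≫ pullback.fst t v) f2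
      simp only [Category.assoc] at f3 f4 hαβ
      rw [reassoc_of% hs', hs1] at f3 f4
      rw [Category.assoc, Category.assoc, ← f3, ← f4, hαβ]
  have hqs : Function.Surjective (Points.map (j.hom ≫ pullback.fst t v)) := by
    intro x
    obtain ⟨i, x', hx'⟩ := hs x
    refine ⟨Points.map (s' i) x', ?_⟩
    rw [← Points.map_comp, ← Category.assoc, hs', hs1, hx']
  have hqi : IsIso (j.hom ≫ pullback.fst t v) := isIso_of_mono hX' hq hqm hqs
  refine ⟨inv (j.hom ≫ pullback.fst t v) ≫ j.hom ≫ pullback.snd t v, ?_, fun i => ?_⟩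
  · rw [Category.assoc, Category.assoc, ← pullback.condition, ← Category.assoc j.hom, IsIso.inv_hom_id_assoc]
  · have : g i = s' i ≫ j.hom ≫ pullback.fst t v := by rw [reassoc_of% hs', hs1]
    rw [this, Category.assoc, Category.assoc]
    have h2 := IsIso.hom_inv_id_assoc (j.hom ≫ pullback.fst t v) (j.hom ≫ pullback.snd t v)
    rw [Category.assoc] at h2
    rw [h2, reassoc_of% hs', hs2]

end Glue

theorem isUnivClosedMor_of_closed {F G : Sp S} {i : F ⟶ G} (hi : RepWith @IsClosedImmersion i) :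
    IsUnivClosedMor i :=
  (K596.Univ.repWith_universallyClosed_iff hi.1).1
    (K596.Univ.repWith_mono (fun _ _ _ h => by have : IsClosedImmersion _ := h; exact inferInstance) hi)

/-- Glueing along two jointly surjective universally closed maps. -/
theorem glue₂ {T Y V A B : Sp S} {v : V ⟶ Y} {t : T ⟶ Y} (hT : IsAlgSpace T) (hV : IsAlgSpace V)
    (hY : IsAlgSpace Y) (hv : IsEtaleMor v) (hA : IsAlgSpace A) (hB : IsAlgSpace B) (gA : A ⟶ T) (gB : B ⟶ T)
    (hgA : IsUnivClosedMor gA) (hgB : IsUnivClosedMor gB)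
    (hs : ∀ x : Points T, x ∈ Set.range (Points.map gA) ∨ x ∈ Set.range (Points.map gB))
    (a : A ⟶ V) (b : B ⟶ V) (ha : a ≫ v = gA ≫ t) (hb : b ≫ v = gB ≫ t)
    (haa : ∀ (R : Sp S) (p q : R ⟶ A), p ≫ gA = q ≫ gA → p ≫ a = q ≫ a)
    (hbb : ∀ (R : Sp S) (p q : R ⟶ B), p ≫ gB = q ≫ gB → p ≫ b = q ≫ b)
    (hab : ∀ (R : Sp S) (p : R ⟶ A) (q : R ⟶ B), p ≫ gA = q ≫ gB → p ≫ a = q ≫ b) :
    ∃ m : T ⟶ V, m ≫ v = t ∧ gA ≫ m = a ∧ gB ≫ m = b := by
  let T' : Bool → Sp S := fun i => match i with | true => A | false => B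
  let g : ∀ i, T' i ⟶ T := fun i => match i with | true => gA | false => gB
  let a' : ∀ i, T' i ⟶ V := fun i => match i with | true => a | false => b
  obtain ⟨m, hm1, hm2⟩ := glue (T' := T') (g := g) (a := a') (t := t) (v := v) hT hV hY hv
    (by rintro (_ | _) <;> assumption) (by rintro (_ | _) <;> assumption)
    (by
      intro x
      rcases hs x with ⟨y, hy⟩ | ⟨y, hy⟩
      · exact ⟨true, y, hy⟩
      · exact ⟨false, y, hy⟩)
    (by rintro (_ | _) <;> assumption)
    (by
      rintro (_ | _) (_ | _)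
      · exact hbb _ _ _ pullback.condition
      · exact (hab _ _ _ pullback.condition.symm).symm
      · exact hab _ _ _ pullback.condition
      · exact haa _ _ _ pullback.condition)
  exact ⟨m, hm1, hm2 true, hm2 false⟩

/-- Glueing along one surjective universally closed map. -/
theorem desc {T Y V A : Sp S} {v : V ⟶ Y} {t : T ⟶ Y} (hT : IsAlgSpace T) (hV : IsAlgSpace V)
    (hY : IsAlgSpace Y) (hv : IsEtaleMor v) (hA : IsAlgSpace A) (gA : A ⟶ T)
    (hgA : IsUnivClosedMor gA) (hs : Function.Surjective (Points.map gA))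
    (a : A ⟶ V) (ha : a ≫ v = gA ≫ t)
    (haa : ∀ (R : Sp S) (p q : R ⟶ A), p ≫ gA = q ≫ gA → p ≫ a = q ≫ a) :
    ∃ m : T ⟶ V, m ≫ v = t ∧ gA ≫ m = a := by
  obtain ⟨m, hm1, hm2⟩ := glue (ι := PUnit.{1}) (T' := fun _ => A) (g := fun _ => gA) (a := fun _ => a) (t := t)
    (v := v) hT hV hY hv (fun _ => hA) (fun _ => hgA)
    (fun x => by obtain ⟨y, hy⟩ := hs x; exact ⟨⟨⟩, y, hy⟩) (fun _ => ha)
    (fun _ _ => haa _ _ _ pullback.condition)
  exact ⟨m, hm1, hm2 ⟨⟩⟩

end K635.EtTop
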