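import Groth.Agent.AlgSp.K635.Glue
import Groth.Agent.Divis.IdealComap

/-!
# Thickenings of algebraic spaces: base change and independence of the charts
-/

set_option autoImplicit false

universe u

open CategoryTheory CategoryTheory.Limits AlgebraicGeometry Opposite

namespace K635.Thick

open AlgSp K635.Glue

variable {S : Scheme.{u}}

/-! ## Schemes -/

theorem ker_of_isPullback {P X Y Z : Scheme.{u}} {p : P ⟶ X} {q : P ⟶ Z} {f : X ⟶ Y} {i : Z ⟶ Y}
    (sq : IsPullback p q f i) [IsClosedImmersion i] : p.ker = i.ker.comap f := by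
  rw [← Scheme.IdealSheafData.ker_fst_of_isClosedImmersion i f]
  have h : sq.isoPullback.hom ≫ pullback.fst f i = p := sq.isoPullback_hom_fst
  rw [← h, Scheme.Hom.ker_comp_of_isIso]

theorem powZero_of_isPullback {P X Y Z : Scheme.{u}} {p : P ⟶ X} {q : P ⟶ Z} {f : X ⟶ Y} {i : Z ⟶ Y}
    (sq : IsPullback p q f i) [IsClosedImmersion i] {n : ℕ} (h : powZero n i) : powZero n p := by
  change p.ker ^ (n + 1) = ⊥
  have h' : i.ker ^ (n + 1) = ⊥ := h
  rw [ker_of_isPullback sq, ← Groth.Agent.Divis.IdealComap.comap_pow, h', Scheme.IdealSheafData.comap_bot]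

/-- An ideal sheaf whose pullbacks along a jointly surjective flat family vanish is zero. -/
theorem eq_bot_of_comap_eq_bot {ι : Type*} {Y : Scheme.{u}} (J : Y.IdealSheafData) (Y' : ι → Scheme.{u})
    (g : ∀ i, Y' i ⟶ Y) (hg : ∀ i, Flat (g i)) (hs : ∀ y : Y, ∃ i, y ∈ Set.range (g i))
    (h : ∀ i, J.comap (g i) = ⊥) : J = ⊥ := by
  refine Scheme.IdealSheafData.ext (funext fun U ↦ ?_)
  rw [Scheme.IdealSheafData.ideal_bot, Pi.bot_apply, eq_bot_iff]
  intro a ha
  rw [Ideal.mem_bot]
  apply TopCat.Presheaf.section_ext Y.sheaf U.1 a 0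
  intro x hx
  obtain ⟨i, y, rfl⟩ := hs x
  obtain ⟨V, hV, hyV, hVU⟩ := exists_affine_nhd y ((g i) ⁻¹ᵁ U.1) hx
  have h1 := Groth.Agent.Divis.IdealComap.ideal_comap J (g i) U ⟨V, hV⟩ hVU
  rw [h i, Scheme.IdealSheafData.ideal_bot, Pi.bot_apply] at h1
  have h2 : ((g i).appLE U.1 V hVU).hom a = 0 := by
    rw [← Ideal.mem_bot, h1]
    exact Ideal.mem_map_of_mem _ ha
  have hinj : Function.Injective ((g i).stalkMap y).hom := by
    have := hg i
    algebraize [((g i).stalkMap y).hom]
    have h3 : Module.Flat (Y.presheaf.stalk ((g i) y)) ((Y' i).presheaf.stalk y) := Flat.stalkMap (g i) y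
    have h4 : IsLocalHom (algebraMap (Y.presheaf.stalk ((g i) y)) ((Y' i).presheaf.stalk y)) :=
      inferInstanceAs (IsLocalHom ((g i).stalkMap y).hom)
    have := Module.FaithfullyFlat.of_flat_of_isLocalHom (A := Y.presheaf.stalk ((g i) y))
      (B := (Y' i).presheaf.stalk y)
    exact FaithfulSMul.algebraMap_injective _ _
  rw [map_zero]
  refine hinj (Eq.trans ?_ (map_zero _).symm)
  change ((g i).stalkMap y).hom ((Y.presheaf.germ U.1 ((g i) y) hx).hom a) = 0
  have h5 := (g i).germ_stalkMap_apply U.1 y hx a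
  refine h5.trans ?_
  have h6 : ((Y' i).presheaf.germ V y hyV).hom (((g i).appLE U.1 V hVU).hom a) = 0 := by rw [h2, map_zero]
  rw [← h6, Scheme.Hom.appLE, CommRingCat.hom_comp, RingHom.comp_apply]
  exact ((Y' i).presheaf.germ_res_apply (homOfLE hVU) y hyV _).symm

theorem powZero_of_cover {ι : Type*} {W V : Scheme.{u}} (i : W ⟶ V) [IsClosedImmersion i]
    (V' W' : ι → Scheme.{u}) (g : ∀ k, V' k ⟶ V) (hg : ∀ k, Flat (g k))
    (hs : ∀ y : V, ∃ k, y ∈ Set.range (g k)) (i' : ∀ k, W' k ⟶ V' k) (w : ∀ k, W' k ⟶ W)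
    (sq : ∀ k, IsPullback (i' k) (w k) (g k) i) {n : ℕ} (h : ∀ k, powZero n (i' k)) : powZero n i := by
  change i.ker ^ (n + 1) = ⊥
  refine eq_bot_of_comap_eq_bot _ V' g hg hs (fun k ↦ ?_)
  rw [Groth.Agent.Divis.IdealComap.comap_pow, ← ker_of_isPullback (sq k)]
  exact h k

/-- Surjective closed immersions whose ideal `I` satisfies `I ^ (n + 1) = 0`. -/
def nthick (n : ℕ) : MorphismProperty Scheme.{u} := thick ⊓ powZero n

instance nthick_isStableUnderBaseChange (n : ℕ) : (nthick.{u} n).IsStableUnderBaseChange where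
  of_isPullback {X Y Y' W f g f' g'} sq h := by
    have : IsClosedImmersion g := h.1.1
    exact ⟨MorphismProperty.of_isPullback sq h.1, powZero_of_isPullback sq.flip h.2⟩

instance nthick_respectsIso (n : ℕ) : (nthick.{u} n).RespectsIso :=
  MorphismProperty.IsStableUnderBaseChange.respectsIso

theorem nthick_one_iff {X X' : Scheme.{u}} (i : X ⟶ X') :
    nthick 1 i ↔ MoreMor.IsFirstOrderThickening i := by
  change (IsClosedImmersion i ∧ Surjective i) ∧ powZero 1 i ↔ (IsClosedImmersion i ∧ Surjective i) ∧ _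
  rw [powZero_one_iff]
  rfl

theorem nthick_mono {m n : ℕ} (h : m ≤ n) {X X' : Scheme.{u}} {i : X ⟶ X'} (hi : nthick m i) : nthick n i := by
  refine ⟨hi.1, ?_⟩
  change i.ker ^ (n + 1) = ⊥
  have h' : i.ker ^ (m + 1) = ⊥ := hi.2
  obtain ⟨k, rfl⟩ := Nat.exists_eq_add_of_le h
  rw [show m + k + 1 = (m + 1) + k by ring, pow_add, h', ← Scheme.IdealSheafData.zero_eq_bot, zero_mul]

/-! ## Sheaves -/

theorem isPullback_of_yon {A B C D : Over S} {a : A ⟶ B} {b : A ⟶ C} {c : B ⟶ D} {d : C ⟶ D}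
    (sq : IsPullback ((yon S).map a) ((yon S).map b) ((yon S).map c) ((yon S).map d)) : IsPullback a b c d :=
  IsPullback.of_map (yon S) ((yon S).map_injective (by simpa using sq.w)) sq

theorem isPullback_left {A B C D : Over S} {a : A ⟶ B} {b : A ⟶ C} {c : B ⟶ D} {d : C ⟶ D}
    (sq : IsPullback a b c d) : IsPullback a.left b.left c.left d.left :=
  sq.map (Over.forget S)

/-- The pullback of a represented pullback along a morphism of schemes. -/
theorem exists_pullback_comp {F G : Sp S} {i : F ⟶ G} {V W : Over S} {b : (yon S).obj V ⟶ G}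
    {fst : (yon S).obj W ⟶ F} {snd : W ⟶ V} (sq : IsPullback fst ((yon S).map snd) i b)
    {V' : Over S} (g : V' ⟶ V) :
    IsPullback ((yon S).map (pullback.fst snd g) ≫ fst) ((yon S).map (pullback.snd snd g)) i
      ((yon S).map g ≫ b) :=
  ((IsPullback.of_hasPullback snd g).map (yon S)).paste_horiz sq

/-- `i` is an `n`th order thickening iff every represented pullback of `i` is one. -/
theorem isNThickMor_iff {n : ℕ} {F G : Sp S} (hG : IsAlgSpace G) (i : F ⟶ G) :
    IsNThickMor n i ↔ RepWith (nthick n) i := by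
  constructor
  · rintro ⟨h1, h2⟩
    refine ⟨h1.1, fun V W b fst snd sq ↦ ⟨h1.2 _ _ _ sq, ?_⟩⟩
    have hcl : IsClosedImmersion snd.left := (h1.2 _ _ _ sq).1
    obtain ⟨ι, V', g, A, c, k, -, hg, hs, hc, hw⟩ := exists_cover_chart hG b
    -- pullback over the chart
    choose Q q r sqQ using fun x ↦ h1.1 (c x)
    have hq : ∀ x, powZero n (q x).left := fun x ↦ h2 _ _ _ (hc x).aff (hc x).et (sqQ x)
    have hqc : ∀ x, IsClosedImmersion (q x).left := fun x ↦ (h1.2 _ _ _ (sqQ x)).1
    have e1 := fun x ↦ exists_pullback_comp sq (g x)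
    have e2 := fun x ↦ exists_pullback_comp (sqQ x) (k x)
    refine powZero_of_cover snd.left (fun x ↦ (V' x).left) (fun x ↦ (pullback snd (g x)).left)
      (fun x ↦ (g x).left) (fun x ↦ by have := hg x; infer_instance) hs
      (fun x ↦ (pullback.snd snd (g x)).left) (fun x ↦ (pullback.fst snd (g x)).left)
      (fun x ↦ (isPullback_left (IsPullback.of_hasPullback snd (g x))).flip) (fun x ↦ ?_)
    have := hqc x
    have h3 : powZero n (pullback.snd (q x) (k x)).left :=
      powZero_of_isPullback (isPullback_left (IsPullback.of_hasPullback (q x) (k x))).flip (hq x)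
    -- compare the two pullbacks
    have e1' := e1 x
    rw [hw] at e1'
    let e := e1'.isoIsPullback _ _ (e2 x)
    obtain ⟨m, hm⟩ := (yon S).map_surjective e.hom
    have : IsIso ((yon S).map m) := by rw [hm]; infer_instance
    have : IsIso m := isIso_of_fully_faithful (yon S) m
    have hm2 : m ≫ pullback.snd (q x) (k x) = pullback.snd snd (g x) := by
      apply (yon S).map_injective
      rw [Functor.map_comp, hm]
      exact e1'.isoIsPullback_hom_snd _ _ (e2 x)
    change (pullback.snd snd (g x)).left.ker ^ (n + 1) = ⊥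
    have : IsIso m.left := inferInstanceAs (IsIso ((Over.forget S).map m))
    rw [← hm2, Over.comp_left, Scheme.Hom.ker_comp_of_isIso]
    exact h3
  · intro h
    exact ⟨⟨h.1, fun V W b fst snd sq ↦ (h.2 _ _ _ sq).1⟩, fun V W b fst snd _ _ sq ↦ (h.2 _ _ _ sq).2⟩

/-- First order thickenings of schemes, as a property of morphisms. -/
abbrev fot : MorphismProperty Scheme.{u} := nthick 1

theorem isFOThickMor_iff {F G : Sp S} (hG : IsAlgSpace G) (i : F ⟶ G) :
    IsFOThickMor i ↔ RepWith fot i :=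
  (isNThickMor_one_iff i).symm.trans (isNThickMor_iff hG i)

theorem isNThickMor_yon_map_iff {n : ℕ} {V W : Over S} (g : V ⟶ W) :
    IsNThickMor n ((yon S).map g) ↔ nthick n g.left :=
  (isNThickMor_iff (IsAlgSpace.yon_obj W) _).trans (repWith_yon_map_iff _ g)

theorem isFOThickMor_yon_map_iff {V W : Over S} (g : V ⟶ W) :
    IsFOThickMor ((yon S).map g) ↔ MoreMor.IsFirstOrderThickening g.left :=
  (isFOThickMor_iff (IsAlgSpace.yon_obj W) _).trans ((repWith_yon_map_iff _ g).trans (nthick_one_iff _))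

/-- Base change of `n`th order thickenings of algebraic spaces. -/
theorem isNThickMor_of_isPullback {n : ℕ} {F G F' G' : Sp S} (hG : IsAlgSpace G) (hG' : IsAlgSpace G')
    {i : F ⟶ G} {i' : F' ⟶ G'} {f : F' ⟶ F} {g : G' ⟶ G} (sq : IsPullback f i' i g)
    (h : IsNThickMor n i) : IsNThickMor n i' := by
  rw [isNThickMor_iff hG'] 
  rw [isNThickMor_iff hG] at h
  exact MorphismProperty.of_isPullback sq h

theorem isFOThickMor_of_isPullback {F G F' G' : Sp S} (hG : IsAlgSpace G) (hG' : IsAlgSpace G')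
    {i : F ⟶ G} {i' : F' ⟶ G'} {f : F' ⟶ F} {g : G' ⟶ G} (sq : IsPullback f i' i g)
    (h : IsFOThickMor i) : IsFOThickMor i' :=
  (isNThickMor_one_iff i').1 (isNThickMor_of_isPullback hG hG' sq ((isNThickMor_one_iff i).2 h))

end K635.Thick
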