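import Groth.Agent.AlgSp.K635.LvlPre
import Groth.Agent.AlgSp.K603.ModSm
import Groth.Agent.AlgSp.K650.ArcOpen
import Groth.Agent.AlgSp.K93.ArcClos
import Groth.Agent.AlgSp.K925.RedFin
import Groth.Agent.AlgSp.K925.RedGrp

/-!
# Node G1: the generic data after a finite extension
-/

set_option autoImplicit false
universe u

open CategoryTheory CategoryTheory.Limits AlgebraicGeometry MonoidalCategory CartesianMonoidalCategory MonObj AlgSp

namespace K635.LvlFib

open K622.AnDefs K622.AnDefs2 K612.OrbFlat K624.GrpBC K612.ArcDefs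

/-- **Node G1.** -/
theorem lvl1_of (hA : OpenA.{u}) (hC : Clos.{u}) : K612.ArcDefs.Lvl1.{u} := by
  intro R K _ _ _ hRf _ _ _ G _ hG hl hfl hsr hU
  have hflat : ∀ {Γ : Over (Spec (CommRingCat.of R))} (j : (yon _).obj Γ ⟶ G.left),
      RepWith @IsOpenImmersion j → Flat Γ.hom := fun j hj =>
    hfl j (K597.repWith_mono (fun _ _ f hf => by
      have : IsOpenImmersion f := hf
      exact (inferInstance : Etale f)) hj)
  -- a maximal ideal of `R`
  obtain ⟨q₀⟩ : Nonempty (MaximalSpectrum R) := inferInstance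
  obtain ⟨Γ₀, j₀, T, e₀, hj₀, hsep₀, hlft₀, hqc₀, hT, he₀⟩ := hU q₀
  subst hT
  -- the extension
  obtain ⟨K₁, i1, i2, hfd, hpi, hred⟩ := K925.RedGrp.exists_finite (pullback.snd Γ₀.hom (gn R K))
  let i3 : Algebra R K₁ := ((algebraMap K K₁).comp (algebraMap R K)).toAlgebra
  have hst : IsScalarTower R K K₁ := IsScalarTower.of_algebraMap_eq fun _ => rfl
  let g : Spec (CommRingCat.of (integralClosure R K₁)) ⟶ Spec (CommRingCat.of R) :=
    Spec.map (CommRingCat.ofHom (algebraMap R (integralClosure R K₁)))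
  let t₁ : Spec (CommRingCat.of K₁) ⟶ Spec (CommRingCat.of R) := gn (integralClosure R K₁) K₁ ≫ g
  let k : Spec (CommRingCat.of K₁) ⟶ Spec (CommRingCat.of K) := Spec.map (CommRingCat.ofHom (algebraMap K K₁))
  have ht₁ : t₁ = k ≫ gn R K := by
    change Spec.map _ ≫ Spec.map _ = Spec.map _ ≫ Spec.map _
    rw [← Spec.map_comp, ← Spec.map_comp]
    rfl
  have hDed : IsDedekindDomain (integralClosure R K₁) := K612.ChRep.isDedekindDomain R K K₁
  have hFr : IsFractionRing (integralClosure R K₁) K₁ := integralClosure.isFractionRing_of_finite_extension K K₁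
  obtain ⟨D⟩ := exists_fibGrp (G := G) t₁ hG hsr
  have hlA : LocallyOfFiniteType D.A.hom := D.lft hG hl
  -- the open subscheme of the fibre over `K₁`
  obtain ⟨jA, hjA, hjc⟩ := D.exists_open j₀ hj₀
  obtain ⟨eV, heV1, heV2, hη⟩ := D.exists_unit jA hjc e₀ he₀
    (k ≫ Spec.map (CommRingCat.ofHom (locMap (K := K) q₀))) (by
      change (k ≫ Spec.map _) ≫ Spec.map _ = t₁
      rw [Category.assoc, ← Spec.map_comp, ← CommRingCat.ofHom_comp, locMap_comp, ht₁])
  let a : pullback Γ₀.hom t₁ ⟶ pullback Γ₀.hom (gn R K) :=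
    pullback.lift (pullback.fst Γ₀.hom t₁) (pullback.snd Γ₀.hom t₁ ≫ k) (by
      rw [Category.assoc, ← ht₁]; exact pullback.condition)
  have sqa : IsPullback a (pullback.snd Γ₀.hom t₁) (pullback.snd Γ₀.hom (gn R K)) k := by
    refine IsPullback.of_right (h₁₂ := pullback.fst Γ₀.hom (gn R K)) (h₂₂ := gn R K) (v₁₃ := Γ₀.hom) ?_
      (pullback.lift_snd _ _ _) (IsPullback.of_hasPullback _ _)
    rw [pullback.lift_fst, ← ht₁]
    exact IsPullback.of_hasPullback Γ₀.hom t₁
  obtain ⟨Xr, r, hr1, hr2, hr3⟩ := K603.ModSm.exists_red (pullback Γ₀.hom t₁)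
  have hgr : GeometricallyReduced (r ≫ pullback.snd Γ₀.hom t₁) := by
    refine hred K₁ (RingHom.id K₁) a (pullback.snd Γ₀.hom t₁) ?_ r
    exact sqa
  have hgr' : GeometricallyReduced (r ≫ jA.left ≫ D.A.hom) := by
    have h1 : jA.left ≫ D.A.hom = pullback.snd Γ₀.hom t₁ := Over.w jA
    rw [h1]
    exact hgr
  obtain ⟨H, hH, i, hi, hic, hHs, hHg, hHq, hHr⟩ := K925.RedGrp.main D.A jA.left
    ⟨eV (IsLocalRing.closedPoint K₁), by rw [← hη]; rfl⟩ r
  refine ⟨K₁, i1, i2, hfd, i3, hst, H, hH, (yon _).map ((Over.map t₁).map i) ≫ D.h, hHs, hHg, hHq,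
    K612.ArcHom.isHom_comp i D.hom, fun q => ?_⟩
  -- the maximal ideal of `R`
  have hint : Algebra.IsIntegral R (integralClosure R K₁) := inferInstance
  let q' : MaximalSpectrum R := ⟨q.asIdeal.comap (algebraMap R (integralClosure R K₁)),
    Ideal.isMaximal_comap_of_isIntegral_of_isMaximal q.asIdeal⟩
  obtain ⟨Γ, j, T, e, hj, hsep, hlft, hqc, hT, he⟩ := hU q'
  subst hT
  let ψ : Localization.AtPrime q'.asIdeal →+* Localization.AtPrime q.asIdeal :=
    Localization.localRingHom q'.asIdeal q.asIdeal (algebraMap R (integralClosure R K₁)) rfl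
  have hψ : ψ.comp (algebraMap R _) = (algebraMap (integralClosure R K₁) _).comp (algebraMap R _) :=
    RingHom.ext fun x => Localization.localRingHom_to_map q'.asIdeal q.asIdeal
      (algebraMap R (integralClosure R K₁)) rfl x
  let m : (Over.map g).obj (loc q) ⟶ loc q' := Over.homMk (Spec.map (CommRingCat.ofHom ψ)) (by
    change Spec.map _ ≫ Spec.map _ = Spec.map _ ≫ Spec.map _
    rw [← Spec.map_comp, ← Spec.map_comp, ← CommRingCat.ofHom_comp, ← CommRingCat.ofHom_comp, hψ])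
  refine exists_pre hA hC g D hlA H i hHr q j hj hlft (hflat j hj) hqc (m ≫ e) ?_
  rw [Functor.map_comp, Category.assoc, he, ← Category.assoc, ← Functor.map_comp]
  congr 2
  exact Over.mkIdTerminal.hom_ext _ _

theorem lvl1 : K612.ArcDefs.Lvl1.{u} :=
  lvl1_of (fun A H _ _ _ i _ _ _ hr hη _ jA _ eV he => K650.ArcOpen.main A H i hr hη jA eV he)
    (fun f _ _ _ _ sqV _ v _ => K93.ArcClos.exists_closure f sqV v)

end K635.LvlFib
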