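import Groth.Agent.AlgSp.K635.Univ

/-!
# The first order infinitesimal neighbourhood is a universal first order thickening
-/

set_option autoImplicit false

universe u

open CategoryTheory CategoryTheory.Limits AlgebraicGeometry Opposite

namespace K635.InfNbhd

open AlgSp K635.Glue K635.Thick K635.GlueLift K635.EtLift K635.InfLift K635.Formal K635.Univ

variable {S : Scheme.{u}}

/-! ## Schemes -/

/-- A closed immersion with nilpotent kernel is a thickening. -/
theorem nthick_of_powZero {X Y : Scheme.{u}} (i : X ⟶ Y) [IsClosedImmersion i] {n : ℕ} (h : powZero n i) :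
    nthick n i := by
  refine ⟨⟨‹_›, ⟨?_⟩⟩, h⟩
  have h1 : (i.ker ^ (n + 1)).support = i.ker.support := Scheme.IdealSheafData.support_pow_succ _ _
  have h2 : i.ker ^ (n + 1) = ⊥ := h
  have h3 := i.support_ker
  rw [← h1, h2] at h3
  have h4 : closure (Set.range i) = Set.range i := i.isClosedEmbedding.isClosed_range.closure_eq
  rw [h4] at h3
  intro y
  have h5 : y ∈ ((⊥ : Y.IdealSheafData).support : Set Y) := by
    rw [Scheme.IdealSheafData.support_bot]; trivial
  rw [h3] at h5
  exact h5

/-- `W ⊆ Wₙ ⊆ V` closed with `I(Wₙ) = I(W) ^ (n + 1)`: then `W ⊆ Wₙ` is an `n`th order thickening. -/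
theorem nthick_of_ker_eq {W Wn V : Scheme.{u}} (r : W ⟶ Wn) (g : Wn ⟶ V) (f : W ⟶ V) [IsClosedImmersion g]
    [IsClosedImmersion f] (w : r ≫ g = f) {n : ℕ} (h : g.ker = f.ker ^ (n + 1)) : nthick n r := by
  subst w
  have hr : IsClosedImmersion r := IsClosedImmersion.of_comp r g
  have sq : IsPullback r (𝟙 W) g (r ≫ g) := IsPullback.of_iso (IsPullback.of_hasPullback g (r ≫ g))
    ((asIso (pullback.snd g (r ≫ g)))) (Iso.refl _) (Iso.refl _) (Iso.refl _) (by
      rw [← cancel_mono g]
      simp [pullback.condition]) (by simp) (by simp) (by simp)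
  refine nthick_of_powZero r ?_
  have sq2 : IsPullback (𝟙 Wn) (𝟙 Wn) g g := IsKernelPair.id_of_mono g
  change r.ker ^ (n + 1) = ⊥
  rw [ker_of_isPullback sq, ← Groth.Agent.Divis.IdealComap.comap_pow, ← h, ← ker_of_isPullback sq2]
  exact Scheme.Hom.ker_eq_bot_of_isIso _

/-! ## Sheaves -/

theorem mono_of_repWith {F G : Sp S} {k : F ⟶ G} (hk : RepWith @IsClosedImmersion k) : Mono k := by
  constructor
  intro Q a b w
  refine hom_ext_yon (fun T t ↦ ?_)
  obtain ⟨W, snd, fst, sq⟩ := hk.1 (t ≫ a ≫ k)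
  have : IsClosedImmersion snd.left := hk.2 _ _ _ sq
  have h0 : Mono snd.left := inferInstance
  have : Mono snd := Over.mono_of_mono_left snd
  obtain ⟨x, hx⟩ := (yon S).map_surjective (sq.lift (t ≫ a) (𝟙 _) (by simp))
  obtain ⟨y, hy⟩ := (yon S).map_surjective (sq.lift (t ≫ b) (𝟙 _) (by simp [w]))
  have hx1 : (yon S).map x ≫ fst = t ≫ a := by rw [hx]; exact sq.lift_fst _ _ _
  have hy1 : (yon S).map y ≫ fst = t ≫ b := by rw [hy]; exact sq.lift_fst _ _ _
  have hx2 : x ≫ snd = 𝟙 _ := (yon S).map_injective (by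
    rw [Functor.map_comp, hx, (yon S).map_id]; exact sq.lift_snd _ _ _)
  have hy2 : y ≫ snd = 𝟙 _ := (yon S).map_injective (by
    rw [Functor.map_comp, hy, (yon S).map_id]; exact sq.lift_snd _ _ _)
  have : x = y := by rw [← cancel_mono snd, hx2, hy2]
  rw [← hx1, ← hy1, this]

/-- Local criterion for being an `n`th order thickening. -/
theorem repWith_nthick_of_cover {F G : Sp S} {i : F ⟶ G} (hi : RepWith @IsClosedImmersion i) {n : ℕ}
    (H : ∀ (V : Over S) (b : (yon S).obj V ⟶ G), ∃ (ι : Type u) (V' : ι → Over S) (g : ∀ x, V' x ⟶ V),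
      (∀ x, Flat (g x).left) ∧ (∀ v : V.left, ∃ x, v ∈ Set.range (g x).left) ∧
      ∀ x, ∃ (W : Over S) (snd : W ⟶ V' x) (fst : (yon S).obj W ⟶ F),
        IsPullback fst ((yon S).map snd) i ((yon S).map (g x) ≫ b) ∧ powZero n snd.left) :
    RepWith (nthick n) i := by
  refine ⟨hi.1, fun V W b fst snd sq ↦ ?_⟩
  have hcl : IsClosedImmersion snd.left := hi.2 _ _ _ sq
  refine nthick_of_powZero snd.left ?_
  obtain ⟨ι, V', g, hg, hs, h⟩ := H V b
  refine powZero_of_cover snd.left (fun x ↦ (V' x).left) (fun x ↦ (pullback snd (g x)).left)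
    (fun x ↦ (g x).left) hg hs
    (fun x ↦ (pullback.snd snd (g x)).left) (fun x ↦ (pullback.fst snd (g x)).left)
    (fun x ↦ (isPullback_left (IsPullback.of_hasPullback snd (g x))).flip) (fun x ↦ ?_)
  obtain ⟨W', snd', fst', sq', h'⟩ := h x
  have e1 := exists_pullback_comp sq (g x)
  let e := e1.isoIsPullback _ _ sq'
  obtain ⟨m, hm⟩ := (yon S).map_surjective e.hom
  have : IsIso ((yon S).map m) := by rw [hm]; infer_instance
  have : IsIso m := isIso_of_fully_faithful (yon S) m
  have hm2 : m ≫ snd' = pullback.snd snd (g x) := by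
    apply (yon S).map_injective
    rw [Functor.map_comp, hm]
    exact e1.isoIsPullback_hom_snd _ _ sq'
  change (pullback.snd snd (g x)).left.ker ^ (n + 1) = ⊥
  have : IsIso m.left := inferInstanceAs (IsIso ((Over.forget S).map m))
  rw [← hm2, Over.comp_left, Scheme.Hom.ker_comp_of_isIso]
  exact h'

section

variable {Z U Z₁ : Sp S} {c : Z ⟶ U} {j : Z ⟶ Z₁} {k : Z₁ ⟶ U}

/-- The map from `Z` to its `n`th infinitesimal neighbourhood is an `n`th order thickening. -/
theorem repWith_nthick (hU : IsAlgSpace U) {n : ℕ} (hN : IsInfNbhd n c j k) : RepWith (nthick n) j := by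
  obtain ⟨hw, hc, hk, hI⟩ := hN
  have := mono_of_repWith hk
  have sqj : IsPullback (𝟙 Z) j c k := by
    subst hw
    refine ⟨⟨by simp⟩, ⟨PullbackCone.IsLimit.mk _ (fun s ↦ s.fst) (fun s ↦ by simp) (fun s ↦ ?_)
      (fun s m h1 _ ↦ by simpa using h1)⟩⟩
    rw [← cancel_mono k, Category.assoc, s.condition]
  have hj : RepWith @IsClosedImmersion j := MorphismProperty.of_isPullback sqj hc
  refine repWith_nthick_of_cover hj (fun V b ↦ ?_)
  obtain ⟨ι, V', g, B, a, q, -, hg, hs, ha, hw'⟩ := exists_cover_chart hU (b ≫ k)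
  refine ⟨ι, V', g, fun x ↦ by have := hg x; infer_instance, hs, fun x ↦ ?_⟩
  -- the pullbacks to the chart `B x` of `U`
  obtain ⟨W, snd, fst, sq⟩ := hc.1 (a x)
  obtain ⟨Wn, sndn, fstn, sqn⟩ := hk.1 (a x)
  have hcl : IsClosedImmersion snd.left := hc.2 _ _ _ sq
  have hcln : IsClosedImmersion sndn.left := hk.2 _ _ _ sqn
  obtain ⟨r, hr⟩ := (yon S).map_surjective (sqn.lift (fst ≫ j) ((yon S).map snd)
    (by rw [Category.assoc, hw, sq.w]))
  have hr1 : (yon S).map r ≫ fstn = fst ≫ j := by rw [hr]; exact sqn.lift_fst _ _ _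
  have hr2 : r ≫ sndn = snd := (yon S).map_injective (by
    rw [Functor.map_comp, hr]; exact sqn.lift_snd _ _ _)
  have hr3 : nthick n r.left := nthick_of_ker_eq r.left sndn.left snd.left
    (by rw [← Over.comp_left, hr2]) (hI _ _ _ _ _ (ha x).aff (ha x).et sq sqn)
  have sqr : IsPullback fst ((yon S).map r) j fstn := by
    refine IsPullback.of_bot ?_ hr1.symm sqn
    rw [← Functor.map_comp, hr2, hw]
    exact sq
  have w1 : ((yon S).map (g x) ≫ b) ≫ k = (yon S).map (q x) ≫ a x := by rw [Category.assoc, hw']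
  obtain ⟨y, hy⟩ := (yon S).map_surjective (sqn.lift _ _ w1)
  have hy1 : (yon S).map y ≫ fstn = (yon S).map (g x) ≫ b := by rw [hy]; exact sqn.lift_fst _ _ w1
  refine ⟨pullback r y, pullback.snd r y, (yon S).map (pullback.fst r y) ≫ fst, ?_, ?_⟩
  · rw [← hy1]
    exact exists_pullback_comp sqr y
  · have := hr3.1.1
    exact powZero_of_isPullback (isPullback_left (IsPullback.of_hasPullback r y)).flip hr3.2

/-- The first order infinitesimal neighbourhood of a closed subspace is a universal first order thickening. -/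
theorem isUnivFOThick (hU : IsAlgSpace U) (hZ₁ : IsAlgSpace Z₁) (hN : IsInfNbhd 1 c j k) :
    IsUnivFOThick c j k := by
  have hj := (isFOThickMor_iff hZ₁ j).2 (repWith_nthick hU hN)
  obtain ⟨hw, hc, hk, hI⟩ := hN
  have := mono_of_repWith hk
  refine isUnivFOThick_of_affine hj hw (fun T T' i hT' hi t b w ↦ ?_)
  suffices h : ∃ a' : (yon S).obj T' ⟶ Z₁, a' ≫ k = b by
    obtain ⟨a', ha'⟩ := h
    refine ⟨a', ⟨?_, ha'⟩, fun a'' h'' ↦ ?_⟩
    · rw [← cancel_mono k, Category.assoc, ha', w, Category.assoc, hw]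
    · rw [← cancel_mono k, ha', h''.2]
  obtain ⟨Wb, sndb, fstb, sqb⟩ := hk.1 b
  have hclb : IsClosedImmersion sndb.left := hk.2 _ _ _ sqb
  suffices h : sndb.left.ker = ⊥ by
    have h1 : IsIso sndb.left := IsClosedImmersion.isIso_iff_ker_eq_bot.2 h
    have h2 : IsIso sndb := by
      have : IsIso ((Over.forget S).map sndb) := h1
      exact isIso_of_reflects_iso sndb (Over.forget S)
    refine ⟨(yon S).map (inv sndb) ≫ fstb, ?_⟩
    rw [Category.assoc, sqb.w, ← Category.assoc, ← Functor.map_comp, IsIso.inv_hom_id, (yon S).map_id,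
      Category.id_comp]
  obtain ⟨ι, V', g, B, a, q, -, hg, hs, ha, hw'⟩ := exists_cover_chart hU b
  refine eq_bot_of_comap_eq_bot _ (fun x ↦ (V' x).left) (fun x ↦ (g x).left)
    (fun x ↦ by have := hg x; infer_instance) hs (fun x ↦ ?_)
  obtain ⟨W, snd, fst, sq⟩ := hc.1 (a x)
  obtain ⟨Wn, sndn, fstn, sqn⟩ := hk.1 (a x)
  have hcl : IsClosedImmersion snd.left := hc.2 _ _ _ sq
  have hcln : IsClosedImmersion sndn.left := hk.2 _ _ _ sqn
  have h1 : sndn.left.ker = snd.left.ker ^ (1 + 1) := hI _ _ _ _ _ (ha x).aff (ha x).et sq sqn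
  -- the ideal of `Wb` pulled back to `V' x`
  have e1 := exists_pullback_comp sqb (g x)
  rw [hw' x] at e1
  have e2 := exists_pullback_comp sqn (q x)
  have h2 : (pullback.snd sndb (g x)).left.ker = (pullback.snd sndn (q x)).left.ker := by
    let e := e1.isoIsPullback _ _ e2
    obtain ⟨m, hm⟩ := (yon S).map_surjective e.hom
    have : IsIso ((yon S).map m) := by rw [hm]; infer_instance
    have : IsIso m := isIso_of_fully_faithful (yon S) m
    have hm2 : m ≫ pullback.snd sndn (q x) = pullback.snd sndb (g x) := by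
      apply (yon S).map_injective
      rw [Functor.map_comp, hm]
      exact e1.isoIsPullback_hom_snd _ _ e2
    have : IsIso m.left := inferInstanceAs (IsIso ((Over.forget S).map m))
    rw [← hm2, Over.comp_left, Scheme.Hom.ker_comp_of_isIso]
  have h3 : (pullback.snd sndb (g x)).left.ker = sndb.left.ker.comap (g x).left :=
    ker_of_isPullback (isPullback_left (IsPullback.of_hasPullback sndb (g x))).flip
  have h4 : (pullback.snd sndn (q x)).left.ker = sndn.left.ker.comap (q x).left :=
    ker_of_isPullback (isPullback_left (IsPullback.of_hasPullback sndn (q x))).flip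
  rw [← h3, h2, h4, h1, Groth.Agent.Divis.IdealComap.comap_pow]
  -- compare with the ideal of `T`
  have hi1 : IsClosedImmersion i.left := hi.1.1
  have h5 : (pullback.snd i (g x)).left.ker = i.left.ker.comap (g x).left :=
    ker_of_isPullback (isPullback_left (IsPullback.of_hasPullback i (g x))).flip
  have h6 : (pullback.snd i (g x)).left.ker ^ (1 + 1) = ⊥ := by
    rw [h5, ← Groth.Agent.Divis.IdealComap.comap_pow]
    have h7 : i.left.ker ^ (1 + 1) = ⊥ := ((nthick_one_iff _).2 hi).2
    rw [h7, Scheme.IdealSheafData.comap_bot]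
  have h8 : snd.left.ker.comap (q x).left ≤ (pullback.snd i (g x)).left.ker := by
    rw [← Scheme.IdealSheafData.le_map_iff_comap_le, Scheme.IdealSheafData.map_ker]
    have w3 : ((yon S).map (pullback.fst i (g x)) ≫ t) ≫ c =
        (yon S).map (pullback.snd i (g x) ≫ q x) ≫ a x := by
      rw [Category.assoc, ← w, ← Category.assoc, ← Functor.map_comp, pullback.condition, Functor.map_comp,
        Category.assoc, hw' x, Functor.map_comp, Category.assoc]
    obtain ⟨m, hm⟩ := (yon S).map_surjective (sq.lift _ _ w3)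
    have hm2 : m ≫ snd = pullback.snd i (g x) ≫ q x := (yon S).map_injective (by
      rw [Functor.map_comp, hm]; exact sq.lift_snd _ _ w3)
    rw [← Over.comp_left, ← hm2, Over.comp_left]
    exact Scheme.Hom.le_ker_comp _ _
  rw [eq_bot_iff, ← h6]
  exact pow_le_pow_left' h8 _

end

end K635.InfNbhd
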