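import Groth.Prelude.Def_AlgSpInf

/-!
# Gluing morphisms out of an algebraic space along affine etale charts
-/

set_option autoImplicit false

universe u

open CategoryTheory CategoryTheory.Limits AlgebraicGeometry Opposite

namespace K635.Glue

open AlgSp

variable {S : Scheme.{u}}

/-- maps `h_T ⟶ G` are sections of `G` over `T` -/
noncomputable def secEquiv (G : Sp S) (T : Over S) : ((yon S).obj T ⟶ G) ≃ G.obj.obj (op T) :=
  (J S).uliftYonedaEquiv

theorem secEquiv_map {G : Sp S} {T T' : Over S} (g : T' ⟶ T) (t : (yon S).obj T ⟶ G) :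
    secEquiv G T' ((yon S).map g ≫ t) = G.obj.map g.op (secEquiv G T t) :=
  ((J S).uliftYonedaEquiv_naturality t g).symm

theorem secEquiv_symm_map {G : Sp S} {T T' : Over S} (g : T' ⟶ T) (x : G.obj.obj (op T)) :
    (secEquiv G T').symm (G.obj.map g.op x) = (yon S).map g ≫ (secEquiv G T).symm x := by
  rw [Equiv.symm_apply_eq, secEquiv_map, Equiv.apply_symm_apply]

theorem secEquiv_comp {G H : Sp S} {T : Over S} (t : (yon S).obj T ⟶ G) (f : G ⟶ H) :
    secEquiv H T (t ≫ f) = f.hom.app (op T) (secEquiv G T t) := rfl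

/-- A morphism of sheaves from a natural transformation of the functors of maps from schemes. -/
noncomputable def homOfNat {G H : Sp S} (σ : ∀ T : Over S, ((yon S).obj T ⟶ G) → ((yon S).obj T ⟶ H))
    (nat : ∀ (T T' : Over S) (g : T' ⟶ T) (t : (yon S).obj T ⟶ G),
      σ T' ((yon S).map g ≫ t) = (yon S).map g ≫ σ T t) : G ⟶ H :=
  ⟨{ app := fun T ↦ (↾(fun x ↦ secEquiv H T.unop (σ T.unop ((secEquiv G T.unop).symm x))))
     naturality := by
      intro T T' g
      ext x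
      change secEquiv H T'.unop (σ T'.unop ((secEquiv G T'.unop).symm (G.obj.map g.unop.op x))) =
        H.obj.map g.unop.op (secEquiv H T.unop (σ T.unop ((secEquiv G T.unop).symm x)))
      rw [secEquiv_symm_map, nat, secEquiv_map] }⟩

theorem comp_homOfNat {G H : Sp S} (σ : ∀ T : Over S, ((yon S).obj T ⟶ G) → ((yon S).obj T ⟶ H))
    (nat : ∀ (T T' : Over S) (g : T' ⟶ T) (t : (yon S).obj T ⟶ G),
      σ T' ((yon S).map g ≫ t) = (yon S).map g ≫ σ T t) {T : Over S} (t : (yon S).obj T ⟶ G) :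
    t ≫ homOfNat σ nat = σ T t := by
  apply (secEquiv H T).injective
  change secEquiv H T (σ T ((secEquiv G T).symm (secEquiv G T t))) = secEquiv H T (σ T t)
  rw [Equiv.symm_apply_apply]

/-- Maps of sheaves are determined by their effect on maps from schemes. -/
theorem hom_ext_yon {G H : Sp S} {φ ψ : G ⟶ H}
    (h : ∀ (T : Over S) (t : (yon S).obj T ⟶ G), t ≫ φ = t ≫ ψ) : φ = ψ := by
  apply ObjectProperty.hom_ext
  ext T x
  have h2 := congrArg (secEquiv H T.unop) (h T.unop ((secEquiv G T.unop).symm x))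
  rw [secEquiv_comp, secEquiv_comp, Equiv.apply_symm_apply] at h2
  exact h2

/-- The sieve generated by a jointly surjective family of flat, locally finitely presented morphisms is covering. -/
theorem ofArrows_mem {T : Over S} {ι : Type*} (X : ι → Over S) (f : ∀ i, X i ⟶ T)
    (hf : ∀ i, Flat (f i).left) (hf' : ∀ i, LocallyOfFinitePresentation (f i).left)
    (hs : ∀ x : T.left, ∃ i, x ∈ Set.range (f i).left) :
    Sieve.ofArrows X f ∈ AlgSp.J S T := by
  rw [GrothendieckTopology.mem_over_iff, Sieve.overEquiv_ofArrows]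
  refine Precoverage.generate_mem_toGrothendieck ?_
  refine (Scheme.ofArrows_mem_precoverage_iff _).2 ⟨hs, fun i ↦ ⟨hf i, hf' i⟩⟩

/-- Gluing of maps `h_T ⟶ F` along a covering sieve. -/
theorem existsUnique_glue_sieve (F : Sp S) {T : Over S} {R : Sieve T} (hR : R ∈ AlgSp.J S T)
    (φ : ∀ ⦃W : Over S⦄ (g : W ⟶ T), R g → ((yon S).obj W ⟶ F))
    (hφ : ∀ ⦃W W' : Over S⦄ (h : W' ⟶ W) (g : W ⟶ T) (hg : R g) (hg' : R (h ≫ g)),
      (yon S).map h ≫ φ g hg = φ (h ≫ g) hg') :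
    ∃! ψ : (yon S).obj T ⟶ F, ∀ ⦃W : Over S⦄ (g : W ⟶ T) (hg : R g), (yon S).map g ≫ ψ = φ g hg := by
  have hF : Presieve.IsSheafFor F.obj R.arrows :=
    (isSheaf_iff_isSheaf_of_type _ _).1 F.property R hR
  let x : Presieve.FamilyOfElements F.obj R.arrows := fun W g hg ↦ (J S).uliftYonedaEquiv (φ g hg)
  have hx : x.SieveCompatible := by
    intro W W' g h hg
    have := (J S).uliftYonedaEquiv_naturality (φ g hg) h
    rw [hφ h g hg (R.downward_closed hg h)] at this
    exact this.symm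
  obtain ⟨t, ht, ht'⟩ := hF x ((Presieve.compatible_iff_sieveCompatible x).2 hx)
  refine ⟨(J S).uliftYonedaEquiv.symm t, ?_, ?_⟩
  · intro W g hg
    apply (J S).uliftYonedaEquiv.injective
    rw [← (J S).uliftYonedaEquiv_naturality, Equiv.apply_symm_apply]
    exact ht g hg
  · intro ψ hψ
    rw [Equiv.eq_symm_apply]
    apply ht'
    intro W g hg
    have := (J S).uliftYonedaEquiv_naturality ψ g
    rw [hψ g hg] at this
    exact this

/-- Two maps `h_T ⟶ F` agreeing on a covering sieve are equal. -/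
theorem hom_ext_sieve {F : Sp S} {T : Over S} {R : Sieve T} (hR : R ∈ AlgSp.J S T)
    {φ ψ : (yon S).obj T ⟶ F}
    (h : ∀ ⦃W : Over S⦄ (g : W ⟶ T), R g → (yon S).map g ≫ φ = (yon S).map g ≫ ψ) : φ = ψ := by
  obtain ⟨χ, _, h'⟩ := existsUnique_glue_sieve F hR (fun W g _ ↦ (yon S).map g ≫ ψ)
    (fun W W' h g _ _ ↦ by rw [Functor.map_comp, Category.assoc])
  exact (h' φ h).trans (h' ψ (fun _ _ _ ↦ rfl)).symm

/-- Two maps `h_T ⟶ F` agreeing on a flat, lfp, jointly surjective family are equal. -/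
theorem hom_ext_cover {F : Sp S} {T : Over S} {ι : Type*} (X : ι → Over S) (f : ∀ i, X i ⟶ T)
    (hf : ∀ i, Flat (f i).left) (hf' : ∀ i, LocallyOfFinitePresentation (f i).left)
    (hs : ∀ x : T.left, ∃ i, x ∈ Set.range (f i).left) {φ ψ : (yon S).obj T ⟶ F}
    (h : ∀ i, (yon S).map (f i) ≫ φ = (yon S).map (f i) ≫ ψ) : φ = ψ := by
  refine hom_ext_sieve (ofArrows_mem X f hf hf' hs) ?_
  rintro W _ ⟨_, a, _, ⟨i⟩, rfl⟩
  rw [Functor.map_comp, Category.assoc, Category.assoc, h i]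

/-- Gluing of maps `h_T ⟶ F` along a flat, lfp, jointly surjective family. -/
theorem existsUnique_glue_cover (F : Sp S) {T : Over S} {ι : Type*} (X : ι → Over S) (f : ∀ i, X i ⟶ T)
    (hf : ∀ i, Flat (f i).left) (hf' : ∀ i, LocallyOfFinitePresentation (f i).left)
    (hs : ∀ x : T.left, ∃ i, x ∈ Set.range (f i).left)
    (φ : ∀ i, (yon S).obj (X i) ⟶ F)
    (hφ : ∀ (i j : ι) (W : Over S) (a : W ⟶ X i) (b : W ⟶ X j), a ≫ f i = b ≫ f j →
      (yon S).map a ≫ φ i = (yon S).map b ≫ φ j) :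
    ∃! ψ : (yon S).obj T ⟶ F, ∀ i, (yon S).map (f i) ≫ ψ = φ i := by
  have hmem := ofArrows_mem X f hf hf' hs
  have key : ∀ ⦃W : Over S⦄ (g : W ⟶ T), Sieve.ofArrows X f g →
      ∃ (i : ι) (a : W ⟶ X i), a ≫ f i = g := by
    rintro W _ ⟨_, a, _, ⟨i⟩, rfl⟩
    exact ⟨i, a, rfl⟩
  choose idx lft hlft using key
  obtain ⟨ψ, hψ, hψ'⟩ := existsUnique_glue_sieve F hmem
    (fun W g hg ↦ (yon S).map (lft g hg) ≫ φ (idx g hg)) (by
      intro W W' h g hg hg'
      rw [← Category.assoc, ← Functor.map_comp]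
      exact hφ _ _ _ _ _ (by rw [Category.assoc, hlft, hlft]))
  refine ⟨ψ, fun i ↦ ?_, fun ψ' h' ↦ hψ' _ ?_⟩
  · have hi : Sieve.ofArrows X f (f i) := ⟨_, 𝟙 _, _, ⟨i⟩, Category.id_comp _⟩
    rw [hψ (f i) hi]
    have := hφ (idx (f i) hi) i (X i) (lft (f i) hi) (𝟙 _) (by rw [hlft, Category.id_comp])
    rw [this, (yon S).map_id, Category.id_comp]
  · intro W g hg
    conv_lhs => rw [← hlft g hg]
    rw [Functor.map_comp, Category.assoc, h']

/-- a point of `U`, an affine open neighbourhood of it inside a given open -/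
theorem exists_affine_nhd {X : Scheme.{u}} (x : X) (U : X.Opens) (hx : x ∈ U) :
    ∃ V : X.Opens, IsAffineOpen V ∧ x ∈ V ∧ V ≤ U := by
  obtain ⟨V, hV, hxV, hVU⟩ :=
    (TopologicalSpace.Opens.isBasis_iff_nbhd.1 X.isBasis_affineOpens) hx
  exact ⟨V, hV, hxV, hVU⟩

/-- the open subscheme `V ⊆ U.left` as a scheme over `S` -/
noncomputable abbrev opn (U : Over S) (V : U.left.Opens) : Over S := Over.mk (V.ι ≫ U.hom)

/-- the inclusion `V ⟶ U` over `S` -/
noncomputable abbrev opnι (U : Over S) (V : U.left.Opens) : opn U V ⟶ U := Over.homMk V.ι rfl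

theorem repWith_etale_map {V W : Over S} (g : W ⟶ V) [Etale g.left] : RepWith @Etale ((yon S).map g) :=
  (repWith_yon_map_iff _ g).2 ‹_›

theorem repWith_etale_comp {F G H : Sp S} {a : F ⟶ G} {b : G ⟶ H} (ha : RepWith @Etale a)
    (hb : RepWith @Etale b) : RepWith @Etale (a ≫ b) :=
  (repWith_isMultiplicative @Etale).comp_mem _ _ ha hb

instance etale_opnι (U : Over S) (V : U.left.Opens) : Etale (opnι U V).left := by
  change Etale V.ι; infer_instance

/-- `c : h_V ⟶ X` is an affine etale chart of `X` -/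
structure IsAffChart {X : Sp S} {V : Over S} (c : (yon S).obj V ⟶ X) : Prop where
  aff : IsAffine V.left
  et : RepWith @Etale c

theorem IsAffChart.precomp {X : Sp S} {V : Over S} {c : (yon S).obj V ⟶ X} (hc : IsAffChart c)
    {W : Over S} (g : W ⟶ V) [IsAffine W.left] [Etale g.left] :
    IsAffChart ((yon S).map g ≫ c) :=
  ⟨‹_›, repWith_etale_comp (repWith_etale_map g) hc.et⟩

/-- A morphism of schemes `q : W ⟶ U` over `S`: the target covered by affine opens `B`, the source by affine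
opens `A` with `q A ⊆ B`. -/
theorem exists_affine_pair {W U : Over S} (q : W ⟶ U) (x : W.left) :
    ∃ (A : W.left.Opens) (B : U.left.Opens) (_ : IsAffineOpen A) (_ : IsAffineOpen B) (_ : x ∈ A)
      (r : opn W A ⟶ opn U B), r ≫ opnι U B = opnι W A ≫ q := by
  obtain ⟨B, hB, hxB, -⟩ := exists_affine_nhd (q.left x) ⊤ trivial
  obtain ⟨A, hA, hxA, hAB⟩ := exists_affine_nhd x (q.left ⁻¹ᵁ B) hxB
  refine ⟨A, B, hA, hB, hxA, Over.homMk (q.left.resLE B A hAB) ?_, ?_⟩
  · change q.left.resLE B A hAB ≫ B.ι ≫ U.hom = A.ι ≫ W.hom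
    rw [Scheme.Hom.resLE_comp_ι_assoc, Over.w]
  · ext1
    exact Scheme.Hom.resLE_comp_ι _ _

/-- Every map from a scheme to an algebraic space factors, after an etale covering by affine schemes, through affine etale
charts. -/
theorem exists_cover_chart {X : Sp S} (hX : IsAlgSpace X) {T : Over S} (t : (yon S).obj T ⟶ X) :
    ∃ (ι : Type u) (W : ι → Over S) (g : ∀ i, W i ⟶ T) (V : ι → Over S)
      (c : ∀ i, (yon S).obj (V i) ⟶ X) (h : ∀ i, W i ⟶ V i),
      (∀ i, IsAffine (W i).left) ∧ (∀ i, Etale (g i).left) ∧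
      (∀ x : T.left, ∃ i, x ∈ Set.range (g i).left) ∧ (∀ i, IsAffChart (c i)) ∧
      ∀ i, (yon S).map (g i) ≫ t = (yon S).map (h i) ≫ c i := by
  obtain ⟨U, p, hpe, hps⟩ := hX.atlas
  obtain ⟨W₀, snd, fst, sq⟩ := hpe.1 t
  obtain ⟨q, rfl⟩ := (yon S).map_surjective fst
  have hse : Etale snd.left := hpe.2 _ _ _ sq
  have hss : Surjective snd.left := hps.2 _ _ _ sq
  choose A B hA hB hx r hr using exists_affine_pair q
  refine ⟨W₀.left, fun x ↦ opn W₀ (A x), fun x ↦ opnι W₀ (A x) ≫ snd, fun x ↦ opn U (B x),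
    fun x ↦ (yon S).map (opnι U (B x)) ≫ p, r, fun x ↦ hA x, fun x ↦ ?_, fun y ↦ ?_, fun x ↦ ?_, fun x ↦ ?_⟩
  · change Etale ((A x).ι ≫ snd.left)
    infer_instance
  · obtain ⟨x, rfl⟩ := hss.surj y
    refine ⟨x, ⟨⟨x, hx x⟩, ?_⟩⟩
    rfl
  · exact ⟨hB x, repWith_etale_comp (repWith_etale_map _) hpe⟩
  · rw [Functor.map_comp, Category.assoc, ← sq.w, ← Category.assoc, ← Functor.map_comp, ← hr x,
      Functor.map_comp, Category.assoc]

/-- Two factorisations through etale charts are locally dominated by affine etale charts. -/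
theorem exists_cover_two_charts {X : Sp S} {V₁ V₂ : Over S}
    {c₁ : (yon S).obj V₁ ⟶ X} {c₂ : (yon S).obj V₂ ⟶ X} (h₁ : RepWith @Etale c₁) (h₂ : RepWith @Etale c₂)
    {T : Over S} (g₁ : T ⟶ V₁) (g₂ : T ⟶ V₂) (w : (yon S).map g₁ ≫ c₁ = (yon S).map g₂ ≫ c₂) (x : T.left) :
    ∃ (A : T.left.Opens) (_ : IsAffineOpen A) (_ : x ∈ A) (R : Over S) (_ : IsAffine R.left)
      (m₁ : R ⟶ V₁) (m₂ : R ⟶ V₂) (k : opn T A ⟶ R), Etale m₁.left ∧ Etale m₂.left ∧
      (yon S).map m₁ ≫ c₁ = (yon S).map m₂ ≫ c₂ ∧ k ≫ m₁ = opnι T A ≫ g₁ ∧ k ≫ m₂ = opnι T A ≫ g₂ := by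
  obtain ⟨R₀, snd, fst, sq⟩ := h₁.1 c₂
  obtain ⟨q, rfl⟩ := (yon S).map_surjective fst
  have he2 : Etale snd.left := h₁.2 _ _ _ sq
  have he1 : Etale q.left := h₂.2 _ _ _ sq.flip
  obtain ⟨l, hl⟩ := (yon S).map_surjective (sq.lift _ _ w)
  have hl1 : l ≫ q = g₁ := (yon S).map_injective (by rw [Functor.map_comp, hl, sq.lift_fst])
  have hl2 : l ≫ snd = g₂ := (yon S).map_injective (by rw [Functor.map_comp, hl, sq.lift_snd])
  obtain ⟨A, B, hA, hB, hx, r, hr⟩ := exists_affine_pair l x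
  refine ⟨A, hA, hx, opn R₀ B, hB, opnι R₀ B ≫ q, opnι R₀ B ≫ snd, r, ?_, ?_, ?_, ?_, ?_⟩
  · change Etale (B.ι ≫ q.left)
    infer_instance
  · change Etale (B.ι ≫ snd.left)
    infer_instance
  · rw [Functor.map_comp, Functor.map_comp, Category.assoc, Category.assoc, sq.w]
  · rw [← Category.assoc, hr, Category.assoc, hl1]
  · rw [← Category.assoc, hr, Category.assoc, hl2]

/-- The affine opens cover: hom ext along an affine open neighbourhood of each point. -/
theorem hom_ext_opens {F : Sp S} {T : Over S} {ι : Type*} (A : ι → T.left.Opens)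
    (hs : ∀ x : T.left, ∃ i, x ∈ A i) {φ ψ : (yon S).obj T ⟶ F}
    (h : ∀ i, (yon S).map (opnι T (A i)) ≫ φ = (yon S).map (opnι T (A i)) ≫ ψ) : φ = ψ := by
  refine hom_ext_cover (fun i ↦ opn T (A i)) (fun i ↦ opnι T (A i)) (fun i ↦ ?_) (fun i ↦ ?_) (fun x ↦ ?_) h
  · change Flat (A i).ι; infer_instance
  · change LocallyOfFinitePresentation (A i).ι; infer_instance
  · obtain ⟨i, hi⟩ := hs x
    exact ⟨i, ⟨⟨x, hi⟩, rfl⟩⟩

/-- Two maps from an algebraic space to a sheaf which agree on all affine etale charts are equal. -/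
theorem hom_ext_charts {X : Sp S} (hX : IsAlgSpace X) {F : Sp S} {φ ψ : X ⟶ F}
    (h : ∀ (V : Over S) (c : (yon S).obj V ⟶ X), IsAffChart c → c ≫ φ = c ≫ ψ) : φ = ψ := by
  have key : ∀ (T : Over S) (t : (yon S).obj T ⟶ X), t ≫ φ = t ≫ ψ := by
    intro T t
    obtain ⟨ι, W, g, V, c, k, -, hg, hs, hc, hw⟩ := exists_cover_chart hX t
    refine hom_ext_cover W g (fun i ↦ ?_) (fun i ↦ ?_) hs (fun i ↦ ?_)
    · have := hg i; infer_instance
    · have := hg i; infer_instance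
    · rw [← Category.assoc, hw, Category.assoc, h _ _ (hc i), ← Category.assoc, ← Category.assoc, hw]
  exact hom_ext_yon key

/-- A compatible family of maps on the affine etale charts of an algebraic space glues. -/
theorem exists_hom_of_charts {X : Sp S} (hX : IsAlgSpace X) (F : Sp S)
    (Φ : ∀ (V : Over S) (c : (yon S).obj V ⟶ X), IsAffChart c → ((yon S).obj V ⟶ F))
    (hΦ : ∀ (V W : Over S) (c : (yon S).obj V ⟶ X) (hc : IsAffChart c) (g : W ⟶ V)
      (hc' : IsAffChart ((yon S).map g ≫ c)), Etale g.left →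
      (yon S).map g ≫ Φ V c hc = Φ W ((yon S).map g ≫ c) hc') :
    ∃ φ : X ⟶ F, ∀ (V : Over S) (c : (yon S).obj V ⟶ X) (hc : IsAffChart c), c ≫ φ = Φ V c hc := by
  -- independence of the factorisation
  have indep : ∀ (T V₁ V₂ : Over S) (c₁ : (yon S).obj V₁ ⟶ X) (c₂ : (yon S).obj V₂ ⟶ X)
      (h₁ : IsAffChart c₁) (h₂ : IsAffChart c₂) (g₁ : T ⟶ V₁) (g₂ : T ⟶ V₂),
      (yon S).map g₁ ≫ c₁ = (yon S).map g₂ ≫ c₂ →
      (yon S).map g₁ ≫ Φ V₁ c₁ h₁ = (yon S).map g₂ ≫ Φ V₂ c₂ h₂ := by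
    intro T V₁ V₂ c₁ c₂ h₁ h₂ g₁ g₂ w
    choose A hA hx R hR m₁ m₂ k he₁ he₂ hm hk₁ hk₂ using exists_cover_two_charts h₁.et h₂.et g₁ g₂ w
    refine hom_ext_opens A (fun x ↦ ⟨x, hx x⟩) (fun x ↦ ?_)
    have := hR x
    have := he₁ x
    have := he₂ x
    have e1 : (yon S).map (m₁ x) ≫ Φ V₁ c₁ h₁ = Φ (R x) ((yon S).map (m₁ x) ≫ c₁) (h₁.precomp _) :=
      hΦ _ _ _ _ _ _ (he₁ x)
    have e2 : (yon S).map (m₂ x) ≫ Φ V₂ c₂ h₂ = Φ (R x) ((yon S).map (m₂ x) ≫ c₂) (h₂.precomp _) :=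
      hΦ _ _ _ _ _ _ (he₂ x)
    have e3 : (yon S).map (m₁ x) ≫ Φ V₁ c₁ h₁ = (yon S).map (m₂ x) ≫ Φ V₂ c₂ h₂ := by
      rw [e1, e2]
      congr 1
      exact hm x
    rw [← Category.assoc, ← Category.assoc, ← Functor.map_comp, ← Functor.map_comp, ← hk₁, ← hk₂,
      Functor.map_comp, Functor.map_comp, Category.assoc, Category.assoc, e3]
  -- the sections
  have sec : ∀ (T : Over S) (t : (yon S).obj T ⟶ X), ∃! ψ : (yon S).obj T ⟶ F,
      ∀ (W : Over S) (g : W ⟶ T) (V : Over S) (c : (yon S).obj V ⟶ X) (hc : IsAffChart c) (h : W ⟶ V),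
        (yon S).map g ≫ t = (yon S).map h ≫ c → (yon S).map g ≫ ψ = (yon S).map h ≫ Φ V c hc := by
    intro T t
    obtain ⟨ι, W, g, V, c, k, -, hg, hs, hc, hw⟩ := exists_cover_chart hX t
    have hf : ∀ i, Flat (g i).left := fun i ↦ by have := hg i; infer_instance
    have hf' : ∀ i, LocallyOfFinitePresentation (g i).left := fun i ↦ by have := hg i; infer_instance
    obtain ⟨ψ, hψ, hψ'⟩ := existsUnique_glue_cover F W g hf hf' hs
      (fun i ↦ (yon S).map (k i) ≫ Φ (V i) (c i) (hc i)) (by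
        intro i j Z a b hab
        rw [← Category.assoc, ← Category.assoc, ← Functor.map_comp, ← Functor.map_comp]
        apply indep
        rw [Functor.map_comp, Functor.map_comp, Category.assoc, Category.assoc, ← hw, ← hw,
          ← Category.assoc, ← Category.assoc, ← Functor.map_comp, ← Functor.map_comp, hab])
    refine ⟨ψ, fun Z z V' c' hc' h' w' ↦ ?_, fun ψ' hψ'' ↦ hψ' _ (fun i ↦ hψ'' _ _ _ _ _ _ (hw i))⟩
    -- check on the pulled back cover
    have P : ∀ i, IsPullback (pullback.fst z (g i)) (pullback.snd z (g i)) z (g i) := fun i ↦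
      IsPullback.of_hasPullback _ _
    have P' : ∀ i, IsPullback (pullback.fst z (g i)).left (pullback.snd z (g i)).left z.left (g i).left :=
      fun i ↦ (P i).map (Over.forget S)
    refine hom_ext_cover (fun i ↦ pullback z (g i)) (fun i ↦ pullback.fst z (g i)) (fun i ↦ ?_)
      (fun i ↦ ?_) (fun x ↦ ?_) (fun i ↦ ?_)
    · have := hf i
      exact MorphismProperty.of_isPullback (P' i).flip (hf i)
    · exact MorphismProperty.of_isPullback (P' i).flip (hf' i)
    · obtain ⟨i, y, hy⟩ := hs (z.left x)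
      obtain ⟨p, hp, -⟩ := Scheme.exists_preimage_of_isPullback (P' i) x y hy.symm
      exact ⟨i, ⟨p, hp⟩⟩
    · rw [← Category.assoc, ← Functor.map_comp, pullback.condition, Functor.map_comp, Category.assoc,
        hψ i, ← Category.assoc, ← Category.assoc, ← Functor.map_comp, ← Functor.map_comp]
      apply indep
      rw [Functor.map_comp, Functor.map_comp, Category.assoc, Category.assoc, ← hw, ← w', ← Category.assoc,
        ← Category.assoc, ← Functor.map_comp, ← Functor.map_comp, pullback.condition]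
  choose σ hσ hσ' using sec
  have nat : ∀ (T T' : Over S) (g : T' ⟶ T) (t : (yon S).obj T ⟶ X),
      σ T' ((yon S).map g ≫ t) = (yon S).map g ≫ σ T t := by
    intro T T' g t
    refine (hσ' T' ((yon S).map g ≫ t) _ ?_).symm
    intro W g' V c hc h w
    rw [← Category.assoc, ← Functor.map_comp]
    apply hσ
    rw [Functor.map_comp, Category.assoc, w]
  refine ⟨homOfNat σ nat, fun V c hc ↦ ?_⟩
  rw [comp_homOfNat]
  have := hσ V c V (𝟙 V) V c hc (𝟙 V) rfl
  simpa using this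

end K635.Glue
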