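import Groth.Agent.AlgSp.K635.GlueLift
import Groth.Agent.Etbase.TopInv
import Groth.Agent.S0118

/-!
# Etale morphisms have the unique lifting property along thickenings
-/

set_option autoImplicit false

universe u

open CategoryTheory CategoryTheory.Limits AlgebraicGeometry Opposite

namespace K635.EtLift

open AlgSp K635.Glue K635.Thick K635.GlueLift

variable {S : Scheme.{u}}

/-! ## Schemes -/

/-- Unique lifting of etale morphisms along closed immersions which are surjective. -/
theorem scheme_existsUnique_lift {X Y T T' : Scheme.{u}} (f : X ⟶ Y) [Etale f] (j : T ⟶ T')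
    [IsClosedImmersion j] [Surjective j] (a : T ⟶ X) (b : T' ⟶ Y) (w : a ≫ f = j ≫ b) :
    ∃! l : T' ⟶ X, j ≫ l = a ∧ l ≫ f = b := by
  obtain ⟨l, h1, h2⟩ := Groth.Agent.Etbase.TopInv.exists_lift_of_univHomeo f b j a w
  refine ⟨l, ⟨h2, h1⟩, ?_⟩
  rintro l' ⟨h3, h4⟩
  exact Groth.Agent.Etbase.TopInv.ext_of_surjective f j l' l (by rw [h1, h4]) (by rw [h2, h3])

/-- An etale scheme over `T` is the restriction of an etale scheme over a thickening `T'` of `T`. -/
theorem scheme_exists_etale_lift {T T' : Scheme.{u}} (j : T ⟶ T') [IsClosedImmersion j] [Surjective j]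
    {E : Scheme.{u}} (e : E ⟶ T) [Etale e] :
    ∃ (E' : Scheme.{u}) (e' : E' ⟶ T') (i : E ⟶ E'), Etale e' ∧ IsPullback i e e' j := by
  have h := Groth.Agent.S0118.result j
  let EE : T.Etale := MorphismProperty.Over.mk ⊤ e ‹_›
  obtain ⟨V, ⟨m⟩⟩ := h.essSurj.mem_essImage EE
  have hV : Etale V.hom := V.prop
  refine ⟨V.left, V.hom, (m.inv).left ≫ pullback.fst V.hom j, hV, ?_⟩
  have h1 : IsPullback (pullback.fst V.hom j) (pullback.snd V.hom j) V.hom j := IsPullback.of_hasPullback _ _
  have h2 : m.inv.left ≫ pullback.snd V.hom j = e := Over.w m.inv.hom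
  have h3 : IsIso m.inv.left := by
    refine ⟨m.hom.left, ?_, ?_⟩
    · have := congrArg (fun f ↦ f.left) m.inv_hom_id
      exact this
    · have := congrArg (fun f ↦ f.left) m.hom_inv_id
      exact this
  refine IsPullback.of_iso h1 (asIso m.inv.left).symm (Iso.refl _) (Iso.refl _) (Iso.refl _) ?_ ?_ ?_ ?_
  · rw [Iso.refl_hom, Category.comp_id]
    exact (IsIso.inv_hom_id_assoc m.inv.left _).symm
  · rw [Iso.refl_hom, Category.comp_id, ← h2]
    exact (IsIso.inv_hom_id_assoc m.inv.left _).symm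
  · simp
  · simp

/-- The same over a base scheme `S`. -/
theorem over_exists_etale_lift {T T' : Over S} (j : T ⟶ T') [IsClosedImmersion j.left] [Surjective j.left]
    {E : Over S} (e : E ⟶ T) [Etale e.left] :
    ∃ (E' : Over S) (e' : E' ⟶ T') (i : E ⟶ E'), Etale e'.left ∧ IsPullback i e e' j := by
  obtain ⟨E', e', i, he, sq⟩ := scheme_exists_etale_lift j.left e.left
  have w1 : i ≫ e' ≫ T'.hom = E.hom := by
    rw [← Category.assoc, sq.w, Category.assoc, Over.w j, Over.w e]
  let EE : Over S := Over.mk (e' ≫ T'.hom)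
  let ee : EE ⟶ T' := Over.homMk e' rfl
  let ii : E ⟶ EE := Over.homMk i w1
  refine ⟨EE, ee, ii, he, ?_⟩
  have w2 : ii ≫ ee = e ≫ j := by
    ext1
    exact sq.w
  exact IsPullback.of_map (Over.forget S) w2 sq

theorem over_existsUnique_lift {X Y T T' : Over S} (f : X ⟶ Y) [Etale f.left] (j : T ⟶ T')
    [IsClosedImmersion j.left] [Surjective j.left] (a : T ⟶ X) (b : T' ⟶ Y) (w : a ≫ f = j ≫ b) :
    ∃! l : T' ⟶ X, j ≫ l = a ∧ l ≫ f = b := by
  obtain ⟨l, ⟨h1, h2⟩, h3⟩ := scheme_existsUnique_lift f.left j.left a.left b.left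
    (by rw [← Over.comp_left, w, Over.comp_left])
  refine ⟨Over.homMk l ?_, ⟨?_, ?_⟩, ?_⟩
  · rw [← Over.w f, ← Category.assoc, h2, Over.w]
  · ext1; exact h1
  · ext1; exact h2
  · rintro l' ⟨h4, h5⟩
    ext1
    refine h3 l'.left ⟨?_, ?_⟩
    · rw [← Over.comp_left, h4]
    · rw [← Over.comp_left, h5]

/-! ## Representable etale maps of sheaves -/

/-- Representable etale maps have unique lifts along thickenings of schemes. -/
theorem repEt_existsUnique_lift {F G : Sp S} {f : F ⟶ G} (hf : RepWith @Etale f) {T T' : Over S} (j : T ⟶ T')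
    [IsClosedImmersion j.left] [Surjective j.left] (a : (yon S).obj T ⟶ F) (b : (yon S).obj T' ⟶ G)
    (w : a ≫ f = (yon S).map j ≫ b) :
    ∃! l : (yon S).obj T' ⟶ F, (yon S).map j ≫ l = a ∧ l ≫ f = b := by
  obtain ⟨E, snd, fst, sq⟩ := hf.1 b
  have he : Etale snd.left := hf.2 _ _ _ sq
  obtain ⟨s, hs⟩ := (yon S).map_surjective (sq.lift _ _ w)
  have hs1 : (yon S).map s ≫ fst = a := by rw [hs]; exact sq.lift_fst _ _ w
  have hs2 : s ≫ snd = j ≫ 𝟙 _ := by
    apply (yon S).map_injective
    rw [Functor.map_comp, hs, Category.comp_id]; exact sq.lift_snd _ _ w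
  obtain ⟨l, ⟨h1, h2⟩, h3⟩ := over_existsUnique_lift snd j s (𝟙 _) hs2
  refine ⟨(yon S).map l ≫ fst, ⟨?_, ?_⟩, ?_⟩
  · rw [← Category.assoc, ← Functor.map_comp, h1, hs1]
  · rw [Category.assoc, sq.w, ← Category.assoc, ← Functor.map_comp, h2, (yon S).map_id, Category.id_comp]
  · rintro l' ⟨h4, h5⟩
    have w' : l' ≫ f = 𝟙 _ ≫ b := by rw [h5, Category.id_comp]
    obtain ⟨m, hm⟩ := (yon S).map_surjective (sq.lift _ _ w')
    have hm1 : (yon S).map m ≫ fst = l' := by rw [hm]; exact sq.lift_fst _ _ w'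
    have hm2 : m ≫ snd = 𝟙 _ := by
      apply (yon S).map_injective
      rw [Functor.map_comp, hm, (yon S).map_id]; exact sq.lift_snd _ _ w'
    rw [← hm1]
    congr 2
    apply h3
    refine ⟨?_, hm2⟩
    apply (yon S).map_injective
    apply sq.hom_ext
    · rw [Functor.map_comp, Category.assoc, hm1, hs1, h4]
    · rw [← Functor.map_comp, ← Functor.map_comp, Category.assoc, hm2, hs2]

theorem repEt_unique {F G : Sp S} {f : F ⟶ G} (hf : RepWith @Etale f) {T T' : Over S} (j : T ⟶ T')
    [IsClosedImmersion j.left] [Surjective j.left] (l l' : (yon S).obj T' ⟶ F)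
    (h1 : (yon S).map j ≫ l = (yon S).map j ≫ l') (h2 : l ≫ f = l' ≫ f) : l = l' :=
  (repEt_existsUnique_lift hf j ((yon S).map j ≫ l') (l' ≫ f) (Category.assoc _ _ _)).unique
    ⟨h1, h2⟩ ⟨rfl, rfl⟩

/-! ## Etale morphisms of algebraic spaces -/

instance isClosedImmersion_pullback {T T' B : Over S} (j : T ⟶ T') [IsClosedImmersion j.left] (g : B ⟶ T') :
    IsClosedImmersion (pullback.snd j g).left :=
  MorphismProperty.of_isPullback (isPullback_left (IsPullback.of_hasPullback j g)) ‹_›

instance surjective_pullback {T T' B : Over S} (j : T ⟶ T') [Surjective j.left] (g : B ⟶ T') :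
    Surjective (pullback.snd j g).left :=
  MorphismProperty.of_isPullback (isPullback_left (IsPullback.of_hasPullback j g)) ‹_›

instance etale_pullback {T T' B : Over S} (j : T ⟶ T') [Etale j.left] (g : B ⟶ T') :
    Etale (pullback.snd j g).left :=
  MorphismProperty.of_isPullback (isPullback_left (IsPullback.of_hasPullback j g)) ‹_›

instance etale_pullback' {T T' B : Over S} (j : T ⟶ T') [Etale j.left] (g : B ⟶ T') :
    Etale (pullback.fst g j).left :=
  MorphismProperty.of_isPullback (isPullback_left (IsPullback.of_hasPullback g j)).flip ‹_›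

instance surjective_pullback' {T T' B : Over S} (j : T ⟶ T') [Surjective j.left] (g : B ⟶ T') :
    Surjective (pullback.fst g j).left :=
  MorphismProperty.of_isPullback (isPullback_left (IsPullback.of_hasPullback g j)).flip ‹_›

/-- ext along one etale surjective morphism -/
theorem hom_ext_etale {F : Sp S} {T B : Over S} (g : B ⟶ T) [Etale g.left] [Surjective g.left]
    {φ ψ : (yon S).obj T ⟶ F} (h : (yon S).map g ≫ φ = (yon S).map g ≫ ψ) : φ = ψ :=
  hom_ext_cover (ι := PUnit.{1}) (fun _ ↦ B) (fun _ ↦ g) (fun _ ↦ inferInstance) (fun _ ↦ inferInstance)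
    (fun x ↦ ⟨⟨⟩, (‹Surjective g.left›).surj x⟩) (fun _ ↦ h)

/-- gluing along one etale surjective morphism -/
theorem glue_etale (F : Sp S) {T B : Over S} (g : B ⟶ T) [Etale g.left] [Surjective g.left]
    (φ : (yon S).obj B ⟶ F)
    (h : (yon S).map (pullback.fst g g) ≫ φ = (yon S).map (pullback.snd g g) ≫ φ) :
    ∃! ψ : (yon S).obj T ⟶ F, (yon S).map g ≫ ψ = φ := by
  obtain ⟨ψ, h1, h2⟩ := existsUnique_glue_cover F (ι := PUnit.{1}) (fun _ ↦ B) (fun _ ↦ g)
    (fun _ ↦ inferInstance) (fun _ ↦ inferInstance)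
    (fun x ↦ ⟨⟨⟩, (‹Surjective g.left›).surj x⟩) (fun _ ↦ φ) (by
      rintro - - W a b w
      obtain ⟨z, rfl, rfl⟩ : ∃ z : W ⟶ pullback g g, z ≫ pullback.fst g g = a ∧ z ≫ pullback.snd g g = b :=
        ⟨pullback.lift a b w, pullback.lift_fst _ _ _, pullback.lift_snd _ _ _⟩
      rw [Functor.map_comp, Functor.map_comp, Category.assoc, Category.assoc, h])
  exact ⟨ψ, h1 ⟨⟩, fun ψ' h' ↦ h2 ψ' (fun _ ↦ h')⟩

/-- Two maps `h_T ⟶ X` lift to an atlas after an etale surjective base change. -/
theorem exists_lift_two {X : Sp S} {U : Over S} {p : (yon S).obj U ⟶ X} (hpe : RepWith @Etale p)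
    (hps : RepWith @Surjective p) {T : Over S} (l l' : (yon S).obj T ⟶ X) :
    ∃ (B : Over S) (β : B ⟶ T) (u u' : B ⟶ U), Etale β.left ∧ Surjective β.left ∧
      (yon S).map u ≫ p = (yon S).map β ≫ l ∧ (yon S).map u' ≫ p = (yon S).map β ≫ l' := by
  obtain ⟨A, α, m, sqA⟩ := hpe.1 l
  obtain ⟨A', α', m', sqA'⟩ := hpe.1 l'
  obtain ⟨m, rfl⟩ := (yon S).map_surjective m
  obtain ⟨m', rfl⟩ := (yon S).map_surjective m'
  have : Etale α.left := hpe.2 _ _ _ sqA
  have : Etale α'.left := hpe.2 _ _ _ sqA'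
  have : Surjective α.left := hps.2 _ _ _ sqA
  have : Surjective α'.left := hps.2 _ _ _ sqA'
  refine ⟨pullback α α', pullback.snd α α' ≫ α', pullback.fst α α' ≫ m, pullback.snd α α' ≫ m', ?_, ?_, ?_, ?_⟩
  · change Etale ((pullback.snd α α').left ≫ α'.left); infer_instance
  · change Surjective ((pullback.snd α α').left ≫ α'.left); infer_instance
  · rw [← pullback.condition, Functor.map_comp, Functor.map_comp, Category.assoc, Category.assoc, sqA.w]
  · rw [Functor.map_comp, Functor.map_comp, Category.assoc, Category.assoc, sqA'.w]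

/-- `X` an algebraic space, `f : X ⟶ Y` etale: lifts along thickenings of schemes are unique. -/
theorem etMor_unique {X Y : Sp S} (hX : IsAlgSpace X) {f : X ⟶ Y} (hf : IsEtaleMor f) {T T' : Over S}
    (j : T ⟶ T') [IsClosedImmersion j.left] [Surjective j.left] (l l' : (yon S).obj T' ⟶ X)
    (h1 : (yon S).map j ≫ l = (yon S).map j ≫ l') (h2 : l ≫ f = l' ≫ f) : l = l' := by
  obtain ⟨U, p, hpe, hps⟩ := hX.atlas
  obtain ⟨B, β, u, u', hβe, hβs, hu, hu'⟩ := exists_lift_two hpe hps l l'
  -- restriction to `T`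
  let jB : pullback j β ⟶ B := pullback.snd j β
  have hjB : jB ≫ β = pullback.fst j β ≫ j := pullback.condition.symm
  -- the relation
  obtain ⟨R, t, s, sqR⟩ := hpe.1 p
  obtain ⟨s, rfl⟩ := (yon S).map_surjective s
  have hse : Etale s.left := hpe.2 _ _ _ sqR.flip
  have w1 : (yon S).map (jB ≫ u) ≫ p = (yon S).map (jB ≫ u') ≫ p := by
    rw [Functor.map_comp, Functor.map_comp, Category.assoc, Category.assoc, hu, hu', ← Category.assoc,
      ← Category.assoc, ← Functor.map_comp, hjB, Functor.map_comp, Category.assoc, Category.assoc, h1]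
  obtain ⟨r₀, hr₀⟩ := (yon S).map_surjective (sqR.lift _ _ w1)
  have hr1 : r₀ ≫ s = jB ≫ u := by
    apply (yon S).map_injective
    rw [Functor.map_comp, hr₀]; exact sqR.lift_fst _ _ w1
  have hr2 : r₀ ≫ t = jB ≫ u' := by
    apply (yon S).map_injective
    rw [Functor.map_comp, hr₀]; exact sqR.lift_snd _ _ w1
  obtain ⟨r, ⟨hr3, hr4⟩, -⟩ := over_existsUnique_lift s jB r₀ u hr1
  have key : (yon S).map (r ≫ t) = (yon S).map u' := by
    refine repEt_unique (hf p hpe) jB _ _ ?_ ?_
    · rw [← Functor.map_comp, ← Functor.map_comp, ← Category.assoc, hr3, hr2]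
    · rw [Functor.map_comp, ← Category.assoc, ← Category.assoc, Category.assoc _ _ p, ← sqR.w,
        ← Category.assoc, ← Functor.map_comp, hr4, hu, hu', Category.assoc, Category.assoc, h2]
  refine hom_ext_etale β ?_
  rw [← hu, ← hu', ← key, Functor.map_comp, Category.assoc, ← sqR.w, ← Category.assoc, ← Functor.map_comp, hr4]

/-- `X` an algebraic space, `f : X ⟶ Y` etale: unique lifts along thickenings of schemes. -/
theorem etMor_existsUnique_lift {X Y : Sp S} (hX : IsAlgSpace X) {f : X ⟶ Y} (hf : IsEtaleMor f)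
    {T T' : Over S} (j : T ⟶ T') [IsClosedImmersion j.left] [Surjective j.left]
    (a : (yon S).obj T ⟶ X) (b : (yon S).obj T' ⟶ Y) (w : a ≫ f = (yon S).map j ≫ b) :
    ∃! l : (yon S).obj T' ⟶ X, (yon S).map j ≫ l = a ∧ l ≫ f = b := by
  obtain ⟨U, p, hpe, hps⟩ := hX.atlas
  obtain ⟨A, α, m, sqA⟩ := hpe.1 a
  have : Etale α.left := hpe.2 _ _ _ sqA
  have : Surjective α.left := hps.2 _ _ _ sqA
  obtain ⟨A', α', i, hα', sq⟩ := over_exists_etale_lift j α
  have sql : IsPullback i.left α.left α'.left j.left := isPullback_left sq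
  have hi1 : IsClosedImmersion i.left := MorphismProperty.of_isPullback sql.flip ‹_›
  have hi2 : Surjective i.left := MorphismProperty.of_isPullback sql.flip ‹_›
  have hs' : Surjective α'.left := by
    have h3 : Surjective (i.left ≫ α'.left) := by rw [sql.w]; infer_instance
    exact Surjective.of_comp i.left α'.left
  have w1 : m ≫ (p ≫ f) = (yon S).map i ≫ (yon S).map α' ≫ b := by
    rw [← Category.assoc, sqA.w, Category.assoc, w, ← Category.assoc, ← Category.assoc, ← Functor.map_comp,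
      ← Functor.map_comp, sq.w]
  obtain ⟨m', ⟨hm1, hm2⟩, -⟩ := repEt_existsUnique_lift (hf p hpe) i m ((yon S).map α' ≫ b) w1
  obtain ⟨l, hl, -⟩ := glue_etale X α' (m' ≫ p) (by
    -- the restriction of `A' ×_{T'} A'` to `T`
    let D := pullback α' α'
    let δ : D ⟶ T' := pullback.fst α' α' ≫ α'
    let jD : pullback j δ ⟶ D := pullback.snd j δ
    have hδ' : δ = pullback.snd α' α' ≫ α' := pullback.condition
    have hD : jD ≫ δ = pullback.fst j δ ≫ j := pullback.condition.symm
    -- lifts to `A`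
    obtain ⟨x, hx1, hx2⟩ : ∃ x : pullback j δ ⟶ A, x ≫ i = jD ≫ pullback.fst α' α' ∧ x ≫ α = pullback.fst j δ :=
      ⟨sq.lift (jD ≫ pullback.fst α' α') (pullback.fst j δ) (by rw [Category.assoc]; exact hD),
        sq.lift_fst _ _ _, sq.lift_snd _ _ _⟩
    obtain ⟨y, hy1, hy2⟩ : ∃ y : pullback j δ ⟶ A, y ≫ i = jD ≫ pullback.snd α' α' ∧ y ≫ α = pullback.fst j δ :=
      ⟨sq.lift (jD ≫ pullback.snd α' α') (pullback.fst j δ) (by rw [Category.assoc, ← hδ', hD]),
        sq.lift_fst _ _ _, sq.lift_snd _ _ _⟩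
    refine etMor_unique hX hf jD _ _ ?_ ?_
    · have e1 : (yon S).map jD ≫ (yon S).map (pullback.fst α' α') ≫ m' ≫ p = (yon S).map x ≫ m ≫ p := by
        rw [← Category.assoc, ← Functor.map_comp, ← hx1, Functor.map_comp, Category.assoc,
          ← Category.assoc _ m', hm1]
      have e2 : (yon S).map jD ≫ (yon S).map (pullback.snd α' α') ≫ m' ≫ p = (yon S).map y ≫ m ≫ p := by
        rw [← Category.assoc, ← Functor.map_comp, ← hy1, Functor.map_comp, Category.assoc,
          ← Category.assoc _ m', hm1]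
      rw [e1, e2, sqA.w, ← Category.assoc, ← Category.assoc, ← Functor.map_comp, ← Functor.map_comp, hx2, hy2]
    · rw [Category.assoc, Category.assoc, Category.assoc, Category.assoc, hm2, ← Category.assoc,
        ← Category.assoc, ← Functor.map_comp, ← Functor.map_comp, pullback.condition])
  refine ⟨l, ⟨?_, ?_⟩, ?_⟩
  · refine hom_ext_etale α ?_
    rw [← Category.assoc, ← Functor.map_comp, ← sq.w, Functor.map_comp, Category.assoc, hl,
      ← Category.assoc, hm1, sqA.w]
  · refine hom_ext_etale α' ?_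
    rw [← Category.assoc, hl, Category.assoc, hm2]
  · rintro l' ⟨h1, h2⟩
    have hl1 : (yon S).map j ≫ l = a := by
      refine hom_ext_etale α ?_
      rw [← Category.assoc, ← Functor.map_comp, ← sq.w, Functor.map_comp, Category.assoc, hl,
        ← Category.assoc, hm1, sqA.w]
    have hl2 : l ≫ f = b := by
      refine hom_ext_etale α' ?_
      rw [← Category.assoc, hl, Category.assoc, hm2]
    exact etMor_unique hX hf j _ _ (by rw [h1, hl1]) (by rw [h2, hl2])

end K635.EtLift
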