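import Groth.Agent.AlgSp.K634.Charts
import Groth.Agent.AlgSp.K629.EtLocInst
import Groth.Agent.S1489
import Groth.Agent.S1488

/-!
# Infinitesimal criteria for etale and smooth morphisms of algebraic spaces
-/

set_option autoImplicit false

universe u

open CategoryTheory CategoryTheory.Limits AlgebraicGeometry Opposite

namespace K635.EtCrit

open AlgSp

variable {S : Scheme.{u}}

/-- etale iff locally of finite presentation and formally etale -/
theorem isEtaleMor_iff {X Y : Sp S} (hX : IsAlgSpace X) (hY : IsAlgSpace Y) (f : X ⟶ Y) :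
    IsEtaleMor f ↔ LocP @LocallyOfFinitePresentation f ∧ IsFormallyEtaleMor f := by
  constructor
  · intro h
    have h1 := K629.LocP.locP_etale_of_isEtaleMor h
    refine ⟨K629.LocP.mono (fun X Y g hg ↦ by have : Etale g := hg; exact (inferInstance : LocallyOfFinitePresentation g)) h1, ?_⟩
    rw [K634.Charts.etale_iff_locP f hX hY]
    exact K629.LocP.mono (fun X Y g hg ↦ ((Groth.Agent.S1489.result g).1 hg).2) h1
  · rintro ⟨h1, h2⟩
    rw [K634.Charts.etale_iff_locP f hX hY] at h2
    refine K629.LocP.isEtaleMor_of_locP hY ?_ K629.EtLocInst.etale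
    intro U V a b h ha hb w
    exact (Groth.Agent.S1489.result _).2 ⟨h1 a b h ha hb w, h2 a b h ha hb w⟩

/-- the easy half of the smooth case -/
theorem locP_smooth {X Y : Sp S} {f : X ⟶ Y} (h1 : LocP @LocallyOfFinitePresentation f)
    (h2 : IsFormallySmoothMor f) : LocP @Smooth f := by
  intro U V a b h ha hb w
  exact (Groth.Agent.S1488.result _).2 ⟨h1 a b h ha hb w, K634.Charts.chart_smooth ha hb w h2⟩

end K635.EtCrit
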