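import Groth.Agent.AlgSp.K635.UnivQuot
import Groth.Agent.AlgSp.K634.Charts
import Groth.Agent.OmegaSh.K584.UnivGlue

/-!
# Existence of universal first order thickenings of formally unramified morphisms of algebraic spaces
-/

set_option autoImplicit false

universe u

open CategoryTheory CategoryTheory.Limits AlgebraicGeometry Opposite

namespace K635.UnivExist

open AlgSp K635.Glue K635.Thick K635.Univ K635.Formal

variable {S : Scheme.{u}}

/-- A universal first order thickening of schemes gives one of algebraic spaces. -/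
theorem isUnivFOThick_of_scheme {Z X : Over S} (h : Z ⟶ X) {Z' : Scheme.{u}} {i : Z.left ⟶ Z'} {h' : Z' ⟶ X.left}
    (H : OmegaSh.IsUnivThickening h.left i h') :
    ∃ (W : Over S) (iW : Z ⟶ W) (hW : W ⟶ X) (_ : W.left = Z'), hW.left ≍ h' ∧
      IsUnivFOThick ((yon S).map h) ((yon S).map iW) ((yon S).map hW) := by
  have w1 : i ≫ h' ≫ X.hom = Z.hom := by rw [← Category.assoc, H.2.1, Over.w]
  let W : Over S := Over.mk (h' ≫ X.hom)
  let iW : Z ⟶ W := Over.homMk i w1
  let hW : W ⟶ X := Over.homMk h' rfl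
  have w2 : iW ≫ hW = h := by ext1; exact H.2.1
  refine ⟨W, iW, hW, rfl, HEq.rfl, ?_⟩
  refine isUnivFOThick_of_affine ((isFOThickMor_yon_map_iff iW).2 H.1) (by rw [← Functor.map_comp, w2]) ?_
  intro T T' j _ hj a b hab
  obtain ⟨a, rfl⟩ := (yon S).map_surjective a
  obtain ⟨b, rfl⟩ := (yon S).map_surjective b
  have hab' : j ≫ b = a ≫ h := (yon S).map_injective (by rw [Functor.map_comp, hab, Functor.map_comp])
  obtain ⟨l, ⟨hl1, hl2⟩, hl3⟩ := H.2.2 T.left T'.left j.left b.left a.left hj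
    (by rw [← Over.comp_left, hab', Over.comp_left])
  have hl4 : l ≫ W.hom = T'.hom := by
    change l ≫ h' ≫ X.hom = T'.hom
    rw [← Category.assoc, hl2, Over.w]
  refine ⟨(yon S).map (Over.homMk l hl4), ⟨?_, ?_⟩, ?_⟩
  · rw [← Functor.map_comp, ← Functor.map_comp]
    congr 1
    ext1
    exact hl1
  · rw [← Functor.map_comp]
    congr 1
    ext1
    exact hl2
  · rintro m ⟨hm1, hm2⟩
    obtain ⟨m, rfl⟩ := (yon S).map_surjective m
    rw [← Functor.map_comp, ← Functor.map_comp] at hm1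
    rw [← Functor.map_comp] at hm2
    congr 1
    ext1
    refine hl3 m.left ⟨?_, ?_⟩
    · exact congrArg (fun f ↦ f.left) ((yon S).map_injective hm1)
    · exact congrArg (fun f ↦ f.left) ((yon S).map_injective hm2)

/-- Existence of the universal first order thickening, together with an etale chart. -/
theorem exists_univ {Z X : Sp S} (hZ : IsAlgSpace Z) (hX : IsAlgSpace X) {h : Z ⟶ X}
    (hh : IsFormallyUnramifiedMor h) :
    ∃ (Z' : Sp S) (iZ : Z ⟶ Z') (h' : Z' ⟶ X), IsAlgSpace Z' ∧ IsUnivFOThick h iZ h' ∧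
      IsFormallyUnramifiedMor h' := by
  obtain ⟨U, V, a, b, g, ha, ha', hb, hb', w⟩ := K634.Charts.exists_chart h hZ hX
  have hg : FormallyUnramified g.left := K634.Charts.chart_unramified ha w hh
  obtain ⟨U', i, g', H⟩ := K584.UnivGlue.exists_univ g.left
  have hg' : FormallyUnramified g' := K584.UnivAff.formallyUnramified_of_isUnivThickening g.left i g' H
  obtain ⟨W, iW, hW, rfl, e, HW⟩ := isUnivFOThick_of_scheme g H
  obtain rfl := eq_of_heq e
  have H2 : IsUnivFOThick (a ≫ h) ((yon S).map iW) ((yon S).map hW ≫ b) := by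
    rw [w]
    exact comp_formallyEtale HW (isFormallyEtaleMor_of_repWith hb)
  obtain ⟨Z', iZ, h', π, hA, hπe, hπs, -, hπ, HU⟩ := K635.UnivQuot.exists_of_chart ha ha' H2
  exact ⟨Z', iZ, h', hA, HU, K634.Charts.unramified_of_chart hπe hπs hb hπ hg'⟩

/-- The universal first order thickening is formally unramified. -/
theorem formallyUnramified_of_univ {Z Z' X : Sp S} (hZ : IsAlgSpace Z) (hZ' : IsAlgSpace Z') (hX : IsAlgSpace X)
    {h : Z ⟶ X} (hh : IsFormallyUnramifiedMor h) {i : Z ⟶ Z'} {h' : Z' ⟶ X} (HU : IsUnivFOThick h i h') :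
    IsFormallyUnramifiedMor h' := by
  obtain ⟨Z₁, i₁, h₁, hA, H₁, hu⟩ := exists_univ hZ hX hh
  obtain ⟨φ, -, hφ⟩ := K635.UnivEt.exists_iso hZ hZ' hA HU H₁
  rw [← hφ]
  refine comp_unramified ?_ hu
  exact K635.InfLift.unramified_of_etale (isFormallyEtaleMor_of_repWith (K635.UnivEt.repWith_etale_iso φ))

end K635.UnivExist
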