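import Groth.Agent.Sga4A.EtFam
import Groth.Agent.AlgSp.K635.EtTop
import Groth.Agent.AlgSp.K613.Diag
/-!
The sheaf of sections of an etale algebraic space `u : U ⟶ h_X` on the small etale site of `X`, and its stalks.
-/

set_option autoImplicit false
universe u
open CategoryTheory CategoryTheory.Limits AlgebraicGeometry Opposite Topology

namespace K635.EtSh

open AlgSp EtDesc Groth.Agent.Sga4A.EtStalk K635.EtTop

variable {S : Scheme.{u}} {X : Over S}

/-- An etale `X`-scheme as a scheme over `S`. -/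
abbrev ob (W : X.left.Etale) : Over S := Over.mk (W.hom ≫ X.hom)

/-- The structure map. -/
abbrev st (W : X.left.Etale) : ob W ⟶ X := Over.homMk W.hom rfl

theorem w_left {W' W : X.left.Etale} (q : W' ⟶ W) : q.left ≫ W.hom = W'.hom := Over.w q.hom

/-- Morphisms. -/
abbrev mp {W' W : X.left.Etale} (q : W' ⟶ W) : ob W' ⟶ ob W :=
  Over.homMk q.left (by
    change q.left ≫ W.hom ≫ X.hom = W'.hom ≫ X.hom
    rw [← Category.assoc, w_left])

theorem mp_st {W' W : X.left.Etale} (q : W' ⟶ W) : mp q ≫ st W = st W' := by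
  ext1
  exact w_left q

theorem mp_comp {W'' W' W : X.left.Etale} (q' : W'' ⟶ W') (q : W' ⟶ W) : mp (q' ≫ q) = mp q' ≫ mp q := rfl

theorem mp_id (W : X.left.Etale) : mp (𝟙 W) = 𝟙 (ob W) := rfl

theorem hom_ext_et {F : Sp S} {W : X.left.Etale} (a b : (yon S).obj (ob W) ⟶ F)
    (h : ∀ x : W.left, ∃ (V : X.left.Etale) (g : V ⟶ W) (v : V.left), g.left v = x ∧
      (yon S).map (mp g) ≫ a = (yon S).map (mp g) ≫ b) : a = b := by
  choose V g v hv hab using h
  have hg : ∀ i, Etale (mp (g i)).left := fun i => inferInstanceAs (Etale (g i).left)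
  obtain ⟨y, -, hy⟩ := K613.Basic.glueFam (T := ob W) (ι := W.left) (fun i => ob (V i)) (fun i => mp (g i))
    (fun i => inferInstance) (fun i => inferInstance) (fun t => ⟨t, v t, hv t⟩)
    (fun i => (yon S).map (mp (g i)) ≫ b) (fun i j R r r' hr => by
      rw [← Category.assoc, ← Category.assoc, ← Functor.map_comp, ← Functor.map_comp, hr])
  rw [hy a hab, hy b fun i => rfl]

variable {U : Sp S} (u : U ⟶ (yon S).obj X)

/-- Sections of `u` over etale `X`-schemes. -/
def psh : (X.left.Etale)ᵒᵖ ⥤ Type (u + 1) where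
  obj W := {s : (yon S).obj (ob W.unop) ⟶ U // s ≫ u = (yon S).map (st W.unop)}
  map q := ↾fun s => ⟨(yon S).map (mp q.unop) ≫ s.1, by
    rw [Category.assoc, s.2, ← Functor.map_comp, mp_st]⟩
  map_id W := by
    refine ConcreteCategory.hom_ext _ _ fun s => ?_
    apply Subtype.ext
    change (yon S).map (mp (𝟙 W.unop)) ≫ s.1 = s.1
    rw [mp_id, (yon S).map_id, Category.id_comp]
  map_comp q q' := by
    refine ConcreteCategory.hom_ext _ _ fun s => ?_
    apply Subtype.ext
    change (yon S).map (mp (q'.unop ≫ q.unop)) ≫ s.1 = (yon S).map (mp q'.unop) ≫ (yon S).map (mp q.unop) ≫ s.1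
    rw [mp_comp, Functor.map_comp, Category.assoc]

theorem isSheaf_psh : Presieve.IsSheaf X.left.smallEtaleTopology (psh u) := by
  intro W R hR σ hσ
  rw [Presieve.compatible_iff_sieveCompatible] at hσ
  have hres : ∀ (V V' : X.left.Etale) (q' : V' ⟶ V) (q : V ⟶ W) (hq : R q),
      (σ (q' ≫ q) (R.downward_closed hq q')).1 = (yon S).map (mp q') ≫ (σ q hq).1 := fun V V' q' q hq =>
    congrArg Subtype.val (hσ q q' hq)
  have hval : ∀ (V V' : X.left.Etale) (q : V ⟶ W) (hq : R q) (q' : V' ⟶ W) (hq' : R q') (P : X.left.Etale)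
      (a : P ⟶ V) (b : P ⟶ V') (_ : a ≫ q = b ≫ q'),
      (yon S).map (mp a) ≫ (σ q hq).1 = (yon S).map (mp b) ≫ (σ q' hq').1 := by
    intro V V' q hq q' hq' P a b h
    rw [← hres, ← hres]
    congr 2
  have hR' := hR
  rw [Groth.Agent.Etbase.EtSite.mem_iff] at hR
  choose V g v hg hv using hR
  have hge : ∀ i, Etale (mp (g i)).left := fun i => inferInstanceAs (Etale (g i).left)
  obtain ⟨y, hy, hyu⟩ := K613.Basic.glueFam (F := U) (T := ob W) (ι := W.left) (fun i => ob (V i)) (fun i => mp (g i))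
    (fun i => inferInstance) (fun i => inferInstance) (fun t => ⟨t, v t, hv t⟩)
    (fun i => (σ (g i) (hg i)).1) (fun i j Q r r' hr => by
      have hr' : r.left ≫ (g i).left = r'.left ≫ (g j).left := congrArg (fun m => m.left) hr
      let P : X.left.Etale := Scheme.Etale.mk (pullback.fst (g i).left (g j).left ≫ (V i).hom)
      let a : P ⟶ V i := MorphismProperty.Over.homMk (pullback.fst _ _) rfl trivial
      let b : P ⟶ V j := MorphismProperty.Over.homMk (pullback.snd _ _) (by
        change pullback.snd (g i).left (g j).left ≫ (V j).hom = pullback.fst (g i).left (g j).left ≫ (V i).hom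
        rw [← w_left (g i), ← w_left (g j), ← Category.assoc, ← pullback.condition, Category.assoc]) trivial
      have hab : a ≫ g i = b ≫ g j := by
        apply MorphismProperty.Over.Hom.ext
        exact pullback.condition
      have hl1 : pullback.lift r.left r'.left hr' ≫ pullback.fst (g i).left (g j).left = r.left := pullback.lift_fst _ _ _
      have hl2 : pullback.lift r.left r'.left hr' ≫ pullback.snd (g i).left (g j).left = r'.left := pullback.lift_snd _ _ _
      let c : Q ⟶ ob P := Over.homMk (pullback.lift r.left r'.left hr') (by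
        change pullback.lift r.left r'.left hr' ≫ (pullback.fst (g i).left (g j).left ≫ (V i).hom) ≫ X.hom = Q.hom
        rw [← Category.assoc, ← Category.assoc, hl1, Category.assoc]
        exact Over.w r)
      have h1 : r = c ≫ mp a := by ext1; exact hl1.symm
      have h2 : r' = c ≫ mp b := by ext1; exact hl2.symm
      rw [h1, h2, Functor.map_comp, Functor.map_comp, Category.assoc, Category.assoc,
        hval _ _ _ (hg i) _ (hg j) P a b hab])
  have hyu' : y ≫ u = (yon S).map (st W) := by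
    refine hom_ext_et _ _ fun x => ⟨V x, g x, v x, hv x, ?_⟩
    rw [← Category.assoc, hy, (σ (g x) (hg x)).2, ← Functor.map_comp, mp_st]
  refine ⟨⟨y, hyu'⟩, fun V' q hq => ?_, fun z hz => ?_⟩
  · apply Subtype.ext
    change (yon S).map (mp q) ≫ y = (σ q hq).1
    refine hom_ext_et _ _ fun x => ?_
    obtain ⟨P, a, b, p, hab, ha, hb⟩ := Groth.Agent.Etbase.EtSite.exists_pullback q (g (q.left x)) x (v (q.left x))
      (hv (q.left x)).symm
    refine ⟨P, a, p, ha, ?_⟩
    rw [hval _ _ _ hq _ (hg (q.left x)) P a b hab, ← hy, ← Category.assoc, ← Category.assoc, ← Functor.map_comp,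
      ← Functor.map_comp, ← mp_comp, ← mp_comp, hab]
  · apply Subtype.ext
    refine hyu z.1 fun i => ?_
    exact congrArg Subtype.val (hz (g i) (hg i))

/-- The sheaf of sections of `u` on the small etale site. -/
def sh : Sh X.left := ⟨psh u, (isSheaf_iff_isSheaf_of_type _ _).2 (isSheaf_psh u)⟩

/-- The underlying morphism of a section. -/
def val {u : U ⟶ (yon S).obj X} {W : X.left.Etale} (s : sect (sh u) W) : (yon S).obj (ob W) ⟶ U := s.1

theorem val_u {W : X.left.Etale} (s : sect (sh u) W) : val s ≫ u = (yon S).map (st W) := s.2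

/-- Constructor of sections. -/
def mk {W : X.left.Etale} (s : (yon S).obj (ob W) ⟶ U) (h : s ≫ u = (yon S).map (st W)) : sect (sh u) W := ⟨s, h⟩

theorem val_mk {W : X.left.Etale} (s : (yon S).obj (ob W) ⟶ U) (h : s ≫ u = (yon S).map (st W)) :
    val (mk u s h) = s := rfl

theorem ext_val {W : X.left.Etale} {s t : sect (sh u) W} (h : val s = val t) : s = t := Subtype.ext h

theorem val_map {W' W : X.left.Etale} (q : W' ⟶ W) (s : sect (sh u) W) :
    val ((sh u).obj.map q.op s) = (yon S).map (mp q) ≫ val s := rfl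

section Pt

variable {Ω : Type u} [Field Ω]

/-- A geometric point of `X` as a scheme over `S`. -/
noncomputable abbrev pt (ζ : Spec (.of Ω) ⟶ X.left) : Over S := Over.mk (ζ ≫ X.hom)

/-- The map `pt ζ ⟶ ob W` of a lift `l` of `ζ`. -/
noncomputable abbrev ptm {ζ : Spec (.of Ω) ⟶ X.left} {W : X.left.Etale} (l : Spec (.of Ω) ⟶ W.left) (hl : l ≫ W.hom = ζ) :
    pt ζ ⟶ ob W := Over.homMk l (by
      change l ≫ W.hom ≫ X.hom = ζ ≫ X.hom
      rw [← Category.assoc, hl])

theorem spread (hU : IsAlgSpace U) (hu : IsEtaleMor u) {T : Over S} (a b : (yon S).obj T ⟶ U) (w : a ≫ u = b ≫ u)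
    {M : Over S} (m : M ⟶ T) (hm : (yon S).map m ≫ a = (yon S).map m ≫ b) :
    ∃ (E : Over S) (e : E ⟶ T) (m' : M ⟶ E), IsOpenImmersion e.left ∧ m' ≫ e = m ∧
      (yon S).map e ≫ a = (yon S).map e ≫ b := by
  obtain ⟨E, e, he, heo⟩ := (K613.Diag.repWith_diagonal_iff @IsOpenImmersion u).1
    (diag_open hU (IsAlgSpace.yon_obj X) hu) T a b w
  obtain ⟨m', hm', -⟩ := he.lift M m hm
  exact ⟨E, e, m', heo, hm', he.w⟩

variable [IsSepClosed Ω]

theorem germ_eq_iff_val (hU : IsAlgSpace U) (hu : IsEtaleMor u) {ζ : Spec (.of Ω) ⟶ X.left} {W W' : X.left.Etale}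
    (l : Spec (.of Ω) ⟶ W.left) (hl : l ≫ W.hom = ζ) (l' : Spec (.of Ω) ⟶ W'.left) (hl' : l' ≫ W'.hom = ζ)
    (s : sect (sh u) W) (t : sect (sh u) W') : germ (sh u) l hl s = germ (sh u) l' hl' t ↔
      (yon S).map (ptm l hl) ≫ val s = (yon S).map (ptm l' hl') ≫ val t := by
  constructor
  · intro h
    rw [germ_eq_germ_iff] at h
    obtain ⟨V, a, b, n, hn, ha, hb, h⟩ := h
    have h1 := congrArg val h
    rw [val_map, val_map] at h1
    have e1 : ptm l hl = ptm n hn ≫ mp a := by ext1; exact ha.symm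
    have e2 : ptm l' hl' = ptm n hn ≫ mp b := by ext1; exact hb.symm
    rw [e1, e2, Functor.map_comp, Functor.map_comp, Category.assoc, Category.assoc, h1]
  · intro h
    obtain ⟨V, a, b, n, hn, ha, hb⟩ := exists_common_nhd l hl l' hl'
    have e1 : ptm l hl = ptm n hn ≫ mp a := by ext1; exact ha.symm
    have e2 : ptm l' hl' = ptm n hn ≫ mp b := by ext1; exact hb.symm
    rw [e1, e2, Functor.map_comp, Functor.map_comp, Category.assoc, Category.assoc] at h
    obtain ⟨E, e, m', he, hm', h2⟩ := spread u hU hu _ _ (by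
      rw [Category.assoc, Category.assoc, val_u, val_u, ← Functor.map_comp, ← Functor.map_comp, mp_st, mp_st])
      (ptm n hn) h
    rw [germ_eq_germ_iff]
    let E' : X.left.Etale := Scheme.Etale.mk (e.left ≫ V.hom)
    let e' : E' ⟶ V := MorphismProperty.Over.homMk e.left rfl trivial
    have he' : m'.left ≫ e'.left = n := congrArg (fun m => m.left) hm'
    have w : E.hom = (e.left ≫ V.hom) ≫ X.hom := by
      rw [Category.assoc]; exact (Over.w e).symm
    let c : ob E' ⟶ E := Over.homMk (𝟙 E.left) (by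
      change 𝟙 E.left ≫ E.hom = (e.left ≫ V.hom) ≫ X.hom
      rw [Category.id_comp]; exact w)
    have e3 : mp e' = c ≫ e := by
      ext1
      exact (Category.id_comp _).symm
    refine ⟨E', e' ≫ a, e' ≫ b, m'.left, ?_, ?_, ?_, ?_⟩
    · have h3 : m'.left ≫ e.left = n := he'
      change m'.left ≫ e.left ≫ V.hom = ζ
      rw [← Category.assoc, h3, hn]
    · rw [← ha, ← he']; exact (Category.assoc _ _ _).symm
    · rw [← hb, ← he']; exact (Category.assoc _ _ _).symm
    · apply ext_val
      rw [val_map, val_map, mp_comp, mp_comp, Functor.map_comp, Functor.map_comp, Category.assoc, Category.assoc, e3,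
        Functor.map_comp, Category.assoc, Category.assoc, h2]

/-- Geometric points lift to etale charts. -/
theorem exists_lift_chart {A : Over S} {F : Sp S} {p : (yon S).obj A ⟶ F} (hp : RepWith @Etale p)
    (hps : RepWith @Surjective p) {M : Over S} (i : M.left ≅ Spec (.of Ω)) (c : (yon S).obj M ⟶ F) :
    ∃ c' : M ⟶ A, (yon S).map c' ≫ p = c := by
  obtain ⟨Q, q, fst, sq⟩ := hp.1 c
  have h1 : Etale q.left := hp.2 _ _ _ sq
  have h2 : Surjective q.left := hps.2 _ _ _ sq
  obtain ⟨t, ht⟩ := h2.surj (i.inv default)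
  obtain ⟨m, hm, -⟩ := Scheme.exists_fac_of_etale_of_isSepClosed q.left i.inv t ht
  have hm1 : (i.hom ≫ m) ≫ q.left = 𝟙 _ := by rw [Category.assoc, hm, i.hom_inv_id]
  let m' : M ⟶ Q := Over.homMk (i.hom ≫ m) (by rw [← Over.w q, ← Category.assoc, hm1, Category.id_comp])
  have hm' : m' ≫ q = 𝟙 M := by ext1; exact hm1
  obtain ⟨r, hr⟩ := (yon S).map_surjective fst
  refine ⟨m' ≫ r, ?_⟩
  rw [Functor.map_comp, Category.assoc, hr, sq.w, ← Category.assoc, ← Functor.map_comp, hm', (yon S).map_id,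
    Category.id_comp]

/-- An etale chart of `U` as a section of `sh u`. -/
theorem exists_sect_of_chart (hu : IsEtaleMor u) {A : Over S} {p : (yon S).obj A ⟶ U} (hp : RepWith @Etale p) :
    ∃ (W : X.left.Etale) (e : ob W ≅ A) (s : sect (sh u) W), val s = (yon S).map e.hom ≫ p := by
  obtain ⟨w, hw⟩ := (yon S).map_surjective (p ≫ u)
  have h1 : RepWith @Etale ((yon S).map w) := by rw [hw]; exact hu p hp
  have h2 : Etale w.left := (repWith_yon_map_iff @Etale w).1 h1
  let W : X.left.Etale := Scheme.Etale.mk w.left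
  let e : ob W ≅ A := Over.isoMk (Iso.refl _) (by
    change 𝟙 _ ≫ A.hom = w.left ≫ X.hom
    rw [Category.id_comp, Over.w])
  refine ⟨W, e, mk u ((yon S).map e.hom ≫ p) ?_, rfl⟩
  rw [Category.assoc, ← hw, ← Functor.map_comp]
  congr 1

theorem exists_germ_of_pt (hU : IsAlgSpace U) (hu : IsEtaleMor u) (ζ : Spec (.of Ω) ⟶ X.left)
    (c : (yon S).obj (pt ζ) ⟶ U) (hc : c ≫ u = (yon S).map (Over.homMk ζ rfl : pt ζ ⟶ X)) :
    ∃ (W : X.left.Etale) (l : Spec (.of Ω) ⟶ W.left) (hl : l ≫ W.hom = ζ) (s : sect (sh u) W),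
      (yon S).map (ptm l hl) ≫ val s = c := by
  obtain ⟨A, p, hp, hps⟩ := hU.atlas
  obtain ⟨c', hc'⟩ := exists_lift_chart hp hps (M := pt ζ) (Iso.refl _) c
  obtain ⟨W, e, s, hs⟩ := exists_sect_of_chart u hu hp
  have h1 : (c' ≫ e.inv) ≫ st W = Over.homMk ζ rfl := by
    apply (yon S).map_injective
    rw [Functor.map_comp, ← val_u u s, hs, ← hc, ← hc']
    simp only [← Category.assoc, ← Functor.map_comp]
    rw [Category.assoc c', e.inv_hom_id, Category.comp_id]
  have h2 : (c' ≫ e.inv).left ≫ W.hom = ζ := congrArg (fun m => m.left) h1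
  refine ⟨W, (c' ≫ e.inv).left, h2, s, ?_⟩
  rw [hs, ← hc', ← Category.assoc, ← Functor.map_comp]
  congr 2
  have h3 : ptm (c' ≫ e.inv).left h2 = c' ≫ e.inv := by ext1; rfl
  rw [h3, Category.assoc, e.inv_hom_id, Category.comp_id]

/-- The germ of a geometric point of `U`. -/
noncomputable def gOf (hU : IsAlgSpace U) (hu : IsEtaleMor u) (ζ : Spec (.of Ω) ⟶ X.left)
    (c : (yon S).obj (pt ζ) ⟶ U) (hc : c ≫ u = (yon S).map (Over.homMk ζ rfl : pt ζ ⟶ X)) : Stk (sh u) ζ :=
  germ (sh u) _ (exists_germ_of_pt u hU hu ζ c hc).choose_spec.choose_spec.choose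
    (exists_germ_of_pt u hU hu ζ c hc).choose_spec.choose_spec.choose_spec.choose

theorem gOf_eq_germ_iff (hU : IsAlgSpace U) (hu : IsEtaleMor u) {ζ : Spec (.of Ω) ⟶ X.left}
    {c : (yon S).obj (pt ζ) ⟶ U} (hc : c ≫ u = (yon S).map (Over.homMk ζ rfl : pt ζ ⟶ X)) {W : X.left.Etale}
    (l : Spec (.of Ω) ⟶ W.left) (hl : l ≫ W.hom = ζ) (s : sect (sh u) W) :
    gOf u hU hu ζ c hc = germ (sh u) l hl s ↔ c = (yon S).map (ptm l hl) ≫ val s := by
  unfold gOf
  rw [germ_eq_iff_val u hU hu, (exists_germ_of_pt u hU hu ζ c hc).choose_spec.choose_spec.choose_spec.choose_spec]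

end Pt

end K635.EtSh
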