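import Groth.Agent.S3051
import Groth.Agent.AlgSp.K635.EtSh
/-!
Extension of a section of an etale algebraic space over a geometric fibre of a proper morphism of schemes to an etale
neighbourhood.
-/

set_option autoImplicit false
universe u
open CategoryTheory CategoryTheory.Limits AlgebraicGeometry Opposite Topology

namespace K635.CoreExt

open AlgSp EtDesc Groth.Agent.Sga4A.EtStalk K635.EtTop K635.EtSh

variable {S : Scheme.{u}} {X B : Over S} {U : Sp S}

/-- A geometric point of `P` as a map from a geometric point of `X`. -/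
noncomputable abbrev ptl {P : Over S} (p₁ : P ⟶ X) {Ω : Type u} [Field Ω] (η : Spec (.of Ω) ⟶ P.left)
    (ζ : Spec (.of Ω) ⟶ X.left) (h : η ≫ p₁.left = ζ) : pt ζ ⟶ P :=
  Over.homMk η (by
    change η ≫ P.hom = ζ ≫ X.hom
    rw [← Over.w p₁, ← Category.assoc, h])

theorem ptl_comp {P : Over S} (p₁ : P ⟶ X) {Ω : Type u} [Field Ω] (η : Spec (.of Ω) ⟶ P.left)
    (ζ : Spec (.of Ω) ⟶ X.left) (h : η ≫ p₁.left = ζ) : ptl p₁ η ζ h ≫ p₁ = Over.homMk ζ rfl := by
  ext1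
  exact h

variable (u : U ⟶ (yon S).obj X)

/-- The family of germs attached to a map to `U`. -/
noncomputable def fam (hU : IsAlgSpace U) (hu : IsEtaleMor u) {P : Over S} (p₁ : P ⟶ X) (γ : (yon S).obj P ⟶ U)
    (hγ : γ ≫ u = (yon S).map p₁) : Fam (sh u) p₁.left where
  val {Ω} _ _ η ζ h := gOf u hU hu ζ ((yon S).map (ptl p₁ η ζ h) ≫ γ) (by
    rw [Category.assoc, hγ, ← Functor.map_comp, ptl_comp])
  rep y := by
    obtain ⟨A, p, hp, hps⟩ := hU.atlas
    obtain ⟨W, e, s, hs⟩ := exists_sect_of_chart u hu hp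
    obtain ⟨V, j, fst, sq⟩ := hp.1 γ
    have h1 : Etale j.left := hp.2 _ _ _ sq
    have h2 : Surjective j.left := hps.2 _ _ _ sq
    obtain ⟨v, hv⟩ := h2.surj y
    obtain ⟨k₀, rfl⟩ := (yon S).map_surjective fst
    have hk : (k₀ ≫ e.inv) ≫ st W = j ≫ p₁ := by
      apply (yon S).map_injective
      rw [Functor.map_comp, ← val_u u s, hs, Functor.map_comp, Functor.map_comp, ← hγ, ← Category.assoc ((yon S).map j),
        ← sq.w, Category.assoc, Category.assoc, Category.assoc, ← Category.assoc ((yon S).map e.inv),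
        ← Functor.map_comp, e.inv_hom_id, (yon S).map_id, Category.id_comp]
    have hk' : (k₀ ≫ e.inv).left ≫ W.hom = j.left ≫ p₁.left := congrArg (fun m => m.left) hk
    refine ⟨V.left, j.left, h1, v, hv, W, (k₀ ≫ e.inv).left, hk', s, fun {Ω} _ _ ζ ξ h h' => ?_⟩
    rw [gOf_eq_germ_iff]
    let z : pt ξ ⟶ V := ptl (j ≫ p₁) ζ ξ (by rw [← h, Category.assoc]; rfl)
    have e1 : ptl p₁ (ζ ≫ j.left) ξ h = z ≫ j := rfl
    have e2 : ptm (ζ ≫ (k₀ ≫ e.inv).left) h' = z ≫ k₀ ≫ e.inv := rfl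
    rw [e1, e2, hs, Functor.map_comp, Functor.map_comp, Functor.map_comp, Category.assoc, Category.assoc, Category.assoc,
      ← sq.w]
    congr 2
    rw [← Category.assoc, ← Functor.map_comp, e.inv_hom_id, (yon S).map_id, Category.id_comp]

theorem fam_val (hU : IsAlgSpace U) (hu : IsEtaleMor u) {P : Over S} (p₁ : P ⟶ X) (γ : (yon S).obj P ⟶ U)
    (hγ : γ ≫ u = (yon S).map p₁) {Ω : Type u} [Field Ω] [IsSepClosed Ω] (η : Spec (.of Ω) ⟶ P.left)
    (ζ : Spec (.of Ω) ⟶ X.left) (h : η ≫ p₁.left = ζ) {W : X.left.Etale} (l : Spec (.of Ω) ⟶ W.left)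
    (hl : l ≫ W.hom = ζ) (s : sect (sh u) W) (e : (fam u hU hu p₁ γ hγ).val η ζ h = germ (sh u) l hl s) :
    (yon S).map (ptl p₁ η ζ h) ≫ γ = (yon S).map (ptm l hl) ≫ val s :=
  (gOf_eq_germ_iff u hU hu (by rw [Category.assoc, hγ, ← Functor.map_comp, ptl_comp]) l hl s).1 e

theorem exists_ext' (π : X ⟶ B) (hπ : BCsurj π.left) (hU : IsAlgSpace U) (hu : IsEtaleMor u)
    {Ω : Type u} [Field Ω] [IsSepClosed Ω] (ξ : Spec (.of Ω) ⟶ B.left)
    (γ : (yon S).obj (Over.mk (pullback.fst π.left ξ ≫ X.hom)) ⟶ U)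
    (hγ : γ ≫ u = (yon S).map (Over.homMk (pullback.fst π.left ξ) rfl)) :
    ∃ (T : Over S) (e : T ⟶ B) (l : Over.mk (ξ ≫ B.hom) ⟶ T) (Q : Over S) (q₁ : Q ⟶ X) (q₂ : Q ⟶ T)
      (i : Over.mk (pullback.fst π.left ξ ≫ X.hom) ⟶ Q) (β : (yon S).obj Q ⟶ U),
      Etale e.left ∧ l ≫ e = Over.homMk ξ rfl ∧ IsPullback q₁ q₂ π e ∧ i ≫ q₁ = Over.homMk (pullback.fst π.left ξ) rfl ∧
      (i ≫ q₂).left = pullback.snd π.left ξ ≫ l.left ∧ β ≫ u = (yon S).map q₁ ∧ (yon S).map i ≫ β = γ := by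
  let P : Over S := Over.mk (pullback.fst π.left ξ ≫ X.hom)
  let p₁ : P ⟶ X := Over.homMk (pullback.fst π.left ξ) rfl
  obtain ⟨W, l, hl, b, hb⟩ := hπ (sh u) Ω ξ (fam u hU hu p₁ γ hγ)
  let T : Over S := Over.mk (W.hom ≫ B.hom)
  let e : T ⟶ B := Over.homMk W.hom rfl
  let Q : Over S := ob ((EtCoh.bc π.left).obj W)
  let q₁ : Q ⟶ X := st ((EtCoh.bc π.left).obj W)
  let q₂ : Q ⟶ T := Over.homMk (bcFst π.left W) (by
    change bcFst π.left W ≫ W.hom ≫ B.hom = ((EtCoh.bc π.left).obj W).hom ≫ X.hom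
    rw [← Category.assoc, bc_condition, Category.assoc, Over.w])
  let l' : Over.mk (ξ ≫ B.hom) ⟶ T := Over.homMk l (by
    change l ≫ W.hom ≫ B.hom = ξ ≫ B.hom
    rw [← Category.assoc, hl])
  have hcond : (pullback.snd π.left ξ ≫ l) ≫ W.hom = pullback.fst π.left ξ ≫ π.left := by
    rw [Category.assoc, hl, pullback.condition]
  let i₀ : P.left ⟶ Q.left := pullback.lift (pullback.snd π.left ξ ≫ l) (pullback.fst π.left ξ) hcond
  have hi1 : i₀ ≫ bcFst π.left W = pullback.snd π.left ξ ≫ l := pullback.lift_fst _ _ _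
  have hi2 : i₀ ≫ ((EtCoh.bc π.left).obj W).hom = pullback.fst π.left ξ := pullback.lift_snd _ _ _
  let i : P ⟶ Q := Over.homMk i₀ (by
    change i₀ ≫ ((EtCoh.bc π.left).obj W).hom ≫ X.hom = pullback.fst π.left ξ ≫ X.hom
    rw [← Category.assoc, hi2])
  have hsq : IsPullback q₁ q₂ π e := by
    have h1 : IsPullback q₁.left q₂.left π.left e.left := (IsPullback.of_hasPullback W.hom π.left).flip
    exact IsPullback.of_map (Over.forget S) (by ext1; exact h1.w) h1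
  refine ⟨T, e, l', Q, q₁, q₂, i, val b, W.prop, ?_, hsq, ?_, hi1, val_u u b, ?_⟩
  · ext1; exact hl
  · ext1; exact hi2
  · refine eq_of_points hU (IsAlgSpace.yon_obj X) hu _ _ ?_ fun x => ?_
    · rw [Category.assoc, val_u, ← Functor.map_comp, hγ]
      congr 1
      ext1; exact hi2
    · obtain ⟨y, rfl⟩ := (Points.schemeEquiv P).surjective x
      obtain ⟨Ω', _, _, η, hη⟩ := exists_geomPoint P.left y
      have h1 := hb η (η ≫ pullback.fst π.left ξ) rfl (by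
        simp only [Category.assoc]
        rw [← Category.assoc (pullback.snd π.left ξ) l, hcond])
      have h2 := fam_val u hU hu p₁ γ hγ η _ rfl _ _ b h1
      refine ⟨_, (yon S).map (ptl p₁ η _ rfl), Points.ofScheme _ (default : Spec (.of Ω')), ?_, ?_⟩
      · rw [← Points.ofPt_eq_map_ofScheme]
        change Points.ofPt ((yon S).map (ptl p₁ η _ rfl)) _ = Points.ofScheme P y
        rw [← hη, ← Category.comp_id ((yon S).map _), K610.Base.ofPt_map_comp]
        exact (Points.ofPt_eq_map_ofScheme _ _).trans (Points.map_id _)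
      · rw [h2, ← Category.assoc, ← Functor.map_comp]
        congr 2
        ext1
        apply hom_ext_bc
        · change (η ≫ i₀) ≫ bcFst π.left W = _
          rw [Category.assoc, hi1]
          exact (bcPt_fst _ _ _ _).symm
        · change (η ≫ i₀) ≫ ((EtCoh.bc π.left).obj W).hom = _
          rw [Category.assoc, hi2]
          exact (bcPt_hom _ _ _ _).symm

/-- Extension of a section over a geometric fibre to an etale neighbourhood. -/
theorem exists_ext (π : X ⟶ B) (hπ : BCsurj π.left) (hU : IsAlgSpace U) (hu : IsEtaleMor u)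
    {Ω : Type u} [Field Ω] [IsSepClosed Ω] {s : Spec (.of Ω) ⟶ S} (ξ : Over.mk s ⟶ B) {P : Over S} {p₁ : P ⟶ X}
    {p₂ : P ⟶ Over.mk s} (hP : IsPullback p₁ p₂ π ξ) (γ : (yon S).obj P ⟶ U) (hγ : γ ≫ u = (yon S).map p₁) :
    ∃ (T : Over S) (e : T ⟶ B) (l : Over.mk s ⟶ T) (Q : Over S) (q₁ : Q ⟶ X) (q₂ : Q ⟶ T)
      (i : P ⟶ Q) (β : (yon S).obj Q ⟶ U),
      Etale e.left ∧ l ≫ e = ξ ∧ IsPullback q₁ q₂ π e ∧ i ≫ q₁ = p₁ ∧ IsPullback i p₂ q₂ l ∧
      β ≫ u = (yon S).map q₁ ∧ (yon S).map i ≫ β = γ := by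
  obtain ⟨ξ₀, hξ₀, rfl⟩ : ∃ (ξ₀ : Spec (.of Ω) ⟶ B.left) (h : ξ₀ ≫ B.hom = s), ξ = Over.homMk ξ₀ h :=
    ⟨ξ.left, Over.w ξ, by ext1; rfl⟩
  subst hξ₀
  have hP' : IsPullback p₁.left p₂.left π.left ξ₀ := hP.map (Over.forget S)
  let P' : Over S := Over.mk (pullback.fst π.left ξ₀ ≫ X.hom)
  let k : P' ⟶ P := Over.homMk hP'.isoPullback.inv (by
    change hP'.isoPullback.inv ≫ P.hom = pullback.fst π.left ξ₀ ≫ X.hom
    rw [← Over.w p₁, ← Category.assoc, IsPullback.isoPullback_inv_fst])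
  let k' : P ⟶ P' := Over.homMk hP'.isoPullback.hom (by
    change hP'.isoPullback.hom ≫ pullback.fst π.left ξ₀ ≫ X.hom = P.hom
    rw [← Over.w p₁, ← Category.assoc, IsPullback.isoPullback_hom_fst])
  have hk : k' ≫ k = 𝟙 _ := by ext1; exact hP'.isoPullback.hom_inv_id
  have hk1 : k ≫ p₁ = Over.homMk (pullback.fst π.left ξ₀) rfl := by
    ext1; exact IsPullback.isoPullback_inv_fst _
  have hk2 : k' ≫ (Over.homMk (pullback.fst π.left ξ₀) rfl : P' ⟶ X) = p₁ := by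
    ext1; exact IsPullback.isoPullback_hom_fst _
  obtain ⟨T, e, l, Q, q₁, q₂, i, β, h1, h2, h3, h4, h5, h6, h7⟩ := exists_ext' u π hπ hU hu ξ₀
    ((yon S).map k ≫ γ) (by rw [Category.assoc, hγ, ← Functor.map_comp, hk1])
  have h8 : (k' ≫ i) ≫ q₁ = p₁ := by rw [Category.assoc, h4, hk2]
  have h9 : (k' ≫ i) ≫ q₂ = p₂ ≫ l := by
    ext1
    change hP'.isoPullback.hom ≫ (i ≫ q₂).left = p₂.left ≫ l.left
    rw [h5, ← Category.assoc, IsPullback.isoPullback_hom_snd]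
  refine ⟨T, e, l, Q, q₁, q₂, k' ≫ i, β, h1, h2, h3, h8, ?_, h6, ?_⟩
  · refine IsPullback.of_right ?_ h9 h3
    rw [h8, h2]
    exact hP
  · rw [Functor.map_comp, Category.assoc, h7, ← Category.assoc, ← Functor.map_comp, hk, (yon S).map_id,
      Category.id_comp]

end K635.CoreExt
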