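import Groth.Agent.AlgSp.K635.DescFun
/-!
The transport operation of a descent datum given by an isomorphism with a cocycle condition.
-/

set_option autoImplicit false
universe u
open CategoryTheory CategoryTheory.Limits AlgebraicGeometry Opposite Topology

namespace K635.DescDatum

open AlgSp K635.DescFun

variable {S : Scheme.{u}} {X Y X₂ X₃ U U₀ U₁ W₀ W₁ W₂ : Sp S}

/-- A descent datum gives transport of points. -/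
theorem exists_tr (f : X ⟶ Y) (p₀ p₁ : X₂ ⟶ X) (hX₂ : IsPullback p₀ p₁ f f)
    (π₀₁ π₁₂ π₀₂ : X₃ ⟶ X₂) (hX₃ : IsPullback π₀₁ π₁₂ p₁ p₀)
    (h₀₂ : π₀₂ ≫ p₀ = π₀₁ ≫ p₀) (h₀₂' : π₀₂ ≫ p₁ = π₁₂ ≫ p₁)
    (u : U ⟶ X) (a₀ : U₀ ⟶ U) (b₀ : U₀ ⟶ X₂) (hU₀ : IsPullback a₀ b₀ u p₀)
    (a₁ : U₁ ⟶ U) (b₁ : U₁ ⟶ X₂) (hU₁ : IsPullback a₁ b₁ u p₁)
    (φ : U₀ ≅ U₁) (hφ : φ.hom ≫ b₁ = b₀)
    (c₀ : W₀ ⟶ U) (d₀ : W₀ ⟶ X₃) (hW₀ : IsPullback c₀ d₀ u (π₀₁ ≫ p₀))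
    (c₁ : W₁ ⟶ U) (d₁ : W₁ ⟶ X₃)
    (c₂ : W₂ ⟶ U)
    (e₀ : W₀ ⟶ U₀) (he₀ : e₀ ≫ a₀ = c₀) (he₀' : e₀ ≫ b₀ = d₀ ≫ π₀₁)
    (e₁ : W₁ ⟶ U₀) (he₁ : e₁ ≫ a₀ = c₁) (he₁' : e₁ ≫ b₀ = d₁ ≫ π₁₂)
    (e₂ : W₀ ⟶ U₀) (he₂ : e₂ ≫ a₀ = c₀) (he₂' : e₂ ≫ b₀ = d₀ ≫ π₀₂)
    (ψ₀₁ : W₀ ⟶ W₁) (hψ₀₁ : ψ₀₁ ≫ d₁ = d₀) (hψ₀₁' : ψ₀₁ ≫ c₁ = e₀ ≫ φ.hom ≫ a₁)
    (ψ₁₂ : W₁ ⟶ W₂) (hψ₁₂' : ψ₁₂ ≫ c₂ = e₁ ≫ φ.hom ≫ a₁)
    (ψ₀₂ : W₀ ⟶ W₂) (hψ₀₂' : ψ₀₂ ≫ c₂ = e₂ ≫ φ.hom ≫ a₁)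
    (cocycle : ψ₀₁ ≫ ψ₁₂ = ψ₀₂) :
    ∃ D : Tr f u, ∀ (R : Sp S) (a : R ⟶ U) (x : R ⟶ X) (h : a ≫ u ≫ f = x ≫ f) (l : R ⟶ U₀),
      l ≫ a₀ = a → l ≫ b₀ ≫ p₁ = x → D.tr a x h = l ≫ φ.hom ≫ a₁ := by
  have hl : ∀ {R : Sp S} (a : R ⟶ U) (x : R ⟶ X) (_ : a ≫ u ≫ f = x ≫ f), ∃ l : R ⟶ U₀, l ≫ a₀ = a ∧ l ≫ b₀ ≫ p₁ = x := by
    intro R a x h
    have h1 : (a ≫ u) ≫ f = x ≫ f := by rw [Category.assoc, h]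
    refine ⟨hU₀.lift a (hX₂.lift (a ≫ u) x h1) (by rw [hX₂.lift_fst]), hU₀.lift_fst _ _ _, ?_⟩
    rw [← Category.assoc, hU₀.lift_snd, hX₂.lift_snd]
  have hlu : ∀ {R : Sp S} (l l' : R ⟶ U₀), l ≫ a₀ = l' ≫ a₀ → l ≫ b₀ ≫ p₁ = l' ≫ b₀ ≫ p₁ → l = l' := by
    intro R l l' h h'
    refine hU₀.hom_ext h (hX₂.hom_ext ?_ (by simpa only [Category.assoc] using h'))
    rw [Category.assoc, Category.assoc, ← hU₀.w, ← Category.assoc, h, Category.assoc]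
  have hW : ∀ {R : Sp S} (l l' : R ⟶ U₀), l ≫ b₀ = l' ≫ b₀ → l ≫ φ.hom ≫ a₁ = l' ≫ φ.hom ≫ a₁ → l = l' := by
    intro R l l' h h'
    rw [← cancel_mono φ.hom]
    refine hU₁.hom_ext (by simpa only [Category.assoc] using h') ?_
    rw [Category.assoc, Category.assoc, hφ, h]
  choose L hL1 hL2 using @hl
  have tru : ∀ {R : Sp S} (a : R ⟶ U) (x : R ⟶ X) (h : a ≫ u ≫ f = x ≫ f), (L a x h ≫ φ.hom ≫ a₁) ≫ u = x := by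
    intro R a x h
    rw [Category.assoc, Category.assoc, hU₁.w, ← Category.assoc φ.hom, hφ, hL2 a x h]
  have trtr : ∀ {R : Sp S} (a : R ⟶ U) (x x' : R ⟶ X) (h : a ≫ u ≫ f = x ≫ f)
      (h' : (L a x h ≫ φ.hom ≫ a₁) ≫ u ≫ f = x' ≫ f) (h'' : a ≫ u ≫ f = x' ≫ f),
      L (L a x h ≫ φ.hom ≫ a₁) x' h' ≫ φ.hom ≫ a₁ = L a x' h'' ≫ φ.hom ≫ a₁ := by
    intro R a x x' h h' h''
    have h1 : (a ≫ u) ≫ f = x ≫ f := by rw [Category.assoc, h]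
    have h2 : x ≫ f = x' ≫ f := by rw [← h, h'']
    obtain ⟨k01, hk1, hk2⟩ : ∃ k : R ⟶ X₂, k ≫ p₀ = a ≫ u ∧ k ≫ p₁ = x :=
      ⟨hX₂.lift (a ≫ u) x h1, hX₂.lift_fst _ _ _, hX₂.lift_snd _ _ _⟩
    obtain ⟨k12, hk3, hk4⟩ : ∃ k : R ⟶ X₂, k ≫ p₀ = x ∧ k ≫ p₁ = x' :=
      ⟨hX₂.lift x x' h2, hX₂.lift_fst _ _ _, hX₂.lift_snd _ _ _⟩
    obtain ⟨k, hk5, hk6⟩ : ∃ k : R ⟶ X₃, k ≫ π₀₁ = k01 ∧ k ≫ π₁₂ = k12 :=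
      ⟨hX₃.lift k01 k12 (by rw [hk2, hk3]), hX₃.lift_fst _ _ _, hX₃.lift_snd _ _ _⟩
    obtain ⟨w, hw1, hw2⟩ : ∃ w : R ⟶ W₀, w ≫ c₀ = a ∧ w ≫ d₀ = k :=
      ⟨hW₀.lift a k (by rw [← Category.assoc, hk5, hk1]), hW₀.lift_fst _ _ _, hW₀.lift_snd _ _ _⟩
    have g0 : w ≫ e₀ = L a x h := by
      refine hlu _ _ (by rw [Category.assoc, he₀, hw1, hL1 a x h]) ?_
      rw [Category.assoc, ← Category.assoc e₀, he₀', ← Category.assoc, ← Category.assoc, hw2, hk5, hk2, hL2 a x h]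
    have g2 : w ≫ e₂ = L a x' h'' := by
      refine hlu _ _ (by rw [Category.assoc, he₂, hw1, hL1 a x' h'']) ?_
      rw [Category.assoc, ← Category.assoc e₂, he₂', Category.assoc, ← Category.assoc w, hw2, h₀₂', ← Category.assoc,
        hk6, hk4, hL2 a x' h'']
    have g1 : (w ≫ ψ₀₁) ≫ e₁ = L (L a x h ≫ φ.hom ≫ a₁) x' h' := by
      refine hlu _ _ ?_ ?_
      · rw [Category.assoc, he₁, Category.assoc, hψ₀₁', ← Category.assoc w, g0, hL1 _ _ h']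
      · rw [Category.assoc, ← Category.assoc e₁, he₁', hL2 _ _ h', Category.assoc, Category.assoc d₁,
          ← Category.assoc ψ₀₁, hψ₀₁, ← Category.assoc, hw2, ← Category.assoc, hk6, hk4]
    rw [← g1, ← g2, Category.assoc, ← hψ₁₂', Category.assoc, Category.assoc, ← hψ₀₂', ← cocycle]
    simp only [Category.assoc]
  let D : Tr f u := {
    tr := fun {R} a x h => L a x h ≫ φ.hom ≫ a₁
    tr_u := fun {R} a x h => tru a x h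
    comp_tr := fun {R R'} q a x h h' => by
      rw [← Category.assoc]
      congr 1
      refine hlu _ _ ?_ ?_
      · rw [Category.assoc, hL1 a x h, hL1 _ _ h']
      · rw [Category.assoc, hL2 a x h, hL2 _ _ h']
    tr_tr := fun {R} a x x' h h' h'' => trtr a x x' h h' h''
    tr_self := fun {R} a h => by
      have h3 : (L a (a ≫ u) h ≫ φ.hom ≫ a₁) ≫ u ≫ f = (a ≫ u) ≫ f := by
        rw [← Category.assoc, tru a _ h]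
      have h1 := trtr a (a ≫ u) (a ≫ u) h h3 h
      have h2 := hW _ _ (hX₂.hom_ext ?_ ?_) h1
      · have h4 := congrArg (· ≫ a₀) h2
        rw [hL1 _ _ h3, hL1 _ _ h] at h4
        exact h4
      · rw [Category.assoc, Category.assoc, ← hU₀.w, ← Category.assoc, hL1 _ _ h3, tru a _ h, ← Category.assoc, hL1 _ _ h]
      · rw [Category.assoc, Category.assoc, hL2 _ _ h3, hL2 _ _ h] }
  refine ⟨D, fun R a x h l h1 h2 => ?_⟩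
  change L a x h ≫ φ.hom ≫ a₁ = _
  rw [hlu (L a x h) l (by rw [hL1 a x h, h1]) (by rw [hL2 a x h, h2])]

end K635.DescDatum
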