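import Groth.Agent.AlgSp.K635.DescRep
import Groth.Agent.AlgSp.K596.SepSurj
/-!
Extension of sections of the descended functor: shrinking the base and descending along a proper covering.
-/

set_option autoImplicit false
universe u
open CategoryTheory CategoryTheory.Limits AlgebraicGeometry Opposite Topology

namespace K635.DescExt

open AlgSp K635.EtTop K635.DescFun

variable {S : Scheme.{u}} {X Y U : Sp S} {f : X ⟶ Y} {u : U ⟶ X}

/-- A section over `Q` compatible over a point of `T` is compatible over a neighbourhood. -/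
theorem shrink (hX : IsAlgSpace X) (hU : IsAlgSpace U) (hu : IsEtaleMor u) (D : Tr f u)
    {T : Over S} {Q : Sp S} (hQ : IsAlgSpace Q) {y : (yon S).obj T ⟶ Y} (π : Q ⟶ (yon S).obj T)
    (hπ : IsUnivClosedMor π) (x : Q ⟶ X) (hx : x ≫ f = π ≫ y) (β : Q ⟶ U) (hβ : β ≫ u = x) (t₀ : T.left)
    (h₀ : ∀ (R : Sp S) (c c' : R ⟶ Q) (r : Points R) (h : (c ≫ β) ≫ u ≫ f = (c' ≫ x) ≫ f), c ≫ π = c' ≫ π →
      Points.map (c ≫ π) r = Points.ofScheme T t₀ → EqAt (D.tr (c ≫ β) (c' ≫ x) h) (c' ≫ β) r) :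
    ∃ (T' : Over S) (i : T' ⟶ T), IsOpenImmersion i.left ∧ t₀ ∈ Set.range i.left ∧
      ∀ (R : Sp S) (c c' : R ⟶ Q) (w : R ⟶ (yon S).obj T') (h : (c ≫ β) ≫ u ≫ f = (c' ≫ x) ≫ f),
        c ≫ π = w ≫ (yon S).map i → c' ≫ π = w ≫ (yon S).map i → D.tr (c ≫ β) (c' ≫ x) h = c' ≫ β := by
  have hT : IsAlgSpace ((yon S).obj T) := IsAlgSpace.yon_obj T
  have hR : IsAlgSpace (pullback π π) := K613.Chart.isAlgSpace_pullback hQ hQ hT π π
  have h₁ : (pullback.fst π π ≫ β) ≫ u ≫ f = (pullback.snd π π ≫ x) ≫ f := by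
    rw [Category.assoc, ← Category.assoc β, hβ, hx, ← Category.assoc, pullback.condition, Category.assoc, Category.assoc,
      hx]
  have hO : IsOpen {r | EqAt (D.tr (pullback.fst π π ≫ β) (pullback.snd π π ≫ x) h₁) (pullback.snd π π ≫ β) r} :=
    isOpen_eqAt hR hU hX hu _ _ (by rw [D.tr_u, Category.assoc, hβ])
  have huc : IsUnivClosedMor (pullback.snd π π ≫ π) := K596.SepSurj.isUnivClosedMor_comp hQ hT
    (K596.ClosedQC.isUnivClosedMor_of_isPullback (IsPullback.of_hasPullback π π) hπ) hπ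
  have hC : IsClosed (Points.map (pullback.snd π π ≫ π) ''
      {r | EqAt (D.tr (pullback.fst π π ≫ β) (pullback.snd π π ≫ x) h₁) (pullback.snd π π ≫ β) r}ᶜ) :=
    huc hT (𝟙 _) (𝟙 _) _ (IsPullback.id_horiz _) _ hO.isClosed_compl
  obtain ⟨E, e, he1, he2, he3⟩ := K610.Sub.exists_open (T := T)
    ⟨Points.ofPt (𝟙 ((yon S).obj T)) ⁻¹' (Points.map (pullback.snd π π ≫ π) ''
      {r | EqAt (D.tr (pullback.fst π π ≫ β) (pullback.snd π π ≫ x) h₁) (pullback.snd π π ≫ β) r}ᶜ)ᶜ,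
      hC.isOpen_compl.preimage (Points.continuous_ofPt _)⟩
  refine ⟨E, e, he2, ?_, ?_⟩
  · -- `t₀` lies in the open subset
    have h2 := (he3 (Over.mk (T.left.fromSpecResidueField t₀ ≫ T.hom)) (Over.homMk (T.left.fromSpecResidueField t₀) rfl)).2 (by
      rintro _ ⟨z, rfl⟩
      change Points.ofPt (𝟙 ((yon S).obj T)) (T.left.fromSpecResidueField t₀ z) ∈ (Points.map (pullback.snd π π ≫ π) ''
        {r | EqAt (D.tr (pullback.fst π π ≫ β) (pullback.snd π π ≫ x) h₁) (pullback.snd π π ≫ β) r}ᶜ)ᶜ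
      rw [Scheme.fromSpecResidueField_apply]
      rintro ⟨r, hr, hr'⟩
      refine hr (h₀ _ _ _ r h₁ pullback.condition ?_)
      rw [pullback.condition]
      exact hr')
    obtain ⟨r', hr'⟩ := h2
    have h3 : r'.left ≫ e.left = T.left.fromSpecResidueField t₀ := congrArg (fun m => m.left) hr'
    have z : Spec (T.left.residueField t₀) := IsLocalRing.closedPoint _
    refine ⟨r'.left z, ?_⟩
    rw [← Scheme.Hom.comp_apply, h3, Scheme.fromSpecResidueField_apply]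
  · intro R c c' w h hc hc'
    obtain ⟨k, hk1, hk2⟩ : ∃ k : R ⟶ pullback π π, k ≫ pullback.fst π π = c ∧ k ≫ pullback.snd π π = c' :=
      ⟨pullback.lift c c' (hc.trans hc'.symm), pullback.lift_fst _ _ _, pullback.lift_snd _ _ _⟩
    have e1 : D.tr (c ≫ β) (c' ≫ x) h = k ≫ D.tr (pullback.fst π π ≫ β) (pullback.snd π π ≫ x) h₁ := by
      rw [D.comp_tr _ _ _ _ (by rw [← hk1, ← hk2] at h; simpa only [Category.assoc] using h)]
      exact D.congr (by rw [← Category.assoc, hk1]) (by rw [← Category.assoc, hk2]) _ _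
    have e2 : c' ≫ β = k ≫ pullback.snd π π ≫ β := by rw [← Category.assoc, hk2]
    rw [e1, e2]
    refine eq_of_points hU hX hu _ _ (by rw [Category.assoc, D.tr_u, Category.assoc, Category.assoc, hβ]) fun r => ?_
    rw [eqAt_comp_iff]
    by_contra hne
    obtain ⟨t, ht⟩ := (Points.schemeEquiv E).surjective (Points.map w r)
    have h2 := (he3 E e).1 ⟨𝟙 _, Category.id_comp _⟩ ⟨t, rfl⟩
    change Points.ofPt (𝟙 ((yon S).obj T)) (e.left t) ∈ (Points.map (pullback.snd π π ≫ π) ''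
        {r | EqAt (D.tr (pullback.fst π π ≫ β) (pullback.snd π π ≫ x) h₁) (pullback.snd π π ≫ β) r}ᶜ)ᶜ at h2
    refine h2 ⟨_, hne, ?_⟩
    rw [← Points.map_comp, ← Category.assoc, hk2, hc', Points.map_comp, ← ht, ← K610.Base.ofPt_map_comp,
      Category.comp_id]
    exact (Points.ofPt_eq_map_ofScheme _ _).symm

/-- The section over a geometric fibre obtained by transport is compatible. -/
theorem eqAt_fibre (D : Tr f u) {T M : Over S} {Q P : Sp S} {π : Q ⟶ (yon S).obj T} {x : Q ⟶ X} {β : Q ⟶ U}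
    {l : M ⟶ T} {i : P ⟶ Q} {p₂ : P ⟶ (yon S).obj M} (hP : IsPullback i p₂ π ((yon S).map l))
    (a₀ : (yon S).obj M ⟶ U) (h : (p₂ ≫ a₀) ≫ u ≫ f = (i ≫ x) ≫ f) (hβ : i ≫ β = D.tr (p₂ ≫ a₀) (i ≫ x) h)
    (m₀ : M.left) (R : Sp S) (c c' : R ⟶ Q) (r : Points R) (hcc : (c ≫ β) ≫ u ≫ f = (c' ≫ x) ≫ f)
    (hc : c ≫ π = c' ≫ π) (hr : Points.map (c ≫ π) r = Points.ofScheme T (l.left m₀)) :
    EqAt (D.tr (c ≫ β) (c' ≫ x) hcc) (c' ≫ β) r := by
  obtain ⟨r₁, hr₁, -⟩ := K610.Base.exists_of_isPullback (IsPullback.of_hasPullback (c ≫ π) ((yon S).map l)) r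
    (Points.ofScheme M m₀) (by
      rw [hr, ← Points.ofPt_eq_map_ofScheme]
      rw [← Category.comp_id ((yon S).map l), K610.Base.ofPt_map_comp])
  have w := pullback.condition (f := c ≫ π) (g := (yon S).map l)
  have w1 : (pullback.fst (c ≫ π) ((yon S).map l) ≫ c) ≫ π = pullback.snd (c ≫ π) ((yon S).map l) ≫ (yon S).map l := by
    rw [Category.assoc, w]
  have w2 : (pullback.fst (c ≫ π) ((yon S).map l) ≫ c') ≫ π = pullback.snd (c ≫ π) ((yon S).map l) ≫ (yon S).map l := by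
    rw [Category.assoc, ← hc, w]
  obtain ⟨n, hn1, hn2⟩ : ∃ n : pullback (c ≫ π) ((yon S).map l) ⟶ P, n ≫ i = pullback.fst _ _ ≫ c ∧
      n ≫ p₂ = pullback.snd _ _ := ⟨hP.lift _ _ w1, hP.lift_fst _ _ _, hP.lift_snd _ _ _⟩
  obtain ⟨n', hn1', hn2'⟩ : ∃ n : pullback (c ≫ π) ((yon S).map l) ⟶ P, n ≫ i = pullback.fst _ _ ≫ c' ∧
      n ≫ p₂ = pullback.snd _ _ := ⟨hP.lift _ _ w2, hP.lift_fst _ _ _, hP.lift_snd _ _ _⟩
  refine ⟨_, pullback.fst (c ≫ π) ((yon S).map l), r₁, hr₁, ?_⟩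
  have hx1 : (n ≫ p₂ ≫ a₀) ≫ u ≫ f = (n ≫ i ≫ x) ≫ f := by
    have := congrArg (n ≫ ·) h
    simpa only [Category.assoc] using this
  have hx2 : (n' ≫ p₂ ≫ a₀) ≫ u ≫ f = (n' ≫ i ≫ x) ≫ f := by
    have := congrArg (n' ≫ ·) h
    simpa only [Category.assoc] using this
  have hn3 : n ≫ p₂ ≫ a₀ = n' ≫ p₂ ≫ a₀ := by rw [← Category.assoc, hn2, ← hn2', Category.assoc]
  have hx3 : (n ≫ p₂ ≫ a₀) ≫ u ≫ f = (n' ≫ i ≫ x) ≫ f := by rw [hn3, hx2]
  have ha : pullback.fst (c ≫ π) ((yon S).map l) ≫ c ≫ β = D.tr (n ≫ p₂ ≫ a₀) (n ≫ i ≫ x) hx1 := by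
    rw [← Category.assoc, ← hn1, Category.assoc, hβ, D.comp_tr]
  have hb : pullback.fst (c ≫ π) ((yon S).map l) ≫ c' ≫ β = D.tr (n' ≫ p₂ ≫ a₀) (n' ≫ i ≫ x) hx2 := by
    rw [← Category.assoc, ← hn1', Category.assoc, hβ, D.comp_tr]
  have hxc : pullback.fst (c ≫ π) ((yon S).map l) ≫ c' ≫ x = n' ≫ i ≫ x := by
    rw [← Category.assoc, ← hn1', Category.assoc]
  have h5 : (pullback.fst (c ≫ π) ((yon S).map l) ≫ c ≫ β) ≫ u ≫ f =
      (pullback.fst (c ≫ π) ((yon S).map l) ≫ c' ≫ x) ≫ f := by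
    have := congrArg (pullback.fst (c ≫ π) ((yon S).map l) ≫ ·) hcc
    simpa only [Category.assoc] using this
  rw [D.comp_tr _ _ _ _ h5, hb]
  have h6 : D.tr (n ≫ p₂ ≫ a₀) (n ≫ i ≫ x) hx1 ≫ u ≫ f = (n' ≫ i ≫ x) ≫ f := by
    rw [← ha, h5, hxc]
  rw [D.congr ha hxc h5 h6, D.tr_tr _ _ _ _ _ hx3]
  exact D.congr hn3 rfl _ _

/-- Descent of a compatible section along a universally closed surjective covering of `X ×_Y T`. -/
theorem exists_m (hX : IsAlgSpace X) (hY : IsAlgSpace Y) (hU : IsAlgSpace U) (hu : IsEtaleMor u) (D : Tr f u)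
    {T : Over S} {Q : Sp S} (hQ : IsAlgSpace Q) (y : (yon S).obj T ⟶ Y) (gA : Q ⟶ pullback f y)
    (hg : IsUnivClosedMor gA) (hgs : Function.Surjective (Points.map gA)) (β : Q ⟶ U)
    (hβ : β ≫ u = gA ≫ pullback.fst f y)
    (hc : ∀ (R : Sp S) (c c' : R ⟶ Q) (h : (c ≫ β) ≫ u ≫ f = (c' ≫ gA ≫ pullback.fst f y) ≫ f),
      c ≫ gA ≫ pullback.snd f y = c' ≫ gA ≫ pullback.snd f y →
        D.tr (c ≫ β) (c' ≫ gA ≫ pullback.fst f y) h = c' ≫ β) :
    ∃ m : pullback f y ⟶ U, m ≫ u = pullback.fst f y ∧ gA ≫ m = β ∧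
      ∀ (R : Sp S) (c c' : R ⟶ pullback f y) (h : (c ≫ m) ≫ u ≫ f = (c' ≫ pullback.fst f y) ≫ f),
        c ≫ pullback.snd f y = c' ≫ pullback.snd f y →
        D.tr (c ≫ m) (c' ≫ pullback.fst f y) h = c' ≫ m := by
  have hT : IsAlgSpace ((yon S).obj T) := IsAlgSpace.yon_obj T
  have hP : IsAlgSpace (pullback f y) := K613.Chart.isAlgSpace_pullback hX hT hY f y
  obtain ⟨m, hm1, hm2⟩ := desc (t := pullback.fst f y) hP hU hX hu hQ gA hg hgs β hβ (by
    intro R p q hpq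
    have h1 : (p ≫ β) ≫ u ≫ f = (q ≫ gA ≫ pullback.fst f y) ≫ f := by
      rw [Category.assoc, ← Category.assoc β, hβ, ← Category.assoc q, ← hpq]
      simp only [Category.assoc]
    rw [← hc R p q h1 (by rw [← Category.assoc, hpq, Category.assoc])]
    have h2 : q ≫ gA ≫ pullback.fst f y = (p ≫ β) ≫ u := by
      rw [Category.assoc, hβ, ← Category.assoc, ← hpq, Category.assoc]
    rw [D.congr rfl h2 h1 (by rw [Category.assoc (p ≫ β)]), D.tr_self])
  refine ⟨m, hm1, hm2, fun R c c' h hcc => ?_⟩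
  -- cover `R`
  let R₁ : Sp S := pullback c gA
  let R₂ : Sp S := pullback (pullback.fst c gA ≫ c') gA
  let p : R₂ ⟶ R := pullback.fst (pullback.fst c gA ≫ c') gA ≫ pullback.fst c gA
  let d : R₂ ⟶ Q := pullback.fst (pullback.fst c gA ≫ c') gA ≫ pullback.snd c gA
  let d' : R₂ ⟶ Q := pullback.snd (pullback.fst c gA ≫ c') gA
  have hd : d ≫ gA = p ≫ c := by
    change (pullback.fst (pullback.fst c gA ≫ c') gA ≫ pullback.snd c gA) ≫ gA = (_ ≫ pullback.fst c gA) ≫ c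
    rw [Category.assoc, ← pullback.condition, Category.assoc]
  have hd' : d' ≫ gA = p ≫ c' := by
    change pullback.snd (pullback.fst c gA ≫ c') gA ≫ gA = (_ ≫ pullback.fst c gA) ≫ c'
    rw [← pullback.condition, Category.assoc]
  have hps : Function.Surjective (Points.map p) := by
    intro r
    obtain ⟨a, ha⟩ := hgs (Points.map c r)
    obtain ⟨r₁, h1, -⟩ := K610.Base.exists_of_isPullback (IsPullback.of_hasPullback c gA) r a ha.symm
    obtain ⟨a', ha'⟩ := hgs (Points.map (pullback.fst c gA ≫ c') r₁)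
    obtain ⟨r₂, h2, -⟩ := K610.Base.exists_of_isPullback (IsPullback.of_hasPullback (pullback.fst c gA ≫ c') gA)
      r₁ a' ha'.symm
    refine ⟨r₂, ?_⟩
    change Points.map (pullback.fst (pullback.fst c gA ≫ c') gA ≫ pullback.fst c gA) r₂ = r
    rw [Points.map_comp, h2, h1]
  refine eq_of_cover hU hX hu _ _ (by rw [D.tr_u, Category.assoc, hm1]) p hps ?_
  have h5 : (p ≫ c ≫ m) ≫ u ≫ f = (p ≫ c' ≫ pullback.fst f y) ≫ f := by
    have := congrArg (p ≫ ·) h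
    simpa only [Category.assoc] using this
  rw [D.comp_tr _ _ _ _ h5]
  have e1 : p ≫ c ≫ m = d ≫ β := by rw [← Category.assoc, ← hd, Category.assoc, hm2]
  have e2 : p ≫ c' ≫ m = d' ≫ β := by rw [← Category.assoc, ← hd', Category.assoc, hm2]
  have e3 : p ≫ c' ≫ pullback.fst f y = d' ≫ gA ≫ pullback.fst f y := by rw [← Category.assoc, ← hd', Category.assoc]
  rw [D.congr e1 e3 h5 (by rw [← e1, h5, e3]), e2]
  refine hc _ _ _ _ ?_
  rw [← Category.assoc, hd, ← Category.assoc, hd', Category.assoc p c, Category.assoc p c', hcc]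

theorem eq_of_nonempty {V : Sp S} {v : V ⟶ Y} (hd : RepWith @IsOpenImmersion (pullback.diagonal v)) {M : Over S}
    [Subsingleton M.left] (a b : (yon S).obj M ⟶ V) (w : a ≫ v = b ≫ v) {R : Sp S} (r : Points R)
    (q : R ⟶ (yon S).obj M) (h : q ≫ a = q ≫ b) : a = b := by
  obtain ⟨E, e, he, heo⟩ := (K613.Diag.repWith_diagonal_iff @IsOpenImmersion v).1 hd M a b w
  obtain ⟨R', k, t, rfl⟩ := K610.Base.exists_ofPt_eq r
  obtain ⟨m, hm⟩ := (yon S).map_surjective (k ≫ q)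
  obtain ⟨m', hm', -⟩ := he.lift R' m (by rw [hm, Category.assoc, h, Category.assoc])
  have h1 : Surjective e.left := ⟨fun z => ⟨m'.left t, Subsingleton.elim _ _⟩⟩
  have h2 : IsIso e.left := (isIso_iff_isOpenImmersion_and_surjective _).2 ⟨heo, h1⟩
  have h3 : IsIso e := K610.Factor.isIso_of_left e h2
  rw [← cancel_epi ((yon S).map e), he.w]

end K635.DescExt
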