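import Groth.Agent.AlgSp.K628.Fqc
import Groth.Agent.AlgSp.K613.Basic
/-!
The descended functor of a descent datum for an arbitrary morphism of fppf sheaves `f : X ⟶ Y`: sections over `T ⟶ Y` are
the compatible sections over `X ×_Y T`.
-/

set_option autoImplicit false
universe u
open CategoryTheory CategoryTheory.Limits AlgebraicGeometry Opposite Topology

namespace K635.DescFun

open AlgSp

variable {S : Scheme.{u}}

/-- A descent datum relative to `f`, as a transport operation on points. -/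
structure Tr {X Y U : Sp S} (f : X ⟶ Y) (u : U ⟶ X) where
  /-- transport of the point `a` to the point `x` -/
  tr : ∀ {R : Sp S} (a : R ⟶ U) (x : R ⟶ X), a ≫ u ≫ f = x ≫ f → (R ⟶ U)
  tr_u : ∀ {R : Sp S} (a : R ⟶ U) (x : R ⟶ X) (h : a ≫ u ≫ f = x ≫ f), tr a x h ≫ u = x
  comp_tr : ∀ {R R' : Sp S} (q : R' ⟶ R) (a : R ⟶ U) (x : R ⟶ X) (h : a ≫ u ≫ f = x ≫ f)
    (h' : (q ≫ a) ≫ u ≫ f = (q ≫ x) ≫ f), q ≫ tr a x h = tr (q ≫ a) (q ≫ x) h'
  tr_tr : ∀ {R : Sp S} (a : R ⟶ U) (x x' : R ⟶ X) (h : a ≫ u ≫ f = x ≫ f)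
    (h' : tr a x h ≫ u ≫ f = x' ≫ f) (h'' : a ≫ u ≫ f = x' ≫ f), tr (tr a x h) x' h' = tr a x' h''
  tr_self : ∀ {R : Sp S} (a : R ⟶ U) (h : a ≫ u ≫ f = (a ≫ u) ≫ f), tr a (a ≫ u) h = a

variable {X Y U : Sp S} {f : X ⟶ Y} {u : U ⟶ X} (D : Tr f u)

theorem Tr.congr {R : Sp S} {a a' : R ⟶ U} {x x' : R ⟶ X} (ha : a = a') (hx : x = x')
    (h : a ≫ u ≫ f = x ≫ f) (h' : a' ≫ u ≫ f = x' ≫ f) : D.tr a x h = D.tr a' x' h' := by
  subst ha; subst hx; rfl

/-- A compatible section over `T`. -/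
structure Sec (T : Over S) : Type (u + 1) where
  /-- the point of the base -/
  y : (yon S).obj T ⟶ Y
  /-- the values -/
  s : ∀ (R : Over S) (r : R ⟶ T) (x : (yon S).obj R ⟶ X), x ≫ f = (yon S).map r ≫ y → ((yon S).obj R ⟶ U)
  s_u : ∀ (R : Over S) (r : R ⟶ T) (x : (yon S).obj R ⟶ X) (h : x ≫ f = (yon S).map r ≫ y), s R r x h ≫ u = x
  nat : ∀ (R R' : Over S) (q : R' ⟶ R) (r : R ⟶ T) (x : (yon S).obj R ⟶ X) (h : x ≫ f = (yon S).map r ≫ y)
    (h' : ((yon S).map q ≫ x) ≫ f = (yon S).map (q ≫ r) ≫ y),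
    (yon S).map q ≫ s R r x h = s R' (q ≫ r) ((yon S).map q ≫ x) h'
  compat : ∀ (R : Over S) (r : R ⟶ T) (x x' : (yon S).obj R ⟶ X) (h : x ≫ f = (yon S).map r ≫ y)
    (h' : x' ≫ f = (yon S).map r ≫ y) (h'' : s R r x h ≫ u ≫ f = x' ≫ f),
    D.tr (s R r x h) x' h'' = s R r x' h'

namespace Sec

variable {D} {T T' : Over S}

theorem ext' (σ τ : Sec D T) (hy : σ.y = τ.y)
    (hs : ∀ (R : Over S) (r : R ⟶ T) (x : (yon S).obj R ⟶ X) (h : x ≫ f = (yon S).map r ≫ σ.y)
      (h' : x ≫ f = (yon S).map r ≫ τ.y), σ.s R r x h = τ.s R r x h') : σ = τ := by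
  obtain ⟨y, s, h1, h2, h3⟩ := σ
  obtain ⟨y', s', h1', h2', h3'⟩ := τ
  obtain rfl : y = y' := hy
  obtain rfl : s = s' := by
    funext R r x h
    exact hs R r x h h
  rfl

theorem s_congr (σ : Sec D T) {R : Over S} {r r' : R ⟶ T} {x x' : (yon S).obj R ⟶ X} (hr : r = r')
    (hx : x = x') (h : x ≫ f = (yon S).map r ≫ σ.y) (h' : x' ≫ f = (yon S).map r' ≫ σ.y) :
    σ.s R r x h = σ.s R r' x' h' := by
  subst hr; subst hx; rfl

theorem s_congr' {σ τ : Sec D T} (e : σ = τ) {R : Over S} {r r' : R ⟶ T} {x x' : (yon S).obj R ⟶ X} (hr : r = r')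
    (hx : x = x') (h : x ≫ f = (yon S).map r ≫ σ.y) (h' : x' ≫ f = (yon S).map r' ≫ τ.y) :
    σ.s R r x h = τ.s R r' x' h' := by
  subst e; subst hr; subst hx; rfl

/-- Restriction of compatible sections. -/
def res (σ : Sec D T) (t : T' ⟶ T) : Sec D T' where
  y := (yon S).map t ≫ σ.y
  s R r x h := σ.s R (r ≫ t) x (by rw [h, Functor.map_comp, Category.assoc])
  s_u R r x h := σ.s_u _ _ _ _
  nat R R' q r x h h' := by
    refine (σ.nat R R' q (r ≫ t) x _ ?_).trans (σ.s_congr (Category.assoc _ _ _).symm rfl _ _)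
    rw [Category.assoc, h]
    simp only [Functor.map_comp, Category.assoc]
  compat R r x x' h h' h'' := σ.compat _ _ _ _ _ _ _

end Sec

/-- The presheaf of compatible sections. -/
def psh : (Over S)ᵒᵖ ⥤ Type (u + 1) where
  obj T := Sec D T.unop
  map t := ↾fun σ => σ.res t.unop
  map_id T := by
    ext σ
    refine Sec.ext' _ _ ?_ fun R r x h h' => ?_
    · change (yon S).map (𝟙 _) ≫ σ.y = σ.y
      rw [(yon S).map_id, Category.id_comp]
    · exact σ.s_congr (Category.comp_id _) rfl _ _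
  map_comp t t' := by
    ext σ
    refine Sec.ext' _ _ ?_ fun R r x h h' => ?_
    · change (yon S).map (_ ≫ _) ≫ σ.y = (yon S).map _ ≫ (yon S).map _ ≫ σ.y
      rw [Functor.map_comp, Category.assoc]
    · exact σ.s_congr (Category.assoc _ _ _).symm rfl _ _

/-- Glueing of maps to a sheaf along a covering sieve. -/
theorem glueSieve {F : Sp S} {T : Over S} (W : Sieve T) (hW : W ∈ J S T)
    (x : ∀ (R : Over S) (q : R ⟶ T), W q → ((yon S).obj R ⟶ F))
    (hx : ∀ (R R' : Over S) (q' : R' ⟶ R) (q : R ⟶ T) (hq : W q),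
      x R' (q' ≫ q) (W.downward_closed hq q') = (yon S).map q' ≫ x R q hq) :
    ∃! y : (yon S).obj T ⟶ F, ∀ (R : Over S) (q : R ⟶ T) (hq : W q), (yon S).map q ≫ y = x R q hq := by
  have h1 : Presieve.IsSheafFor F.obj W.arrows :=
    (isSheaf_iff_isSheaf_of_type _ _).1 F.property _ hW
  let z : Presieve.FamilyOfElements F.obj W.arrows := fun R q hq => (J S).uliftYonedaEquiv (x R q hq)
  have hz : z.Compatible := by
    rw [Presieve.compatible_iff_sieveCompatible]
    intro R R' q q' hq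
    change (J S).uliftYonedaEquiv (x R' (q' ≫ q) _) = F.obj.map q'.op ((J S).uliftYonedaEquiv (x R q hq))
    rw [hx R R' q' q hq, GrothendieckTopology.uliftYonedaEquiv_naturality]
  obtain ⟨y, hy, hy'⟩ := h1 z hz
  refine ⟨(J S).uliftYonedaEquiv.symm y, fun R q hq => ?_, fun y' h' => ?_⟩
  · rw [GrothendieckTopology.uliftYonedaEquiv_symm_naturality_left, hy q hq, Equiv.symm_apply_apply]
  · rw [Equiv.eq_symm_apply]
    refine hy' _ fun R q hq => ?_
    rw [GrothendieckTopology.uliftYonedaEquiv_naturality]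
    exact congrArg _ (h' R q hq)

theorem eq_of_sieve {F : Sp S} {T : Over S} (W : Sieve T) (hW : W ∈ J S T) (a b : (yon S).obj T ⟶ F)
    (h : ∀ (R : Over S) (q : R ⟶ T) (_ : W q), (yon S).map q ≫ a = (yon S).map q ≫ b) : a = b := by
  obtain ⟨y, -, hy⟩ := glueSieve W hW (fun R q _ => (yon S).map q ≫ b) (fun R R' q' q _ => by
    rw [Functor.map_comp, Category.assoc])
  rw [hy a fun R q hq => h R q hq, hy b fun R q hq => rfl]

theorem isSheaf_psh : Presieve.IsSheaf (J S) (psh D) := by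
  intro T W hW σ hσ
  rw [Presieve.compatible_iff_sieveCompatible] at hσ
  have hres : ∀ (R R' : Over S) (q' : R' ⟶ R) (q : R ⟶ T) (hq : W q),
      σ (q' ≫ q) (W.downward_closed hq q') = (σ q hq).res q' := fun R R' q' q hq => hσ q q' hq
  have hval : ∀ (R R' Q : Over S) (p : R' ⟶ T) (hp : W p) (q : R ⟶ T) (hq : W q) (t : R' ⟶ R) (_ : p = t ≫ q)
      (r : Q ⟶ R') (z : (yon S).obj Q ⟶ X) (h1 : z ≫ f = (yon S).map r ≫ (σ p hp).y)
      (h2 : z ≫ f = (yon S).map (r ≫ t) ≫ (σ q hq).y),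
      (σ p hp).s Q r z h1 = (σ q hq).s Q (r ≫ t) z h2 := by
    intro R R' Q p hp q hq t e r z h1 h2
    subst e
    exact Sec.s_congr' (hres R R' t q hq) rfl rfl h1 (by rw [h2, Functor.map_comp, Category.assoc]; rfl)
  -- glue the base points
  obtain ⟨y, hy, hyu⟩ := glueSieve W hW (fun R q hq => (σ q hq).y) (fun R R' q' q hq => by
    rw [hres R R' q' q hq]; rfl)
  -- glue the values
  have hbase : ∀ (R : Over S) (r : R ⟶ T) (x : (yon S).obj R ⟶ X) (_ : x ≫ f = (yon S).map r ≫ y)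
      (R' : Over S) (q : R' ⟶ R) (hq : W (q ≫ r)),
      ((yon S).map q ≫ x) ≫ f = (yon S).map (𝟙 R') ≫ (σ (q ≫ r) hq).y := by
    intro R r x h R' q hq
    rw [Category.assoc, h, (yon S).map_id, Category.id_comp, ← Category.assoc, ← Functor.map_comp, hy]
  have key : ∀ (R : Over S) (r : R ⟶ T) (x : (yon S).obj R ⟶ X) (h : x ≫ f = (yon S).map r ≫ y),
      ∃ a : (yon S).obj R ⟶ U, ∀ (R' : Over S) (q : R' ⟶ R) (hq : W (q ≫ r)),
        (yon S).map q ≫ a = (σ (q ≫ r) hq).s R' (𝟙 R') ((yon S).map q ≫ x) (hbase R r x h R' q hq) := by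
    intro R r x h
    refine (glueSieve (W.pullback r) ((J S).pullback_stable r hW) _ fun R' R'' q' q hq => ?_).exists
    rw [(σ (q ≫ r) hq).nat R' R'' q' (𝟙 R') _ _ (by
      rw [Category.assoc, hbase R r x h R' q hq]
      simp only [Functor.map_comp, Category.assoc])]
    refine (hval R' R'' R'' ((q' ≫ q) ≫ r) _ (q ≫ r) hq q' (Category.assoc _ _ _) (𝟙 _) _ _ (by
      rw [Category.assoc, h, Category.id_comp, Functor.map_comp, Category.assoc, ← Category.assoc ((yon S).map q),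
        ← Functor.map_comp, hy])).trans ?_
    refine (σ (q ≫ r) hq).s_congr ?_ ?_ _ _
    · rw [Category.id_comp, Category.comp_id]
    · rw [Functor.map_comp, Category.assoc]
  choose A hA using key
  let τ : Sec D T := {
    y := y
    s := A
    s_u := fun R r x h => by
      refine eq_of_sieve (W.pullback r) ((J S).pullback_stable r hW) _ _ fun R' q hq => ?_
      rw [← Category.assoc, hA R r x h R' q hq, Sec.s_u]
    nat := fun R R' q r x h h' => by
      refine eq_of_sieve (W.pullback (q ≫ r)) ((J S).pullback_stable _ hW) _ _ fun R'' q' hq' => ?_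
      have hq'' : W ((q' ≫ q) ≫ r) := by rw [Category.assoc]; exact hq'
      rw [hA R' (q ≫ r) _ h' R'' q' hq', ← Category.assoc, ← Functor.map_comp, hA R r x h R'' (q' ≫ q) hq'']
      have e1 : (q' ≫ q) ≫ r = 𝟙 R'' ≫ q' ≫ q ≫ r := by simp
      refine (hval R'' R'' R'' ((q' ≫ q) ≫ r) hq'' (q' ≫ q ≫ r) hq' (𝟙 _) e1 (𝟙 _) _ _ (by
        rw [hbase R r x h R'' (q' ≫ q) hq'', Category.id_comp, ← hy _ _ hq'', ← hy _ _ hq']
        simp only [Category.assoc])).trans ?_
      refine Sec.s_congr _ (Category.id_comp _) ?_ _ _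
      rw [Functor.map_comp, Category.assoc]
    compat := fun R r x x' h h' h'' => by
      refine eq_of_sieve (W.pullback r) ((J S).pullback_stable r hW) _ _ fun R' q hq => ?_
      have h3 : ((yon S).map q ≫ A R r x h) ≫ u ≫ f = ((yon S).map q ≫ x') ≫ f := by
        rw [Category.assoc, h'', Category.assoc]
      rw [D.comp_tr _ _ _ _ h3, hA R r x' h' R' q hq]
      have h4 : (σ (q ≫ r) hq).s R' (𝟙 R') ((yon S).map q ≫ x) (hbase R r x h R' q hq) ≫ u ≫ f =
          ((yon S).map q ≫ x') ≫ f := by rw [← hA R r x h R' q hq, h3]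
      rw [D.congr (hA R r x h R' q hq) rfl h3 h4]
      exact Sec.compat _ _ _ _ _ _ _ _ }
  have hbaseq : ∀ (Q : Over S) (q : Q ⟶ T) (_ : W q) (R : Over S) (r : R ⟶ Q), W (r ≫ q) :=
    fun Q q hq R r => W.downward_closed hq r
  refine ⟨τ, fun Q q hq => ?_, fun τ' hτ' => ?_⟩
  · refine Sec.ext' _ _ (hy Q q hq) fun R r x h h' => ?_
    change A R (r ≫ q) x _ = _
    have hW' : W (𝟙 R ≫ r ≫ q) := by rw [Category.id_comp]; exact hbaseq Q q hq R r
    have h1 := hA R (r ≫ q) x (by rw [Functor.map_comp, Category.assoc]; exact h) R (𝟙 R) hW'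
    have h2 : (yon S).map (𝟙 R) ≫ A R (r ≫ q) x (by rw [Functor.map_comp, Category.assoc]; exact h) =
        A R (r ≫ q) x (by rw [Functor.map_comp, Category.assoc]; exact h) := by
      rw [(yon S).map_id, Category.id_comp]
    refine (h2.symm.trans h1).trans ?_
    refine (hval Q R R (𝟙 R ≫ r ≫ q) hW' q hq r (Category.id_comp _) (𝟙 R) _ _ (by
      rw [(yon S).map_id, Category.id_comp, Category.id_comp, h'])).trans ?_
    refine Sec.s_congr _ (Category.id_comp _) ?_ _ _
    rw [(yon S).map_id, Category.id_comp]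
  · have hy' : τ'.y = y := hyu _ fun R q hq => congrArg Sec.y (hτ' q hq)
    refine Sec.ext' _ _ hy' fun R r x h h' => ?_
    refine eq_of_sieve (W.pullback r) ((J S).pullback_stable r hW) _ _ fun R' q hq => ?_
    rw [τ'.nat R R' q r x h (by rw [Category.assoc, h, Functor.map_comp, Category.assoc])]
    refine Eq.trans ?_ (hA R r x h' R' q hq).symm
    have h1 : τ'.res (q ≫ r) = σ (q ≫ r) hq := hτ' (q ≫ r) hq
    rw [← Sec.s_congr' h1 rfl rfl (by rw [hbase R r x h' R' q hq, ← h1]) (hbase R r x h' R' q hq)]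
    exact τ'.s_congr (Category.id_comp _).symm rfl _ _

/-- The sheaf of compatible sections. -/
def sh : Sp S := ⟨psh D, (isSheaf_iff_isSheaf_of_type _ _).2 (isSheaf_psh D)⟩

section Interface

/-- Yoneda: maps `h_T ⟶ sh D` are compatible sections over `T`. -/
noncomputable def eqv {T : Over S} : ((yon S).obj T ⟶ sh D) ≃ Sec D T := (J S).uliftYonedaEquiv

theorem eqv_comp {T T' : Over S} (t : T' ⟶ T) (z : (yon S).obj T ⟶ sh D) :
    eqv D ((yon S).map t ≫ z) = (eqv D z).res t :=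
  (GrothendieckTopology.uliftYonedaEquiv_naturality (J S) z t).symm

theorem eqv_symm_res {T T' : Over S} (t : T' ⟶ T) (σ : Sec D T) :
    (eqv D).symm (σ.res t) = (yon S).map t ≫ (eqv D).symm σ := by
  rw [Equiv.symm_apply_eq, eqv_comp, Equiv.apply_symm_apply]

variable {D} in
/-- The compatible section attached to a point of `U`. -/
def Sec.ofPt {T : Over S} (a : (yon S).obj T ⟶ U) : Sec D T where
  y := a ≫ u ≫ f
  s R r x h := D.tr ((yon S).map r ≫ a) x (by rw [Category.assoc]; exact h.symm)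
  s_u R r x h := D.tr_u _ _ _
  nat R R' q r x h h' := by
    rw [D.comp_tr _ _ _ _ (by simp only [Category.assoc]; rw [h])]
    exact D.congr (by rw [Functor.map_comp, Category.assoc]) rfl _ _
  compat R r x x' h h' h'' := D.tr_tr _ _ _ _ _ _

theorem exists_v : ∃ v : sh D ⟶ Y, ∀ (T : Over S) (z : (yon S).obj T ⟶ sh D), z ≫ v = (eqv D z).y :=
  K628.Fqc.exists_hom_of_yon (fun T z => (eqv D z).y) (fun T T' t z => by rw [eqv_comp]; rfl)

theorem exists_g : ∃ g : U ⟶ sh D, ∀ (T : Over S) (a : (yon S).obj T ⟶ U), a ≫ g = (eqv D).symm (Sec.ofPt a) := by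
  refine K628.Fqc.exists_hom_of_yon (fun T a => (eqv D).symm (Sec.ofPt a)) (fun T T' t a => ?_)
  rw [← eqv_symm_res]
  congr 1

/-- The interface of the descended functor. -/
theorem exists_desc : ∃ (V : Sp S) (v : V ⟶ Y) (g : U ⟶ V), IsPullback g u v f ∧
    (∀ (R : Sp S) (a : R ⟶ U) (x : R ⟶ X) (h : a ≫ u ≫ f = x ≫ f), D.tr a x h ≫ g = a ≫ g) ∧
    (∀ (T : Over S) (z z' : (yon S).obj T ⟶ V), z ≫ v = z' ≫ v →
      (∀ (R : Over S) (r : R ⟶ T) (x : (yon S).obj R ⟶ X), x ≫ f = (yon S).map r ≫ z ≫ v →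
        (yon S).map r ≫ z = (yon S).map r ≫ z') → z = z') ∧
    (∀ (T : Over S) (y : (yon S).obj T ⟶ Y) (m : pullback f y ⟶ U), m ≫ u = pullback.fst f y →
      (∀ (R : Sp S) (c c' : R ⟶ pullback f y) (h : (c ≫ m) ≫ u ≫ f = (c' ≫ pullback.fst f y) ≫ f),
        c ≫ pullback.snd f y = c' ≫ pullback.snd f y →
        D.tr (c ≫ m) (c' ≫ pullback.fst f y) h = c' ≫ m) →
      ∃ z : (yon S).obj T ⟶ V, z ≫ v = y ∧ m ≫ g = pullback.snd f y ≫ z) := by
  obtain ⟨v, hv⟩ := exists_v D
  obtain ⟨g, hg⟩ := exists_g D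
  have hgv : g ≫ v = u ≫ f := by
    refine K613.Basic.hom_ext fun T a => ?_
    rw [← Category.assoc, hg, hv, Equiv.apply_symm_apply]
    rfl
  refine ⟨sh D, v, g, ?_, ?_, ?_, ?_⟩
  · refine K613.Basic.isPullback_of_yon hgv fun T a b hab => ?_
    have hb : b ≫ f = (yon S).map (𝟙 T) ≫ (eqv D a).y := by
      rw [(yon S).map_id, Category.id_comp, ← hv, hab]
    refine ⟨(eqv D a).s T (𝟙 T) b hb, ⟨?_, (eqv D a).s_u _ _ _ _⟩, ?_⟩
    · rw [hg, Equiv.symm_apply_eq]
      refine Sec.ext' _ _ ?_ fun R r x h h' => ?_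
      · change (eqv D a).s T (𝟙 T) b hb ≫ u ≫ f = _
        rw [← Category.assoc, Sec.s_u, hb, (yon S).map_id, Category.id_comp]
      · change D.tr ((yon S).map r ≫ (eqv D a).s T (𝟙 T) b hb) x _ = _
        have h1 : ((yon S).map r ≫ b) ≫ f = (yon S).map (r ≫ 𝟙 T) ≫ (eqv D a).y := by
          rw [Category.assoc, hb]; simp only [Functor.map_comp, Category.assoc]
        have h2 := (eqv D a).nat T R r (𝟙 T) b hb h1
        have h3 : (eqv D a).s R (r ≫ 𝟙 T) ((yon S).map r ≫ b) h1 ≫ u ≫ f = x ≫ f := by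
          rw [← Category.assoc, Sec.s_u, h1, h', Category.comp_id]
        rw [D.congr h2 rfl _ h3]
        rw [(eqv D a).compat R (r ≫ 𝟙 T) _ x h1 (by rw [Category.comp_id]; exact h') h3]
        exact Sec.s_congr _ (Category.comp_id _) rfl _ _
    · rintro c ⟨hc1, rfl⟩
      rw [hg, Equiv.symm_apply_eq] at hc1
      have h1 : (eqv D a).s T (𝟙 T) (c ≫ u) hb = (Sec.ofPt (D := D) c).s T (𝟙 T) (c ≫ u) (by
        rw [(yon S).map_id, Category.id_comp]; exact Category.assoc _ _ _) :=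
        Sec.s_congr' hc1.symm rfl rfl _ _
      rw [h1]
      change c = D.tr ((yon S).map (𝟙 T) ≫ c) (c ≫ u) _
      have h2 : (yon S).map (𝟙 T) ≫ c = c := by rw [(yon S).map_id, Category.id_comp]
      rw [D.congr h2 rfl _ (Category.assoc _ _ _).symm, D.tr_self]
  · intro R a x h
    refine K613.Basic.hom_ext fun T q => ?_
    rw [← Category.assoc, ← Category.assoc q a, hg, hg]
    congr 1
    refine Sec.ext' _ _ ?_ fun Q r x' h' h'' => ?_
    · change (q ≫ D.tr a x h) ≫ u ≫ f = (q ≫ a) ≫ u ≫ f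
      rw [Category.assoc, ← Category.assoc _ u f, D.tr_u, Category.assoc, h]
    · change D.tr ((yon S).map r ≫ q ≫ D.tr a x h) x' _ = D.tr ((yon S).map r ≫ q ≫ a) x' _
      have e1 : ((yon S).map r ≫ q) ≫ D.tr a x h = D.tr (((yon S).map r ≫ q) ≫ a) (((yon S).map r ≫ q) ≫ x) (by
        rw [Category.assoc, h]; simp only [Category.assoc]) := D.comp_tr _ _ _ _ _
      have e2 : (yon S).map r ≫ q ≫ D.tr a x h = D.tr (((yon S).map r ≫ q) ≫ a) (((yon S).map r ≫ q) ≫ x) (by
        rw [Category.assoc, h]; simp only [Category.assoc]) := (Category.assoc _ _ _).symm.trans e1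
      have e3 : (((yon S).map r ≫ q) ≫ a) ≫ u ≫ f = x' ≫ f := by
        rw [h'']
        change _ = (yon S).map r ≫ (q ≫ a) ≫ u ≫ f
        simp only [Category.assoc]
      rw [D.congr e2 rfl _ (by rw [← Category.assoc _ u f, D.tr_u, Category.assoc, ← h, ← e3]; simp only [Category.assoc])]
      rw [D.tr_tr _ _ _ _ _ e3]
      exact D.congr (Category.assoc _ _ _) rfl _ _
  · intro T z z' hzz H
    apply (eqv D).injective
    refine Sec.ext' _ _ (by rw [← hv, ← hv, hzz]) fun R r x h h' => ?_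
    have h1 := H R r x (by rw [h, hv])
    have h2 : (eqv D z).res r = (eqv D z').res r := by rw [← eqv_comp, ← eqv_comp, h1]
    have h3 := Sec.s_congr' h2 (r := 𝟙 R) (r' := 𝟙 R) rfl (x := x) (x' := x) rfl (by
      rw [(yon S).map_id, Category.id_comp]; exact h) (by
      rw [(yon S).map_id, Category.id_comp]; exact h')
    refine Eq.trans ?_ (h3.trans ?_)
    · exact Sec.s_congr _ (Category.id_comp _).symm rfl _ _
    · exact Sec.s_congr _ (Category.id_comp _) rfl _ _
  · intro T y m hm H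
    let σ : Sec D T := {
      y := y
      s := fun R r x h => pullback.lift x ((yon S).map r) h ≫ m
      s_u := fun R r x h => by rw [Category.assoc, hm, pullback.lift_fst]
      nat := fun R R' q r x h h' => by
        rw [← Category.assoc]
        congr 1
        apply pullback.hom_ext
        · rw [Category.assoc, pullback.lift_fst, pullback.lift_fst]
        · rw [Category.assoc, pullback.lift_snd, pullback.lift_snd, Functor.map_comp]
      compat := fun R r x x' h h' h'' => by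
        have e1 : pullback.lift x' ((yon S).map r) h' ≫ pullback.fst f y = x' := pullback.lift_fst _ _ _
        rw [← H _ (pullback.lift x ((yon S).map r) h) (pullback.lift x' ((yon S).map r) h') (by
          rw [e1]; exact h'') (by rw [pullback.lift_snd, pullback.lift_snd])]
        exact D.congr rfl e1.symm _ _ }
    refine ⟨(eqv D).symm σ, by rw [hv, Equiv.apply_symm_apply], ?_⟩
    refine K613.Basic.hom_ext fun T' c => ?_
    obtain ⟨r, hr⟩ := (yon S).map_surjective (c ≫ pullback.snd f y)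
    rw [← Category.assoc, ← Category.assoc, hg, ← hr, ← eqv_symm_res]
    congr 1
    refine Sec.ext' _ _ ?_ fun R r' x h h' => ?_
    · change (c ≫ m) ≫ u ≫ f = (yon S).map r ≫ y
      rw [Category.assoc, ← Category.assoc m, hm, pullback.condition, ← Category.assoc, hr]
    · change D.tr ((yon S).map r' ≫ c ≫ m) x _ = pullback.lift x ((yon S).map (r' ≫ r)) _ ≫ m
      have e0 : x ≫ f = (yon S).map (r' ≫ r) ≫ y := by
        rw [h', Functor.map_comp, Category.assoc]; rfl
      have e1 : pullback.lift x ((yon S).map (r' ≫ r)) e0 ≫ pullback.fst f y = x := pullback.lift_fst _ _ _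
      rw [← H _ ((yon S).map r' ≫ c) (pullback.lift x ((yon S).map (r' ≫ r)) e0) (by
        rw [e1, Category.assoc]; exact h.symm) (by
        rw [pullback.lift_snd, Functor.map_comp, Category.assoc, hr])]
      exact D.congr (Category.assoc _ _ _).symm e1.symm _ _

end Interface

end K635.DescFun
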