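import Groth.Agent.AlgSp.K635.DescExt
import Groth.Agent.AlgSp.K635.CoreExt
/-!
Effectivity of descent data on etale algebraic spaces relative to a universally closed surjective morphism with enough
coverings by schemes for which sections over geometric fibres extend.
-/

set_option autoImplicit false
universe u
open CategoryTheory CategoryTheory.Limits AlgebraicGeometry Opposite Topology

namespace K635.DescMain

open AlgSp K635.EtTop K635.DescFun K635.EtSh K635.CoreExt K635.DescExt Groth.Agent.Sga4A.EtStalk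

variable {S : Scheme.{u}} {X Y U : Sp S} {f : X ⟶ Y} {u : U ⟶ X}

/-- Enough coverings by schemes. -/
def Cov (f : X ⟶ Y) : Prop := ∀ (B : Over S) (_ : IsAffine B.left) (b : (yon S).obj B ⟶ Y) (_ : RepWith @Etale b),
  ∃ (X₁ : Over S) (g₁ : (yon S).obj X₁ ⟶ pullback f b) (t : X₁ ⟶ B), g₁ ≫ pullback.snd f b = (yon S).map t ∧
    IsUnivClosedMor g₁ ∧ Function.Surjective (Points.map g₁) ∧ BCsurj t.left ∧ IsUnivClosedMor ((yon S).map t)

/-- An affine etale chart through a geometric point. -/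
theorem exists_affine_chart (hY : IsAlgSpace Y) {Ω : Type u} [Field Ω] [IsSepClosed Ω] {s : Spec (.of Ω) ⟶ S}
    (y : (yon S).obj (Over.mk s) ⟶ Y) : ∃ (B : Over S) (b : (yon S).obj B ⟶ Y) (ξ : Over.mk s ⟶ B),
      IsAffine B.left ∧ RepWith @Etale b ∧ (yon S).map ξ ≫ b = y := by
  obtain ⟨A, p, hp, hps⟩ := hY.atlas
  obtain ⟨c, rfl⟩ := exists_lift_chart hp hps (M := Over.mk s) (Iso.refl _) y
  obtain ⟨W, hW, hcW, -⟩ := exists_isAffineOpen_mem_and_subset (x := c.left (default : Spec (.of Ω)))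
    (U := (⊤ : A.left.Opens)) trivial
  let B : Over S := Over.mk (W.ι ≫ A.hom)
  let j : B ⟶ A := Over.homMk W.ι rfl
  have hc : Set.range c.left ⊆ Set.range W.ι := by
    rintro _ ⟨z, rfl⟩
    obtain rfl : z = (default : Spec (.of Ω)) := Subsingleton.elim (α := Spec (.of Ω)) _ _
    simpa using hcW
  have hl : IsOpenImmersion.lift W.ι c.left hc ≫ W.ι = c.left := IsOpenImmersion.lift_fac _ _ _
  let ξ : Over.mk s ⟶ B := Over.homMk (IsOpenImmersion.lift W.ι c.left hc) (by
    change IsOpenImmersion.lift W.ι c.left hc ≫ W.ι ≫ A.hom = s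
    rw [← Category.assoc, hl]
    exact Over.w c)
  have hξ : ξ ≫ j = c := by ext1; exact hl
  have hj : RepWith @Etale ((yon S).map j) := (repWith_yon_map_iff @Etale j).2 (inferInstanceAs (Etale W.ι))
  refine ⟨B, (yon S).map j ≫ p, ξ, hW, K610.EtaleMor.comp_etale hj hp, ?_⟩
  rw [← Category.assoc, ← Functor.map_comp, hξ]

theorem exists_ext_of_cov (hX : IsAlgSpace X) (hY : IsAlgSpace Y) (hU : IsAlgSpace U) (hf : IsUnivClosedMor f)
    (hfs : Function.Surjective (Points.map f)) (hcov : Cov f) (hu : IsEtaleMor u) (D : Tr f u)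
    {V : Sp S} {v : V ⟶ Y} {g : U ⟶ V} (hpb : IsPullback g u v f)
    (hinv : ∀ (R : Sp S) (a : R ⟶ U) (x : R ⟶ X) (h : a ≫ u ≫ f = x ≫ f), D.tr a x h ≫ g = a ≫ g)
    (hsep : DescRep.Sep f v)
    (hex : ∀ (T : Over S) (y : (yon S).obj T ⟶ Y) (m : pullback f y ⟶ U), m ≫ u = pullback.fst f y →
      (∀ (R : Sp S) (c c' : R ⟶ pullback f y) (h : (c ≫ m) ≫ u ≫ f = (c' ≫ pullback.fst f y) ≫ f),
        c ≫ pullback.snd f y = c' ≫ pullback.snd f y →
        D.tr (c ≫ m) (c' ≫ pullback.fst f y) h = c' ≫ m) →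
      ∃ z : (yon S).obj T ⟶ V, z ≫ v = y ∧ m ≫ g = pullback.snd f y ≫ z)
    {Ω : Type u} [Field Ω] [IsSepClosed Ω] (s : Spec (.of Ω) ⟶ S) (a₀ : (yon S).obj (Over.mk s) ⟶ U) :
    ∃ (T : Over S) (z : (yon S).obj T ⟶ V) (l : Over.mk s ⟶ T), RepWith @Etale (z ≫ v) ∧
        (yon S).map l ≫ z = a₀ ≫ g := by
  obtain ⟨B, b, ξ, hB, hb, hξ⟩ := exists_affine_chart hY (a₀ ≫ u ≫ f)
  obtain ⟨X₁, g₁, t, ht, hg₁, hg₁s, hBC, htc⟩ := hcov B hB b hb
  have hX₁ : IsAlgSpace ((yon S).obj X₁) := IsAlgSpace.yon_obj X₁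
  -- the map to `X`
  let x₁ : (yon S).obj X₁ ⟶ X := g₁ ≫ pullback.fst f b
  have hx₁ : x₁ ≫ f = (yon S).map t ≫ b := by
    change (g₁ ≫ pullback.fst f b) ≫ f = _
    rw [Category.assoc, pullback.condition, ← Category.assoc, ht]
  -- the etale space over `X₁`
  have hU₁ : IsAlgSpace (pullback u x₁) := K613.Chart.isAlgSpace_pullback hU hX₁ hX u x₁
  have hu₁ : IsEtaleMor (pullback.snd u x₁) := K610.EtaleMor.isEtaleMor_baseChange hU hU₁ hX₁
    (IsPullback.of_hasPullback u x₁).flip hu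
  -- the section over the geometric fibre
  have hP := IsPullback.of_hasPullback t ξ
  have hγ₀ : ((yon S).map (pullback.snd t ξ) ≫ a₀) ≫ u ≫ f = ((yon S).map (pullback.fst t ξ) ≫ x₁) ≫ f := by
    rw [Category.assoc, ← hξ, ← Category.assoc, ← Functor.map_comp, ← hP.w, Functor.map_comp, Category.assoc,
      Category.assoc, hx₁]
  let γ : (yon S).obj (pullback t ξ) ⟶ pullback u x₁ := pullback.lift
    (D.tr ((yon S).map (pullback.snd t ξ) ≫ a₀) ((yon S).map (pullback.fst t ξ) ≫ x₁) hγ₀)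
    ((yon S).map (pullback.fst t ξ)) (D.tr_u _ _ _)
  have hγ1 : γ ≫ pullback.fst u x₁ =
    D.tr ((yon S).map (pullback.snd t ξ) ≫ a₀) ((yon S).map (pullback.fst t ξ) ≫ x₁) hγ₀ := pullback.lift_fst _ _ _
  have hγ2 : γ ≫ pullback.snd u x₁ = (yon S).map (pullback.fst t ξ) := pullback.lift_snd _ _ _
  obtain ⟨T, e, l, Q, q₁, q₂, i, β₁, he, hle, hQ, hi1, hPQ, hβ1, hβ2⟩ :=
    exists_ext (pullback.snd u x₁) t hBC hU₁ hu₁ ξ hP γ hγ2
  have hQy : IsAlgSpace ((yon S).obj Q) := IsAlgSpace.yon_obj Q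
  let β : (yon S).obj Q ⟶ U := β₁ ≫ pullback.fst u x₁
  let x : (yon S).obj Q ⟶ X := (yon S).map q₁ ≫ x₁
  have hβx : β ≫ u = x := by
    change (β₁ ≫ pullback.fst u x₁) ≫ u = _
    rw [Category.assoc, pullback.condition, ← Category.assoc, hβ1]
  have hxf : x ≫ f = (yon S).map q₂ ≫ (yon S).map e ≫ b := by
    change ((yon S).map q₁ ≫ x₁) ≫ f = _
    rw [Category.assoc, hx₁, ← Category.assoc, ← Functor.map_comp, hQ.w, Functor.map_comp, Category.assoc]
  have hix : (yon S).map i ≫ x = (yon S).map (pullback.fst t ξ) ≫ x₁ := by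
    change (yon S).map i ≫ (yon S).map q₁ ≫ x₁ = _
    rw [← Category.assoc, ← Functor.map_comp, hi1]
  have hγ₀' : ((yon S).map (pullback.snd t ξ) ≫ a₀) ≫ u ≫ f = ((yon S).map i ≫ x) ≫ f := by rw [hγ₀, hix]
  have hiβ : (yon S).map i ≫ β = D.tr ((yon S).map (pullback.snd t ξ) ≫ a₀) ((yon S).map i ≫ x) hγ₀' := by
    change (yon S).map i ≫ β₁ ≫ pullback.fst u x₁ = _
    rw [← Category.assoc, hβ2, hγ1]
    exact D.congr rfl hix.symm _ _
  have hq₂ : IsUnivClosedMor ((yon S).map q₂) :=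
    K596.ClosedQC.isUnivClosedMor_of_isPullback (hQ.map (yon S)) htc
  have hPQ' := hPQ.map (yon S)
  obtain ⟨T', j, hj, ht₀, hc⟩ := shrink hX hU hu D hQy ((yon S).map q₂) hq₂ x hxf β hβx
    (l.left (default : Spec (.of Ω))) (fun R c c' r h hcc hr =>
      eqAt_fibre D hPQ' a₀ hγ₀' hiβ (default : Spec (.of Ω)) R c c' r h hcc hr)
  -- the point of `T'`
  have hr : Set.range l.left ⊆ Set.range j.left := by
    rintro _ ⟨z, rfl⟩
    obtain rfl : z = (default : Spec (.of Ω)) := Subsingleton.elim (α := Spec (.of Ω)) _ _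
    exact ht₀
  let l' : Over.mk s ⟶ T' := Over.homMk (IsOpenImmersion.lift j.left l.left hr) (by
    rw [← Over.w j, ← Category.assoc, IsOpenImmersion.lift_fac]
    exact Over.w l)
  have hl' : l' ≫ j = l := by ext1; exact IsOpenImmersion.lift_fac _ _ _
  -- the covering of `X ×_Y T'`
  obtain ⟨y', hy'⟩ : ∃ y' : (yon S).obj T' ⟶ Y, y' = (yon S).map (j ≫ e) ≫ b := ⟨_, rfl⟩
  have hk0 : pullback.fst f y' ≫ f = (pullback.snd f y' ≫ (yon S).map (j ≫ e)) ≫ b := by
    rw [pullback.condition, Category.assoc, ← hy']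
  let k : pullback f y' ⟶ pullback f b := pullback.lift (pullback.fst f y') (pullback.snd f y' ≫ (yon S).map (j ≫ e)) hk0
  have hk1 : k ≫ pullback.fst f b = pullback.fst f y' := pullback.lift_fst _ _ _
  have hk2 : k ≫ pullback.snd f b = pullback.snd f y' ≫ (yon S).map (j ≫ e) := pullback.lift_snd _ _ _
  have hT'y : IsAlgSpace ((yon S).obj T') := IsAlgSpace.yon_obj T'
  have hXT' : IsAlgSpace (pullback f y') := K613.Chart.isAlgSpace_pullback hX hT'y hY f y'
  have hXb : IsAlgSpace (pullback f b) := K613.Chart.isAlgSpace_pullback hX (IsAlgSpace.yon_obj B) hY f b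
  have hQ' : IsAlgSpace (pullback g₁ k) := K613.Chart.isAlgSpace_pullback hX₁ hXT' hXb g₁ k
  have hgA : IsUnivClosedMor (pullback.snd g₁ k) :=
    K596.ClosedQC.isUnivClosedMor_of_isPullback (IsPullback.of_hasPullback g₁ k) hg₁
  have hgAs : Function.Surjective (Points.map (pullback.snd g₁ k)) := by
    intro z
    obtain ⟨w, hw⟩ := hg₁s (Points.map k z)
    obtain ⟨z', -, hz'⟩ := K610.Base.exists_of_isPullback (IsPullback.of_hasPullback g₁ k) w z hw
    exact ⟨z', hz'⟩
  have hJ0 : pullback.fst g₁ k ≫ (yon S).map t = (pullback.snd g₁ k ≫ pullback.snd f y' ≫ (yon S).map j) ≫ (yon S).map e := by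
    rw [← ht, ← Category.assoc, pullback.condition, Category.assoc, hk2, Functor.map_comp]
    simp only [Category.assoc]
  have hQm := hQ.map (yon S)
  obtain ⟨J, hJ1, hJ2⟩ : ∃ J : pullback g₁ k ⟶ (yon S).obj Q, J ≫ (yon S).map q₁ = pullback.fst g₁ k ∧
      J ≫ (yon S).map q₂ = pullback.snd g₁ k ≫ pullback.snd f y' ≫ (yon S).map j :=
    ⟨hQm.lift _ _ hJ0, hQm.lift_fst _ _ _, hQm.lift_snd _ _ _⟩
  have hJx : J ≫ x = pullback.snd g₁ k ≫ pullback.fst f y' := by
    change J ≫ (yon S).map q₁ ≫ g₁ ≫ pullback.fst f b = _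
    rw [← Category.assoc, hJ1, ← Category.assoc, pullback.condition, Category.assoc, hk1]
  obtain ⟨m, hm1, hm2, hm3⟩ := exists_m hX hY hU hu D hQ' y' (pullback.snd g₁ k) hgA hgAs (J ≫ β)
    (by rw [Category.assoc, hβx, hJx]) (by
      intro R c c' h hcc
      have h1 : ((c ≫ J) ≫ β) ≫ u ≫ f = ((c' ≫ J) ≫ x) ≫ f := by
        rw [Category.assoc c J β, h, Category.assoc c' J x, hJx]
      have h2 := hc R (c ≫ J) (c' ≫ J) (c ≫ pullback.snd g₁ k ≫ pullback.snd f y') h1
        (by rw [Category.assoc, hJ2]; simp only [Category.assoc])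
        (by rw [Category.assoc, hJ2, hcc]; simp only [Category.assoc])
      rw [← Category.assoc c' J β, ← h2]
      exact D.congr (Category.assoc _ _ _).symm (by rw [Category.assoc, hJx]) _ _)
  obtain ⟨z, hz1, hz2⟩ := hex T' y' m hm1 hm3
  have hje : Etale (j ≫ e).left := by
    have : IsOpenImmersion j.left := hj
    have : Etale e.left := he
    exact inferInstanceAs (Etale (j.left ≫ e.left))
  refine ⟨T', z, l', ?_, ?_⟩
  · rw [hz1, hy']
    exact K610.EtaleMor.comp_etale ((repWith_yon_map_iff @Etale _).2 hje) hb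
  · -- equality at the point
    have hd := DescRep.diag_open hX hY hU hf hu hpb hsep
    have : Subsingleton (Over.mk s).left := inferInstanceAs (Subsingleton (Spec (.of Ω)))
    have hv1 : ((yon S).map l' ≫ z) ≫ v = (a₀ ≫ g) ≫ v := by
      rw [Category.assoc, hz1, Category.assoc, hpb.w, ← hξ, hy']
      rw [← Category.assoc, ← Functor.map_comp, ← Category.assoc, hl', hle]
    -- a point of `pullback g₁ k` over `l'`
    obtain ⟨p1, hp1⟩ := hfs (Points.map y' (Points.map ((yon S).map l') (Points.ofScheme _ (default : Spec (.of Ω)))))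
    obtain ⟨p2, -, hp2⟩ := K610.Base.exists_of_isPullback (IsPullback.of_hasPullback f y') p1 _ hp1
    obtain ⟨p3, hp3⟩ := hgAs p2
    have hp4 : Points.map (pullback.snd g₁ k ≫ pullback.snd f y') p3 =
        Points.map ((yon S).map l') (Points.ofScheme _ (default : Spec (.of Ω))) := by
      rw [Points.map_comp, hp3, hp2]
    obtain ⟨r, -, -⟩ := K610.Base.exists_of_isPullback (IsPullback.of_hasPullback
      (pullback.snd g₁ k ≫ pullback.snd f y') ((yon S).map l')) p3 _ hp4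
    have w := pullback.condition (f := pullback.snd g₁ k ≫ pullback.snd f y') (g := (yon S).map l')
    refine eq_of_nonempty hd _ _ hv1 r (pullback.snd (pullback.snd g₁ k ≫ pullback.snd f y') ((yon S).map l')) ?_
    have hn0 : (pullback.fst (pullback.snd g₁ k ≫ pullback.snd f y') ((yon S).map l') ≫ J) ≫ (yon S).map q₂ =
        pullback.snd (pullback.snd g₁ k ≫ pullback.snd f y') ((yon S).map l') ≫ (yon S).map l := by
      have w' := congrArg (fun q => q ≫ (yon S).map j) w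
      rw [Category.assoc, hJ2, ← hl', Functor.map_comp]
      simp only [Category.assoc] at w' ⊢
      exact w'
    obtain ⟨n, hn1, hn2⟩ : ∃ n : pullback (pullback.snd g₁ k ≫ pullback.snd f y') ((yon S).map l') ⟶
        (yon S).obj (pullback t ξ), n ≫ (yon S).map i =
          pullback.fst (pullback.snd g₁ k ≫ pullback.snd f y') ((yon S).map l') ≫ J ∧
        n ≫ (yon S).map (pullback.snd t ξ) = pullback.snd _ _ :=
      ⟨hPQ'.lift _ _ hn0, hPQ'.lift_fst _ _ _, hPQ'.lift_snd _ _ _⟩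
    have e1 : pullback.snd (pullback.snd g₁ k ≫ pullback.snd f y') ((yon S).map l') ≫ (yon S).map l' ≫ z =
        pullback.fst (pullback.snd g₁ k ≫ pullback.snd f y') ((yon S).map l') ≫ (J ≫ β) ≫ g := by
      rw [← Category.assoc, ← w, ← hm2, Category.assoc, Category.assoc, Category.assoc, hz2]
    rw [e1, ← Category.assoc, ← Category.assoc, ← hn1, Category.assoc n, hiβ, Category.assoc n, hinv,
      Category.assoc, ← Category.assoc n, hn2]

/-- Effectivity of descent data. -/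
theorem effective (hX : IsAlgSpace X) (hY : IsAlgSpace Y) (hU : IsAlgSpace U) (hf : IsUnivClosedMor f)
    (hfs : Function.Surjective (Points.map f)) (hcov : Cov f) (hu : IsEtaleMor u) (D : Tr f u) :
    ∃ (V : Sp S) (v : V ⟶ Y) (g : U ⟶ V), IsAlgSpace V ∧ IsEtaleMor v ∧ IsPullback g u v f ∧
      ∀ (R : Sp S) (a : R ⟶ U) (x : R ⟶ X) (h : a ≫ u ≫ f = x ≫ f), D.tr a x h ≫ g = a ≫ g := by
  obtain ⟨V, v, g, hpb, hinv, hsep, hex⟩ := exists_desc D
  obtain ⟨h1, h2⟩ := DescRep.isAlgSpace_of_ext hX hY hU hf hfs hu hpb hsep (fun Ω _ _ s a₀ =>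
    exists_ext_of_cov hX hY hU hf hfs hcov hu D hpb hinv hsep hex s a₀)
  exact ⟨V, v, g, h1, h2, hpb, hinv⟩

end K635.DescMain
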