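import Groth.Agent.AlgSp.K635.DescMain
import Groth.Agent.AlgSp.K597.ProperSub
import Groth.Agent.AlgSp.K601.RelChow
/-!
Proper surjective morphisms have enough coverings by schemes.
-/

set_option autoImplicit false
universe u
open CategoryTheory CategoryTheory.Limits AlgebraicGeometry Opposite Topology

namespace K635.DescProper

open AlgSp K635.DescMain Groth.Agent.Sga4A.EtStalk

variable {S : Scheme.{u}} {X Y : Sp S} {f : X ⟶ Y}

theorem cov_of_isProperMor (hX : IsAlgSpace X) (hY : IsAlgSpace Y) (hf : IsProperMor f) : Cov f := by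
  intro B hB b hb
  have hBy : IsAlgSpace ((yon S).obj B) := IsAlgSpace.yon_obj B
  have hXb : IsAlgSpace (pullback f b) := K613.Chart.isAlgSpace_pullback hX hBy hY f b
  have h1 : IsProperMor (pullback.snd f b) := K597.Proper.isProperMor_of_isPullback hX hY hBy
    (IsPullback.of_hasPullback f b) hf
  obtain ⟨T, g, t, hgt, -, hg, hgs⟩ := K601.RelChow.exists_relChow hB hXb (pullback.snd f b) h1.1 h1.2.1
  have hTy : IsAlgSpace ((yon S).obj T) := IsAlgSpace.yon_obj T
  have h2 : IsProperMor ((yon S).map t) := by
    rw [← hgt]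
    exact K597.ProperSub.isProperMor_comp hTy hXb hBy hg h1
  have h3 : IsProper t.left := (repWith_yon_map_iff @IsProper t).1
    ((K597.Proper.isProperMor_iff_repWith hBy (IsAlgSpace.yon_obj B |>.representable_from_yon _)).1 h2)
  exact ⟨T, g, t, hgt, hg.2.2, hgs, Groth.Agent.S3051.bcsurj_of_isProper t.left, h2.2.2⟩

end K635.DescProper
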