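import Groth.Agent.AlgSp.K635.EtTop
import Groth.Agent.AlgSp.K635.DescFun
import Groth.Agent.AlgSp.K613.Diag
import Groth.Agent.AlgSp.K594.Atlas
import Groth.Agent.Sga4A.EtStalk
/-!
The descended functor of an etale descent datum along a universally closed surjective morphism is an etale algebraic
space as soon as it has enough etale sections.
-/

set_option autoImplicit false
universe u
open CategoryTheory CategoryTheory.Limits AlgebraicGeometry Opposite Topology

namespace K635.DescRep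

open AlgSp K635.EtTop

variable {S : Scheme.{u}} {X Y U V : Sp S} {f : X ⟶ Y} {u : U ⟶ X} {v : V ⟶ Y} {g : U ⟶ V}

/-- `V` is separated for the family of maps to `X`. -/
def Sep (f : X ⟶ Y) (v : V ⟶ Y) : Prop :=
  ∀ (T : Over S) (z z' : (yon S).obj T ⟶ V), z ≫ v = z' ≫ v →
    (∀ (R : Over S) (r : R ⟶ T) (x : (yon S).obj R ⟶ X), x ≫ f = (yon S).map r ≫ z ≫ v →
      (yon S).map r ≫ z = (yon S).map r ≫ z') → z = z'

theorem diag_open (hX : IsAlgSpace X) (hY : IsAlgSpace Y) (hU : IsAlgSpace U) (hf : IsUnivClosedMor f)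
    (hu : IsEtaleMor u) (hpb : IsPullback g u v f) (hsep : Sep f v) :
    RepWith @IsOpenImmersion (pullback.diagonal v) := by
  rw [K613.Diag.repWith_diagonal_iff]
  intro T a b hab
  have hT : IsAlgSpace ((yon S).obj T) := IsAlgSpace.yon_obj T
  have hP : IsAlgSpace (pullback f (a ≫ v)) := K613.Chart.isAlgSpace_pullback hX hT hY _ _
  have hm1 : (pullback.snd f (a ≫ v) ≫ a) ≫ v = pullback.fst f (a ≫ v) ≫ f := by
    rw [Category.assoc, pullback.condition]
  have hm1' : (pullback.snd f (a ≫ v) ≫ b) ≫ v = pullback.fst f (a ≫ v) ≫ f := by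
    rw [Category.assoc, ← hab, pullback.condition]
  obtain ⟨m, hm, hmu⟩ : ∃ m : pullback f (a ≫ v) ⟶ U, m ≫ g = pullback.snd f (a ≫ v) ≫ a ∧
      m ≫ u = pullback.fst f (a ≫ v) := ⟨hpb.lift _ _ hm1, hpb.lift_fst _ _ _, hpb.lift_snd _ _ _⟩
  obtain ⟨m', hm', hmu'⟩ : ∃ m' : pullback f (a ≫ v) ⟶ U, m' ≫ g = pullback.snd f (a ≫ v) ≫ b ∧
      m' ≫ u = pullback.fst f (a ≫ v) := ⟨hpb.lift _ _ hm1', hpb.lift_fst _ _ _, hpb.lift_snd _ _ _⟩
  have hO : IsOpen {x | EqAt m m' x} := isOpen_eqAt hP hU hX hu m m' (hmu.trans hmu'.symm)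
  have hC : IsClosed (Points.map (pullback.snd f (a ≫ v)) '' {x | EqAt m m' x}ᶜ) :=
    hf hT (a ≫ v) _ _ (IsPullback.of_hasPullback _ _) _ hO.isClosed_compl
  obtain ⟨E, e, he1, he2, he3⟩ := K610.Sub.exists_open (T := T)
    ⟨Points.ofPt (𝟙 ((yon S).obj T)) ⁻¹' (Points.map (pullback.snd f (a ≫ v)) '' {x | EqAt m m' x}ᶜ)ᶜ,
      hC.isOpen_compl.preimage (Points.continuous_ofPt _)⟩
  refine ⟨E, e, ⟨?_, fun R r hr => ?_⟩, he2⟩
  · refine hsep E _ _ (by rw [Category.assoc, Category.assoc, hab]) fun R r x hx => ?_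
    have hx' : x ≫ f = (yon S).map (r ≫ e) ≫ a ≫ v := by
      rw [hx, Functor.map_comp]; simp only [Category.assoc]
    obtain ⟨c, hc1, hc2⟩ : ∃ c : (yon S).obj R ⟶ pullback f (a ≫ v), c ≫ pullback.fst f (a ≫ v) = x ∧
        c ≫ pullback.snd f (a ≫ v) = (yon S).map (r ≫ e) :=
      ⟨pullback.lift _ _ hx', pullback.lift_fst _ _ _, pullback.lift_snd _ _ _⟩
    have h1 : c ≫ m = c ≫ m' := by
      refine eq_of_points hU hX hu _ _ (by rw [Category.assoc, Category.assoc, hmu, hmu']) fun y => ?_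
      rw [eqAt_comp_iff]
      by_contra hne
      obtain ⟨t, rfl⟩ := (Points.schemeEquiv R).surjective y
      have h2 : Set.range (r ≫ e).left ⊆ _ := (he3 R (r ≫ e)).1 ⟨r, rfl⟩
      have h3 := h2 ⟨t, rfl⟩
      change Points.ofPt (𝟙 ((yon S).obj T)) ((r ≫ e).left t) ∈
        (Points.map (pullback.snd f (a ≫ v)) '' {x | EqAt m m' x}ᶜ)ᶜ at h3
      refine h3 ⟨_, hne, ?_⟩
      rw [← Points.map_comp, hc2, ← K610.Base.ofPt_map_comp, Category.comp_id]
      exact (Points.ofPt_eq_map_ofScheme _ _).symm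
    rw [← Category.assoc, ← Functor.map_comp, ← Category.assoc, ← Functor.map_comp, ← hc2, Category.assoc,
      Category.assoc, ← hm, ← hm', ← Category.assoc, h1, Category.assoc]
  · obtain ⟨r', hr'⟩ : ∃ r' : R ⟶ E, r' ≫ e = r := by
      refine (he3 R r).2 ?_
      rintro _ ⟨t, rfl⟩
      change Points.ofPt (𝟙 ((yon S).obj T)) (r.left t) ∈
        (Points.map (pullback.snd f (a ≫ v)) '' {x | EqAt m m' x}ᶜ)ᶜ
      rintro ⟨p, hp, hpt⟩
      have h1 : Points.map (pullback.snd f (a ≫ v)) p = Points.map ((yon S).map r) (Points.ofPt (𝟙 _) t) := by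
        rw [hpt, ← K610.Base.ofPt_map_comp, Category.comp_id, ← K610.Base.ofPt_comp, Category.id_comp]
      obtain ⟨q, hq1, hq2⟩ := K610.Base.exists_of_isPullback (IsPullback.of_hasPullback
        (pullback.snd f (a ≫ v)) ((yon S).map r)) p _ h1
      refine hp ⟨_, pullback.fst (pullback.snd f (a ≫ v)) ((yon S).map r), q, hq1, ?_⟩
      apply hpb.hom_ext
      · rw [Category.assoc, hm, Category.assoc, hm', ← Category.assoc, pullback.condition, Category.assoc, hr,
          ← Category.assoc, ← pullback.condition, Category.assoc]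
      · rw [Category.assoc, hmu, Category.assoc, hmu']
    exact ⟨r', hr', fun s hs => by rw [← cancel_mono e, hr']; exact hs⟩

/-- Enough etale sections. -/
theorem isAlgSpace_of_family (hY : IsAlgSpace Y) (hd : RepWith @IsOpenImmersion (pullback.diagonal v)) {ι : Type u}
    (T : ι → Over S) (z : ∀ i, (yon S).obj (T i) ⟶ V) (he : ∀ i, RepWith @Etale (z i ≫ v))
    (hs : ∀ x : Points V, ∃ (i : ι) (t : (T i).left), Points.ofPt (z i) t = x) :
    IsAlgSpace V ∧ IsEtaleMor v := by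
  have hd' : RepWith @Etale (pullback.diagonal v) := K610.OpenImm.repWith_etale_of_open hd
  obtain ⟨p, hp⟩ := K594.Atlas.exists_sigma_map z
  have hpe : RepWith @Etale p := K594.Atlas.repWith_sig @Etale p fun i => by
    rw [hp]; exact K613.Diag.repWith_of_comp (he i) hd'
  have hps : RepWith @Surjective p := K610.Base.repWith_surjective_of_points hpe.1 fun x => by
    obtain ⟨i, t, rfl⟩ := hs x
    rw [← hp, K610.Base.ofPt_map_comp]
    exact ⟨Points.ofScheme _ _, (Points.ofPt_eq_map_ofScheme _ _).symm⟩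
  refine ⟨K594.Bootstrap.isAlgSpace_of_etale p hpe hps, K610.EtaleMor.isEtaleMor_of_chart hY hpe hps
    (K594.Atlas.repWith_sig @Etale _ fun i => ?_)⟩
  rw [← Category.assoc, hp]
  exact he i

/-- The criterion. -/
theorem isAlgSpace_of_ext (hX : IsAlgSpace X) (hY : IsAlgSpace Y) (hU : IsAlgSpace U) (hf : IsUnivClosedMor f)
    (hfs : Function.Surjective (Points.map f)) (hu : IsEtaleMor u) (hpb : IsPullback g u v f) (hsep : Sep f v)
    (hext : ∀ (Ω : Type u) [Field Ω] [IsSepClosed Ω] (s : Spec (.of Ω) ⟶ S) (a₀ : (yon S).obj (Over.mk s) ⟶ U),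
      ∃ (T : Over S) (z : (yon S).obj T ⟶ V) (l : Over.mk s ⟶ T), RepWith @Etale (z ≫ v) ∧
        (yon S).map l ≫ z = a₀ ≫ g) : IsAlgSpace V ∧ IsEtaleMor v := by
  obtain ⟨A, p, hp, hps⟩ := hU.atlas
  have key : ∀ x : A.left, ∃ (T : Over S) (z : (yon S).obj T ⟶ V) (t : T.left), RepWith @Etale (z ≫ v) ∧
      Points.ofPt z t = Points.map g (Points.ofPt p x) := by
    intro x
    obtain ⟨Ω, _, _, l, hl⟩ := Groth.Agent.Sga4A.EtStalk.exists_geomPoint A.left x
    obtain ⟨T, z, l', hz, hlz⟩ := hext Ω (l ≫ A.hom) ((yon S).map (Over.homMk l rfl) ≫ p)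
    refine ⟨T, z, l'.left (default : Spec (.of Ω)), hz, ?_⟩
    rw [← K610.Base.ofPt_map_comp, hlz, K610.Base.ofPt_comp, K610.Base.ofPt_map_comp]
    congr 2
  choose T z t hz ht using key
  refine isAlgSpace_of_family hY (diag_open hX hY hU hf hu hpb hsep) (ι := A.left) T z hz fun y => ?_
  obtain ⟨x, hx⟩ := hfs (Points.map v y)
  obtain ⟨w, rfl, -⟩ := K610.Base.exists_of_isPullback hpb y x hx.symm
  obtain ⟨a, rfl⟩ := K610.Base.surjective_ofPt hps w
  exact ⟨a, t a, ht a⟩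

end K635.DescRep
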