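import Mathlib.RingTheory.Unramified.Finite
import Mathlib.RingTheory.Flat.EquationalCriterion
import Mathlib.RingTheory.Idempotents
import Mathlib.RingTheory.Flat.Localization
import Mathlib.RingTheory.Etale.Basic

/-!
# Flat unramified algebras of finite type (not necessarily finitely presented) are formally etale
-/

set_option autoImplicit false

universe u

open TensorProduct

namespace K635.FlatUnram

/-- `C` flat over `A`, `I ^ 2 = 0`, `A ⟶ C` onto modulo `I` and with kernel inside `I`: then bijective. -/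
theorem bijective_of_flat {A C : Type*} [CommRing A] [CommRing C] [Algebra A C] [Module.Flat A C]
    (I : Ideal A) (hI : I ^ 2 = ⊥)
    (h1 : ∀ c : C, ∃ a : A, c - algebraMap A C a ∈ I.map (algebraMap A C))
    (h2 : RingHom.ker (algebraMap A C) ≤ I) : Function.Bijective (algebraMap A C) := by
  have hsurj : Function.Surjective (algebraMap A C) := by
    let N : Submodule A C := LinearMap.range (Algebra.linearMap A C)
    have hN : (⊤ : Submodule A C) ≤ N ⊔ I • ⊤ := by
      intro c _
      obtain ⟨a, ha⟩ := h1 c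
      rw [← sub_add_cancel c (algebraMap A C a), add_comm]
      refine Submodule.add_mem_sup ⟨a, rfl⟩ ?_
      rw [Ideal.smul_top_eq_map]
      exact ha
    have hN2 : I • (⊤ : Submodule A C) ≤ N := by
      calc I • (⊤ : Submodule A C) ≤ I • (N ⊔ I • ⊤) := Submodule.smul_mono le_rfl hN
        _ = I • N ⊔ I • I • ⊤ := Submodule.smul_sup _ _ _
        _ = I • N ⊔ (I ^ 2) • ⊤ := by rw [pow_two, Submodule.mul_smul]
        _ = I • N := by rw [hI, Submodule.bot_smul, sup_bot_eq]
        _ ≤ N := Submodule.smul_le_right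
    intro c
    have : c ∈ N := (hN.trans (sup_le le_rfl hN2)) (Submodule.mem_top)
    exact this
  refine ⟨?_, hsurj⟩
  rw [injective_iff_map_eq_zero]
  intro k hk
  have h3 : ∑ i : Fin 1, (fun _ ↦ k : Fin 1 → A) i • (fun _ ↦ 1 : Fin 1 → C) i = 0 := by
    simp [Algebra.smul_def, hk]
  obtain ⟨κ, a, y, hy1, hy2⟩ := Module.Flat.isTrivialRelation_of_sum_smul_eq_zero h3
  choose b hb using fun j ↦ hsurj (y j)
  have h4 : (1 : A) - ∑ j, a 0 j * b j ∈ RingHom.ker (algebraMap A C) := by
    rw [RingHom.mem_ker, map_sub, map_one, map_sum, sub_eq_zero]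
    refine (hy1 0).trans (Finset.sum_congr rfl fun j _ ↦ ?_)
    rw [map_mul, hb, Algebra.smul_def]
  have h5 : k = k * (1 - ∑ j, a 0 j * b j) := by
    rw [mul_sub, mul_one, Finset.mul_sum, eq_comm, sub_eq_self]
    refine Finset.sum_eq_zero fun j _ ↦ ?_
    have := hy2 j
    simp only [Finset.univ_unique, Fin.default_eq_zero, Fin.isValue, Finset.sum_singleton] at this
    rw [← mul_assoc, this, zero_mul]
  have h6 : k * (1 - ∑ j, a 0 j * b j) ∈ I ^ 2 := by
    rw [pow_two]
    exact Ideal.mul_mem_mul (h2 hk) (h2 h4)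
  rw [h5]
  rwa [hI] at h6

/-- Lifting for flat unramified algebras essentially of finite type. -/
theorem exists_lift {A B : Type*} [CommRing A] [CommRing B] [Algebra A B] [Module.Flat A B]
    [Algebra.FormallyUnramified A B] [Algebra.EssFiniteType A B] (I : Ideal A) (hI : I ^ 2 = ⊥)
    (s : B →ₐ[A] A ⧸ I) : ∃ l : B →ₐ[A] A, (Ideal.Quotient.mkₐ A I).comp l = s := by
  let J : Ideal B := I.map (algebraMap A B)
  have hJs : ∀ b ∈ J, s b = 0 := by
    intro b hb
    have : J ≤ RingHom.ker s.toRingHom := by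
      rw [Ideal.map_le_iff_le_comap]
      intro a ha
      rw [Ideal.mem_comap, RingHom.mem_ker]
      change s (algebraMap A B a) = 0
      rw [s.commutes]
      exact Ideal.Quotient.eq_zero_iff_mem.2 ha
    exact this hb
  let sb : B ⧸ J →ₐ[A] A ⧸ I := Ideal.Quotient.liftₐ J s hJs
  have hsb : ∀ b : B, sb (Ideal.Quotient.mk J b) = s b := fun b ↦ rfl
  let ι : A ⧸ I →ₐ[A] B ⧸ J := Ideal.Quotient.liftₐ I (Algebra.ofId A (B ⧸ J)) (fun a ha ↦ by
    change algebraMap A (B ⧸ J) a = 0
    change Ideal.Quotient.mk J (algebraMap A B a) = 0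
    rw [Ideal.Quotient.eq_zero_iff_mem]
    exact Ideal.mem_map_of_mem _ ha)
  have hι : ∀ a : A, ι (Ideal.Quotient.mk I a) = Ideal.Quotient.mk J (algebraMap A B a) := fun a ↦ rfl
  have hsι : ∀ x : A ⧸ I, sb (ι x) = x := by
    intro x
    obtain ⟨a, rfl⟩ := Ideal.Quotient.mk_surjective x
    rw [hι, hsb, s.commutes]
    rfl
  let θ : B ⊗[A] B →ₐ[A] B ⧸ J :=
    Algebra.TensorProduct.lift (ι.comp s) (Ideal.Quotient.mkₐ A J) (fun _ _ ↦ Commute.all _ _)
  have hθ1 : ∀ b : B, θ (b ⊗ₜ 1) = ι (s b) := fun b ↦ by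
    simp [θ]
  have hθ2 : ∀ b : B, θ (1 ⊗ₜ b) = Ideal.Quotient.mk J b := fun b ↦ by
    simp [θ]
  let e₀ : B ⧸ J := θ (Algebra.FormallyUnramified.elem A B)
  have h1 : ∀ b : B, (Ideal.Quotient.mk J b - ι (s b)) * e₀ = 0 := by
    intro b
    rw [← hθ1, ← hθ2, ← map_sub, ← map_mul, Algebra.FormallyUnramified.one_tmul_sub_tmul_one_mul_elem, map_zero]
  have h2 : sb e₀ = 1 := by
    have : sb.comp θ = s.comp (Algebra.TensorProduct.lmul' A) := by
      ext b
      · simp [hθ1, hsι]
      · simp [hθ2, hsb]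
    have := congrArg (fun f ↦ f (Algebra.FormallyUnramified.elem A B)) this
    simp only [AlgHom.comp_apply, Algebra.FormallyUnramified.lmul_elem, map_one] at this
    exact this
  obtain ⟨b₀, hb₀⟩ := Ideal.Quotient.mk_surjective e₀
  have he₀ : IsIdempotentElem e₀ := by
    have h3 := h1 b₀
    rw [← hsb, hb₀, h2, map_one, sub_mul, one_mul, sub_eq_zero] at h3
    exact h3
  have hJ2 : J ^ 2 = ⊥ := by
    rw [← Ideal.map_pow, hI, Ideal.map_bot]
  obtain ⟨e, he, hee⟩ := exists_isIdempotentElem_eq_of_ker_isNilpotent (Ideal.Quotient.mk J)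
    (fun x hx ↦ ⟨2, by
      rw [Ideal.mk_ker] at hx
      have := Ideal.pow_mem_pow hx 2
      rwa [hJ2] at this⟩) e₀ ⟨b₀, hb₀⟩ he₀
  have hse : s e = 1 := by rw [← hsb, hee, h2]
  let C := Localization.Away e
  have hC1 : algebraMap B C e = 1 := by
    have hu : IsUnit (algebraMap B C e) := IsLocalization.Away.algebraMap_isUnit e
    have hi : algebraMap B C e * algebraMap B C e = algebraMap B C e := by
      rw [← map_mul, he.eq]
    exact (hu.mul_eq_left).1 hi
  have hC2 : Function.Surjective (algebraMap B C) := by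
    intro c
    obtain ⟨n, b, hb⟩ := IsLocalization.Away.surj e c
    refine ⟨b, ?_⟩
    rw [← hb, hC1, one_pow, mul_one]
  have hC3 : ∀ b b' : B, algebraMap B C b = algebraMap B C b' → s b = s b' := by
    intro b b' h
    obtain ⟨n, hn⟩ := IsLocalization.Away.exists_of_eq e h
    have := congrArg s hn
    simpa [hse] using this
  have : Module.Flat B C := IsLocalization.flat C (Submonoid.powers e)
  have : Module.Flat A C := Module.Flat.trans A B C
  have hbij : Function.Bijective (algebraMap A C) := by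
    refine bijective_of_flat I hI ?_ ?_
    · intro c
      obtain ⟨b, rfl⟩ := hC2 c
      obtain ⟨a, ha⟩ := Ideal.Quotient.mk_surjective (s b)
      refine ⟨a, ?_⟩
      have h3 := h1 b
      rw [← ha, hι, ← map_sub, ← hee, ← map_mul, Ideal.Quotient.eq_zero_iff_mem] at h3
      have h4 := Ideal.mem_map_of_mem (algebraMap B C) h3
      rw [map_mul, hC1, mul_one, map_sub, Ideal.map_map, ← IsScalarTower.algebraMap_eq,
        ← IsScalarTower.algebraMap_apply] at h4
      exact h4
    · intro a ha
      rw [RingHom.mem_ker, IsScalarTower.algebraMap_apply A B C] at ha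
      have h3 := hC3 (algebraMap A B a) 0 (by rw [ha, map_zero])
      rw [s.commutes, map_zero] at h3
      exact Ideal.Quotient.eq_zero_iff_mem.1 h3
  let E : A ≃ₐ[A] C := AlgEquiv.ofBijective (Algebra.ofId A C) hbij
  refine ⟨E.symm.toAlgHom.comp (IsScalarTower.toAlgHom A B C), ?_⟩
  ext b
  change Ideal.Quotient.mk I (E.symm (algebraMap B C b)) = s b
  have h3 : algebraMap B C (algebraMap A B (E.symm (algebraMap B C b))) = algebraMap B C b := by
    rw [← IsScalarTower.algebraMap_apply]
    exact E.apply_symm_apply _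
  have h4 := hC3 _ _ h3
  rw [s.commutes] at h4
  exact h4

/-- A flat unramified algebra of finite type is formally etale. -/
theorem formallyEtale (R B : Type*) [CommRing R] [CommRing B] [Algebra R B] [Module.Flat R B]
    [Algebra.FormallyUnramified R B] [Algebra.EssFiniteType R B] : Algebra.FormallyEtale R B := by
  have : Algebra.FormallySmooth R B := by
    refine Algebra.FormallySmooth.of_comp_surjective fun A _ _ I hI g ↦ ?_
    let s : A ⊗[R] B →ₐ[A] A ⧸ I :=
      Algebra.TensorProduct.lift (Algebra.ofId A (A ⧸ I)) g (fun _ _ ↦ Commute.all _ _)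
    have hs : ∀ b : B, s (1 ⊗ₜ b) = g b := fun b ↦ by simp [s]
    obtain ⟨l, hl⟩ := exists_lift I hI s
    refine ⟨(l.restrictScalars R).comp Algebra.TensorProduct.includeRight, ?_⟩
    ext b
    rw [← hs, ← hl]
    rfl
  exact Algebra.FormallyEtale.of_formallyUnramified_and_formallySmooth

end K635.FlatUnram
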