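import Groth.Agent.AlgSp.K635.FlatUnram
import Groth.Agent.Flat2H.FSHom

/-!
# Flat unramified morphisms of schemes are formally etale (no finite presentation)
-/

set_option autoImplicit false

universe u

open CategoryTheory AlgebraicGeometry

namespace K635.FlatUnramSch

theorem isFormallyEtaleHom {X S : Scheme.{u}} (f : X ⟶ S) [Flat f] [FormallyUnramified f]
    [LocallyOfFiniteType f] : MoreMor.IsFormallyEtaleHom f := by
  refine Groth.Agent.Flat2H.FSHom.isFormallyEtaleHom_of_affLocFS f ?_
  intro U V hU hV hUV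
  algebraize [(f.appLE V U hUV).hom]
  have h1 : Algebra.FormallyUnramified Γ(S, V) Γ(X, U) := f.formallyUnramified_appLE hV hU hUV
  have h2 : Algebra.FiniteType Γ(S, V) Γ(X, U) := f.finiteType_appLE hV hU hUV
  have h3 : Module.Flat Γ(S, V) Γ(X, U) := f.flat_appLE hV hU hUV
  have h4 := K635.FlatUnram.formallyEtale Γ(S, V) Γ(X, U)
  exact inferInstanceAs (Algebra.FormallySmooth Γ(S, V) Γ(X, U))

end K635.FlatUnramSch
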