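import Groth.Agent.AlgSp.K635.InfLift

/-!
# Formally smooth, unramified, etale morphisms of sheaves: formal properties, etale implies formally etale,
lifting along first order thickenings of algebraic spaces
-/

set_option autoImplicit false

universe u

open CategoryTheory CategoryTheory.Limits AlgebraicGeometry Opposite

namespace K635.Formal

open AlgSp K635.Glue K635.Thick K635.GlueLift K635.EtLift K635.InfLift

variable {S : Scheme.{u}}

section criteria

variable {F G : Sp S} {f : F ⟶ G}

theorem isFormallySmoothMor_of_forall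
    (H : ∀ (T T' : Over S) (j : T ⟶ T'), IsAffine T'.left → MoreMor.IsFirstOrderThickening j.left →
      ∀ (a : (yon S).obj T ⟶ F) (b : (yon S).obj T' ⟶ G), a ≫ f = (yon S).map j ≫ b →
      ∃ l : (yon S).obj T' ⟶ F, (yon S).map j ≫ l = a ∧ l ≫ f = b) : IsFormallySmoothMor f := fun sq ↦
  H _ _ sq.j (by change IsAffine (Spec _); infer_instance) (isFirstOrderThickening_j sq) _ _ sq.comm

theorem isFormallyUnramifiedMor_of_forall
    (H : ∀ (T T' : Over S) (j : T ⟶ T'), IsAffine T'.left → MoreMor.IsFirstOrderThickening j.left →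
      ∀ (l l' : (yon S).obj T' ⟶ F), (yon S).map j ≫ l = (yon S).map j ≫ l' → l ≫ f = l' ≫ f → l = l') :
    IsFormallyUnramifiedMor f := fun sq l l' h1 h2 h3 h4 ↦
  H _ _ sq.j (by change IsAffine (Spec _); infer_instance) (isFirstOrderThickening_j sq) _ _
    (by rw [h1, h3]) (by rw [h2, h4])

theorem isFormallyEtaleMor_of_forall
    (H : ∀ (T T' : Over S) (j : T ⟶ T'), IsAffine T'.left → MoreMor.IsFirstOrderThickening j.left →
      ∀ (a : (yon S).obj T ⟶ F) (b : (yon S).obj T' ⟶ G), a ≫ f = (yon S).map j ≫ b →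
      ∃! l : (yon S).obj T' ⟶ F, (yon S).map j ≫ l = a ∧ l ≫ f = b) : IsFormallyEtaleMor f := fun sq ↦
  H _ _ sq.j (by change IsAffine (Spec _); infer_instance) (isFirstOrderThickening_j sq) _ _ sq.comm

end criteria

/-- Representable etale maps are formally etale. -/
theorem isFormallyEtaleMor_of_repWith {F G : Sp S} {f : F ⟶ G} (hf : RepWith @Etale f) :
    IsFormallyEtaleMor f :=
  isFormallyEtaleMor_of_forall fun T T' j _ hj a b w ↦ by
    have := hj.1.1
    have := hj.1.2
    exact repEt_existsUnique_lift hf j a b w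

/-- Etale morphisms of algebraic spaces are formally etale. -/
theorem isFormallyEtaleMor_of_isEtaleMor {X Y : Sp S} (hX : IsAlgSpace X) {f : X ⟶ Y} (hf : IsEtaleMor f) :
    IsFormallyEtaleMor f :=
  isFormallyEtaleMor_of_forall fun T T' j _ hj a b w ↦ by
    have := hj.1.1
    have := hj.1.2
    exact etMor_existsUnique_lift hX hf j a b w

/-! ## Composition, cancellation, base change -/

section comp

variable {F G H : Sp S} {f : F ⟶ G} {g : G ⟶ H}

theorem comp_smooth (hf : IsFormallySmoothMor f) (hg : IsFormallySmoothMor g) :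
    IsFormallySmoothMor (f ≫ g) :=
  isFormallySmoothMor_of_forall fun T T' j _ hj a b w ↦ by
    obtain ⟨m, h1, h2⟩ := exists_lift hg j hj (a ≫ f) b (by rw [Category.assoc, w])
    obtain ⟨l, h3, h4⟩ := exists_lift hf j hj a m h1.symm
    exact ⟨l, h3, by rw [← Category.assoc, h4, h2]⟩

theorem comp_unramified (hf : IsFormallyUnramifiedMor f) (hg : IsFormallyUnramifiedMor g) :
    IsFormallyUnramifiedMor (f ≫ g) :=
  isFormallyUnramifiedMor_of_forall fun T T' j _ hj l l' h1 h2 ↦ by
    refine lift_unique hf j hj l l' h1 (lift_unique hg j hj _ _ ?_ ?_)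
    · rw [← Category.assoc, h1, Category.assoc]
    · rw [Category.assoc, h2, Category.assoc]

theorem comp_etale (hf : IsFormallyEtaleMor f) (hg : IsFormallyEtaleMor g) :
    IsFormallyEtaleMor (f ≫ g) :=
  isFormallyEtaleMor_iff.2 ⟨comp_smooth (smooth_of_etale hf) (smooth_of_etale hg),
    comp_unramified (unramified_of_etale hf) (unramified_of_etale hg)⟩

theorem unramified_of_comp (h : IsFormallyUnramifiedMor (f ≫ g)) : IsFormallyUnramifiedMor f :=
  isFormallyUnramifiedMor_of_forall fun T T' j _ hj l l' h1 h2 ↦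
    lift_unique h j hj l l' h1 (by rw [← Category.assoc, h2, Category.assoc])

theorem smooth_of_comp_unramified (h : IsFormallySmoothMor (f ≫ g)) (hg : IsFormallyUnramifiedMor g) :
    IsFormallySmoothMor f :=
  isFormallySmoothMor_of_forall fun T T' j _ hj a b w ↦ by
    obtain ⟨l, h1, h2⟩ := exists_lift h j hj a (b ≫ g) (by rw [← Category.assoc, w, Category.assoc])
    refine ⟨l, h1, lift_unique hg j hj _ _ ?_ ?_⟩
    · rw [← Category.assoc, h1, w]
    · rw [Category.assoc, h2]

theorem etale_of_comp_unramified (h : IsFormallyEtaleMor (f ≫ g)) (hg : IsFormallyUnramifiedMor g) :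
    IsFormallyEtaleMor f :=
  isFormallyEtaleMor_iff.2 ⟨smooth_of_comp_unramified (smooth_of_etale h) hg,
    unramified_of_comp (unramified_of_etale h)⟩

end comp

section baseChange

variable {F G F' G' : Sp S} {f : F ⟶ G} {f' : F' ⟶ G'} {p : F' ⟶ F} {q : G' ⟶ G}

theorem smooth_of_isPullback (sq : IsPullback p f' f q) (h : IsFormallySmoothMor f) : IsFormallySmoothMor f' :=
  isFormallySmoothMor_of_forall fun T T' j _ hj a b w ↦ by
    obtain ⟨l, h1, h2⟩ := exists_lift h j hj (a ≫ p) (b ≫ q)
      (by rw [Category.assoc, sq.w, ← Category.assoc, w, Category.assoc])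
    refine ⟨sq.lift l b h2, sq.hom_ext ?_ ?_, sq.lift_snd _ _ _⟩
    · rw [Category.assoc, sq.lift_fst, h1]
    · rw [Category.assoc, sq.lift_snd, w]

theorem unramified_of_isPullback (sq : IsPullback p f' f q) (h : IsFormallyUnramifiedMor f) :
    IsFormallyUnramifiedMor f' :=
  isFormallyUnramifiedMor_of_forall fun T T' j _ hj l l' h1 h2 ↦ by
    refine sq.hom_ext (lift_unique h j hj _ _ ?_ ?_) h2
    · rw [← Category.assoc, h1, Category.assoc]
    · rw [Category.assoc, Category.assoc, sq.w, ← Category.assoc, h2, Category.assoc]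

theorem etale_of_isPullback (sq : IsPullback p f' f q) (h : IsFormallyEtaleMor f) : IsFormallyEtaleMor f' :=
  isFormallyEtaleMor_iff.2 ⟨smooth_of_isPullback sq (smooth_of_etale h),
    unramified_of_isPullback sq (unramified_of_etale h)⟩

end baseChange

/-! ## Thickenings of algebraic spaces -/

/-- The pullback of a first order thickening of algebraic spaces to an affine chart. -/
theorem fot_of_isPullback {T T' : Sp S} (hT' : IsAlgSpace T') {j : T ⟶ T'} (hj : IsFOThickMor j)
    {V W : Over S} {c : (yon S).obj V ⟶ T'} {fst : (yon S).obj W ⟶ T} {snd : W ⟶ V}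
    (sq : IsPullback fst ((yon S).map snd) j c) : MoreMor.IsFirstOrderThickening snd.left :=
  (nthick_one_iff _).1 (((isFOThickMor_iff hT' j).1 hj).2 _ _ _ sq)

theorem space_lift_unique {F G : Sp S} {f : F ⟶ G} (hf : IsFormallyUnramifiedMor f) {T T' : Sp S}
    (hT' : IsAlgSpace T') {j : T ⟶ T'} (hj : IsFOThickMor j) (l l' : T' ⟶ F)
    (h1 : j ≫ l = j ≫ l') (h2 : l ≫ f = l' ≫ f) : l = l' :=
  glue_unique hT' hj.1.1 f l l' h1 h2 (fun V W c hc fst snd sq m m' h3 h4 ↦ by
    have := hc.aff
    exact lift_unique hf snd (fot_of_isPullback hT' hj sq) m m' h3 h4)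

theorem space_existsUnique_lift {F G : Sp S} {f : F ⟶ G} (hf : IsFormallyEtaleMor f) {T T' : Sp S}
    (hT' : IsAlgSpace T') {j : T ⟶ T'} (hj : IsFOThickMor j) (a : T ⟶ F) (b : T' ⟶ G)
    (w : a ≫ f = j ≫ b) : ∃! l : T' ⟶ F, j ≫ l = a ∧ l ≫ f = b :=
  glue_lift hT' hj.1.1 f a b (fun V W c hc fst snd sq ↦ by
    have := hc.aff
    exact existsUnique_lift hf snd (fot_of_isPullback hT' hj sq) _ _
      (by rw [Category.assoc, w, ← Category.assoc, sq.w, Category.assoc]))

/-- Etale morphisms lift uniquely along arbitrary thickenings of algebraic spaces. -/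
theorem etMor_space_existsUnique_lift {F G : Sp S} (hF : IsAlgSpace F) {f : F ⟶ G} (hf : IsEtaleMor f)
    {T T' : Sp S} (hT' : IsAlgSpace T') {j : T ⟶ T'} (hj : IsThickMor j) (a : T ⟶ F) (b : T' ⟶ G)
    (w : a ≫ f = j ≫ b) : ∃! l : T' ⟶ F, j ≫ l = a ∧ l ≫ f = b :=
  glue_lift hT' hj.1 f a b (fun V W c hc fst snd sq ↦ by
    have : IsClosedImmersion snd.left := (hj.2 _ _ _ sq).1
    have : Surjective snd.left := (hj.2 _ _ _ sq).2
    exact etMor_existsUnique_lift hF hf snd _ _
      (by rw [Category.assoc, w, ← Category.assoc, sq.w, Category.assoc]))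

end K635.Formal
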