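import Groth.Agent.AlgSp.K634.SmoothLoc
import Groth.Agent.S1486
import Groth.Agent.S9447
import Groth.Agent.AlgSp.K627.FpqcLocPInst
/-!
Formally smooth morphisms of schemes (`MoreMor.IsFormallySmoothHom`) are given by a local property of ring maps; they
are etale local on source and target and descend along faithfully flat quasi-compact morphisms.
-/

set_option autoImplicit false
universe u
open CategoryTheory CategoryTheory.Limits AlgebraicGeometry Opposite Topology

namespace K635.FsLocal

open AlgSp

/-- Formal smoothness descends along an etale surjective morphism on the source. -/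
theorem of_etale_cover {A B C : Scheme.{u}} (e : A ⟶ B) (f : B ⟶ C) [Etale e] [Surjective e]
    (h : MoreMor.IsFormallySmoothHom (e ≫ f)) : MoreMor.IsFormallySmoothHom f := by
  let U : Over C := Over.mk (e ≫ f)
  let B' : Over C := Over.mk f
  let C' : Over C := Over.mk (𝟙 C)
  let a : U ⟶ B' := Over.homMk e rfl
  let g : B' ⟶ C' := Over.homMk f (by simp [B', C'])
  have ha : RepWith @Etale ((yon C).map a) := (repWith_yon_map_iff _ _).2 (show Etale e from inferInstance)
  have hs : RepWith @Surjective ((yon C).map a) :=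
    (repWith_yon_map_iff _ _).2 (show Surjective e from inferInstance)
  have h1 : IsFormallySmoothMor ((yon C).map a ≫ (yon C).map g) := by
    rw [← Functor.map_comp]
    exact (K634.Charts.smooth_yon_map_iff (a ≫ g)).2 h
  have h2 := K634.SmoothLoc.smooth_of_top (IsAlgSpace.yon_obj B') (IsAlgSpace.yon_obj C') ha hs h1
  exact (K634.Charts.smooth_yon_map_iff g).1 h2

theorem formallySmooth_of_specMap {R S : Type u} [CommRing R] [CommRing S] [Algebra R S]
    (h : MoreMor.IsFormallySmoothHom (Spec.map (CommRingCat.ofHom (algebraMap R S)))) :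
    Algebra.FormallySmooth R S := by
  refine .of_comp_surjective fun B _ _ J hJ g ↦ ?_
  obtain ⟨l, hl1, hl2⟩ := h B J hJ (Spec.map (CommRingCat.ofHom g.toRingHom))
    (Spec.map (CommRingCat.ofHom (algebraMap R B))) (by
      rw [← Spec.map_comp, ← Spec.map_comp, ← CommRingCat.ofHom_comp, ← CommRingCat.ofHom_comp]
      congr 2
      exact g.comp_algebraMap.symm)
  obtain ⟨l, rfl⟩ := Spec.map_surjective l
  rw [← Spec.map_comp] at hl1 hl2
  have h1 := congrArg CommRingCat.Hom.hom (Spec.map_injective hl1)
  have h2 := congrArg CommRingCat.Hom.hom (Spec.map_injective hl2)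
  refine ⟨{ l.hom with commutes' := fun r => RingHom.congr_fun h2 r }, ?_⟩
  ext x
  exact RingHom.congr_fun h1 x

theorem specMap_of_formallySmooth {R S : Type u} [CommRing R] [CommRing S] [Algebra R S]
    [Algebra.FormallySmooth R S] :
    MoreMor.IsFormallySmoothHom (Spec.map (CommRingCat.ofHom (algebraMap R S))) := by
  intro A _ I hI a b w
  obtain ⟨a, rfl⟩ := Spec.map_surjective a
  obtain ⟨b, rfl⟩ := Spec.map_surjective b
  rw [← Spec.map_comp, ← Spec.map_comp] at w
  have h1 := congrArg CommRingCat.Hom.hom (Spec.map_injective w)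
  let _ : Algebra R A := b.hom.toAlgebra
  let g : S →ₐ[R] A ⧸ I := { a.hom with commutes' := fun r => (RingHom.congr_fun h1 r).symm }
  let l := Algebra.FormallySmooth.lift I ⟨2, hI⟩ g
  have hl : ∀ x, Ideal.Quotient.mk I (l x) = a.hom x := Algebra.FormallySmooth.mk_lift I ⟨2, hI⟩ g
  refine ⟨Spec.map (CommRingCat.ofHom l.toRingHom), ?_, ?_⟩
  · rw [← Spec.map_comp]
    congr 1
    ext x
    exact hl x
  · rw [← Spec.map_comp]
    congr 1
    ext x
    exact l.commutes x

theorem ofLocalizationSpanTarget : RingHom.OfLocalizationSpanTarget.{u} RingHom.FormallySmooth := by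
  rw [RingHom.ofLocalizationSpanTarget_iff_finite]
  intro R S _ _ f s hs hf
  algebraize [f]
  let S' := ∀ r : s, Localization.Away (r : S)
  have h1 : ∀ r : s, Algebra.FormallySmooth R (Localization.Away (r : S)) := by
    intro r
    have := hf r
    rw [← RingHom.formallySmooth_algebraMap]
    convert this using 1
    rfl
  have h2 : Algebra.FormallySmooth R S' := (Algebra.FormallySmooth.pi_iff _).2 h1
  have h3 : ∀ r : s, Algebra.Etale S (Localization.Away (r : S)) := fun r =>
    Algebra.Etale.of_isLocalizationAway (r : S)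
  have h4 : Algebra.Etale S S' := inferInstance
  have h5 : Etale (Spec.map (CommRingCat.ofHom (algebraMap S S'))) := by
    rw [HasRingHomProperty.Spec_iff (P := @Etale)]
    exact RingHom.etale_algebraMap.2 h4
  have h6 : Surjective (Spec.map (CommRingCat.ofHom (algebraMap S S'))) := by
    refine ⟨fun p => ?_⟩
    obtain ⟨r, hr, hrp⟩ : ∃ r ∈ s, (r : S) ∉ p.asIdeal := by
      by_contra hcon
      push Not at hcon
      exact p.isPrime.ne_top (top_le_iff.1 (hs ▸ Ideal.span_le.2 hcon))
    have h7 : p ∈ Set.range (PrimeSpectrum.comap (algebraMap S (Localization.Away r))) := by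
      rw [PrimeSpectrum.localization_away_comap_range (Localization.Away r) r]
      exact hrp
    obtain ⟨q, hq⟩ := h7
    refine ⟨PrimeSpectrum.comap (Pi.evalRingHom (fun r : s => Localization.Away (r : S)) ⟨r, hr⟩) q, ?_⟩
    exact hq
  have h8 : MoreMor.IsFormallySmoothHom (Spec.map (CommRingCat.ofHom (algebraMap S S')) ≫
      Spec.map (CommRingCat.ofHom (algebraMap R S))) := by
    rw [← Spec.map_comp, ← CommRingCat.ofHom_comp, ← IsScalarTower.algebraMap_eq R S S']
    exact specMap_of_formallySmooth
  exact formallySmooth_of_specMap (of_etale_cover _ _ h8)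

theorem propertyIsLocal : RingHom.PropertyIsLocal.{u} RingHom.FormallySmooth where
  localizationAwayPreserves := RingHom.FormallySmooth.isStableUnderBaseChange.localizationPreserves.away
  ofLocalizationSpanTarget := ofLocalizationSpanTarget
  ofLocalizationSpan := ofLocalizationSpanTarget.ofLocalizationSpan
    (RingHom.FormallySmooth.stableUnderComposition.stableUnderCompositionWithLocalizationAway
      RingHom.FormallySmooth.holdsForLocalizationAway).left
  StableUnderCompositionWithLocalizationAwayTarget :=
    (RingHom.FormallySmooth.stableUnderComposition.stableUnderCompositionWithLocalizationAway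
      RingHom.FormallySmooth.holdsForLocalizationAway).right

/-- The morphism property "formally smooth". -/
abbrev FS : MorphismProperty Scheme.{u} := @MoreMor.IsFormallySmoothHom.{u}

instance hasRingHomProperty : HasRingHomProperty FS.{u} RingHom.FormallySmooth where
  isLocal_ringHomProperty := propertyIsLocal
  eq_affineLocally' := by
    ext X Y f
    rw [affineLocally_iff_forall_isAffineOpen]
    refine (Groth.Agent.S1486.result f).trans ⟨fun h U hU V hV hUV => h V U hV hU hUV, fun h U V hU hV hUV =>
      h hV hU hUV⟩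

instance : FS.{u}.IsStableUnderBaseChange :=
  HasRingHomProperty.isStableUnderBaseChange RingHom.FormallySmooth.isStableUnderBaseChange

/-- Formal smoothness codescends along faithfully flat ring maps. -/
theorem codescends : RingHom.CodescendsAlong.{u} RingHom.FormallySmooth RingHom.FaithfullyFlat := by
  refine RingHom.CodescendsAlong.mk _ RingHom.FormallySmooth.respectsIso fun R S T _ _ _ _ _ h h' ↦ ?_
  rw [RingHom.formallySmooth_algebraMap] at h' ⊢
  rw [RingHom.faithfullyFlat_algebraMap_iff] at h
  exact (Groth.Agent.S9447.result R T S).2 h'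

instance descends : FS.{u}.DescendsAlong K627.FpqcRep.Fpqc.{u} :=
  HasRingHomProperty.descendsAlong_flat codescends

theorem comp {A B C : Scheme.{u}} {f : A ⟶ B} {g : B ⟶ C} (hf : MoreMor.IsFormallySmoothHom f)
    (hg : MoreMor.IsFormallySmoothHom g) : MoreMor.IsFormallySmoothHom (f ≫ g) := by
  intro R _ I hI a b w
  obtain ⟨l, hl1, hl2⟩ := hg R I hI (a ≫ f) b (by rw [w, Category.assoc])
  obtain ⟨m, hm1, hm2⟩ := hf R I hI a l hl1
  exact ⟨m, hm1, by rw [← Category.assoc, hm2, hl2]⟩

theorem of_etale {A B : Scheme.{u}} (e : A ⟶ B) [Etale e] : MoreMor.IsFormallySmoothHom e :=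
  Groth.Agent.Flat2H.FSSmoothHom.isFormallySmoothHom_of_smooth e

theorem cancel {A B C : Scheme.{u}} {f : A ⟶ B} (e : B ⟶ C) [Etale e]
    (h : MoreMor.IsFormallySmoothHom (f ≫ e)) : MoreMor.IsFormallySmoothHom f := by
  intro R _ I hI a b w
  obtain ⟨l, hl1, hl2⟩ := h R I hI a (b ≫ e) (by rw [← Category.assoc, w, Category.assoc])
  refine ⟨l, hl1, ?_⟩
  have he : MoreMor.IsFormallyEtaleHom e := (K634.Charts.isFormallyEtaleHom_iff e).2 ⟨of_etale e, inferInstance⟩
  exact (he R I hI (a ≫ f) (b ≫ e) (by rw [← Category.assoc, w])).unique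
    ⟨by rw [← Category.assoc, hl1], by rw [Category.assoc, hl2]⟩ ⟨w, rfl⟩

theorem etLoc : K597.EtLoc FS.{u} where
  precomp _ _ _ e f he hf := comp (of_etale e) hf
  postcomp _ _ _ f e he hf := comp hf (of_etale e)
  cancel _ _ _ f e he hf := cancel e hf
  descend' B C f H := by
    choose A e he hb hf using H
    let U : B → B.Opens := fun b => ⟨Set.range (e b), have := he b; (e b).isOpenMap.isOpen_range⟩
    refine (IsZariskiLocalAtSource.iff_of_iSup_eq_top (P := FS) U (top_le_iff.1 fun b _ => ?_)).2 fun b => ?_
    · exact TopologicalSpace.Opens.mem_iSup.2 ⟨b, hb b⟩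
    · have h1 : Set.range (e b) ⊆ Set.range (U b).ι := by
        rw [Scheme.Opens.range_ι]; exact subset_rfl
      have h2 : IsOpenImmersion.lift (U b).ι (e b) h1 ≫ (U b).ι = e b := IsOpenImmersion.lift_fac _ _ _
      have := he b
      have h3 : Etale (IsOpenImmersion.lift (U b).ι (e b) h1) := by
        have : Etale (IsOpenImmersion.lift (U b).ι (e b) h1 ≫ (U b).ι) := by rw [h2]; exact he b
        exact Etale.of_comp _ (U b).ι
      have h4 : Surjective (IsOpenImmersion.lift (U b).ι (e b) h1) := by
        refine ⟨fun x => ?_⟩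
        have hx : (U b).ι x ∈ Set.range (e b) := by
          have : (U b).ι x ∈ Set.range (U b).ι := ⟨x, rfl⟩
          rw [Scheme.Opens.range_ι] at this
          exact this
        obtain ⟨y, hy⟩ := hx
        refine ⟨y, (U b).ι.isOpenEmbedding.injective ?_⟩
        rw [← Scheme.Hom.comp_apply, h2, hy]
      refine of_etale_cover (IsOpenImmersion.lift (U b).ι (e b) h1) _ ?_
      rw [← Category.assoc, h2]
      exact hf b

theorem isLocalOnBase (S : Scheme.{u}) : IsLocalOnBase (IsFpqcCover (S := S)) (LocP FS) :=
  K627.FpqcLocP.isLocalOnBase_fpqc_locP etLoc S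

end K635.FsLocal
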