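import Groth.Agent.AlgSp.K635.Thick

/-!
# Gluing unique lifts along affine etale charts of the target of a representable morphism
-/

set_option autoImplicit false

universe u

open CategoryTheory CategoryTheory.Limits AlgebraicGeometry Opposite

namespace K635.GlueLift

open AlgSp K635.Glue K635.Thick

variable {S : Scheme.{u}}

/-- For `j : T ⟶ T'` with `T'` an algebraic space: maps out of `T` are determined by their restrictions to the pullbacks
of the affine etale charts of `T'`. -/
theorem hom_ext_pullback_charts {T T' F : Sp S} (hT' : IsAlgSpace T') {j : T ⟶ T'} (hj : Representable j)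
    {φ ψ : T ⟶ F}
    (h : ∀ (V W : Over S) (c : (yon S).obj V ⟶ T') (_ : IsAffChart c) (fst : (yon S).obj W ⟶ T) (snd : W ⟶ V),
      IsPullback fst ((yon S).map snd) j c → fst ≫ φ = fst ≫ ψ) : φ = ψ := by
  apply hom_ext_yon
  intro Q t
  obtain ⟨ι, Q', g, V, c, k, -, hg, hs, hc, hw⟩ := exists_cover_chart hT' (t ≫ j)
  refine hom_ext_cover Q' g (fun x ↦ by have := hg x; infer_instance)
    (fun x ↦ by have := hg x; infer_instance) hs (fun x ↦ ?_)
  obtain ⟨W, snd, fst, sq⟩ := hj (c x)
  have w : ((yon S).map (g x) ≫ t) ≫ j = (yon S).map (k x) ≫ c x := by rw [Category.assoc, hw]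
  have e1 : sq.lift _ _ w ≫ fst = (yon S).map (g x) ≫ t := sq.lift_fst _ _ _
  rw [← Category.assoc, ← Category.assoc, ← e1, Category.assoc, Category.assoc,
    h (V x) W (c x) (hc x) fst snd sq]

/-- Gluing of unique lifts. -/
theorem glue_lift {T T' Z X : Sp S} (hT' : IsAlgSpace T') {j : T ⟶ T'} (hj : Representable j)
    (f : Z ⟶ X) (A : T ⟶ Z) (b : T' ⟶ X)
    (H : ∀ (V W : Over S) (c : (yon S).obj V ⟶ T') (_ : IsAffChart c) (fst : (yon S).obj W ⟶ T) (snd : W ⟶ V),
      IsPullback fst ((yon S).map snd) j c →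
        ∃! l : (yon S).obj V ⟶ Z, (yon S).map snd ≫ l = fst ≫ A ∧ l ≫ f = c ≫ b) :
    ∃! l : T' ⟶ Z, j ≫ l = A ∧ l ≫ f = b := by
  choose W snd fst sq using fun (V : Over S) (c : (yon S).obj V ⟶ T') ↦ hj c
  choose Φ hΦ hΦ' using fun (V : Over S) (c : (yon S).obj V ⟶ T') (hc : IsAffChart c) ↦
    H V (W V c) c hc (fst V c) (snd V c) (sq V c)
  obtain ⟨l, hl⟩ := exists_hom_of_charts hT' Z Φ (by
    intro V V' c hc g hc' _
    apply hΦ' V' _ hc'
    constructor
    · -- the induced map on pullbacks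
      have w : fst V' ((yon S).map g ≫ c) ≫ j =
          ((yon S).map (snd V' ((yon S).map g ≫ c)) ≫ (yon S).map g) ≫ c := by
        rw [(sq _ _).w, Category.assoc]
      obtain ⟨m, hm⟩ := (yon S).map_surjective ((sq V c).lift _ _ w)
      have e1 : (yon S).map m ≫ fst V c = fst V' ((yon S).map g ≫ c) := by
        rw [hm]; exact (sq V c).lift_fst _ _ w
      have e2 : m ≫ snd V c = snd V' ((yon S).map g ≫ c) ≫ g := by
        apply (yon S).map_injective
        rw [Functor.map_comp, hm, Functor.map_comp]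
        exact (sq V c).lift_snd _ _ w
      rw [← Category.assoc, ← Functor.map_comp, ← e2, Functor.map_comp, Category.assoc, (hΦ V c hc).1,
        ← Category.assoc, e1]
    · rw [Category.assoc, (hΦ V c hc).2, Category.assoc])
  refine ⟨l, ⟨?_, ?_⟩, ?_⟩
  · refine hom_ext_pullback_charts hT' hj (fun V W' c hc fst' snd' sq' ↦ ?_)
    have e : (yon S).obj W' ≅ (yon S).obj (W V c) := sq'.isoIsPullback _ _ (sq V c)
    have h1 : (sq'.isoIsPullback _ _ (sq V c)).hom ≫ fst V c = fst' :=
      IsPullback.isoIsPullback_hom_fst _ _ _ _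
    rw [← h1, Category.assoc, Category.assoc]
    congr 1
    rw [← Category.assoc, (sq V c).w, Category.assoc, hl V c hc, (hΦ V c hc).1]
  · refine hom_ext_charts hT' (fun V c hc ↦ ?_)
    rw [← Category.assoc, hl V c hc, (hΦ V c hc).2]
  · rintro l' ⟨h1, h2⟩
    refine hom_ext_charts hT' (fun V c hc ↦ ?_)
    rw [hl V c hc]
    apply hΦ' V c hc
    constructor
    · rw [← Category.assoc, ← (sq V c).w, Category.assoc, h1]
    · rw [Category.assoc, h2]

/-- Uniqueness version of `glue_lift`. -/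
theorem glue_unique {T T' Z X : Sp S} (hT' : IsAlgSpace T') {j : T ⟶ T'} (hj : Representable j)
    (f : Z ⟶ X) (l l' : T' ⟶ Z) (h1 : j ≫ l = j ≫ l') (h2 : l ≫ f = l' ≫ f)
    (H : ∀ (V W : Over S) (c : (yon S).obj V ⟶ T') (_ : IsAffChart c) (fst : (yon S).obj W ⟶ T) (snd : W ⟶ V),
      IsPullback fst ((yon S).map snd) j c →
        ∀ m m' : (yon S).obj V ⟶ Z, (yon S).map snd ≫ m = (yon S).map snd ≫ m' → m ≫ f = m' ≫ f → m = m') :
    l = l' := by
  refine hom_ext_charts hT' (fun V c hc ↦ ?_)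
  obtain ⟨W, snd, fst, sq⟩ := hj c
  refine H V W c hc fst snd sq _ _ ?_ ?_
  · rw [← Category.assoc, ← Category.assoc, ← sq.w, Category.assoc, Category.assoc, h1]
  · rw [Category.assoc, Category.assoc, h2]

end K635.GlueLift
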