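import Groth.Agent.AlgSp.K635.EtLift
import Groth.Agent.Flat2H.FSHom

/-!
# Infinitesimal lifting for arbitrary first order thickenings
-/

set_option autoImplicit false

universe u

open CategoryTheory CategoryTheory.Limits AlgebraicGeometry Opposite

namespace K635.InfLift

open AlgSp K635.Glue K635.Thick K635.GlueLift K635.EtLift

variable {S : Scheme.{u}}

/-- Every first order thickening of an affine scheme is `Spec (A ⧸ I) ⟶ Spec A` with `I ^ 2 = 0`. -/
theorem exists_iso_spec {T T' : Scheme.{u}} (j : T ⟶ T') [IsAffine T'] [IsClosedImmersion j]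
    (h : sqZero j) :
    ∃ (A : Type u) (_ : CommRing A) (I : Ideal A) (_ : I ^ 2 = ⊥) (e' : T' ≅ Spec (CommRingCat.of A))
      (e : T ≅ Spec (CommRingCat.of (A ⧸ I))),
      j ≫ e'.hom = e.hom ≫ Spec.map (CommRingCat.ofHom (Ideal.Quotient.mk I)) := by
  have hT : IsAffine T := (IsClosedImmersion.isAffine_surjective_of_isAffine j).1
  have hs : Function.Surjective j.appTop := (IsClosedImmersion.isAffine_surjective_of_isAffine j).2
  let I : Ideal Γ(T', ⊤) := RingHom.ker j.appTop.hom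
  have hI : I ^ 2 = ⊥ := by
    have h2 := congr(($h).ideal ⟨⊤, isAffineOpen_top T'⟩)
    rw [Scheme.IdealSheafData.ideal_mul, Pi.mul_apply, Scheme.Hom.ker_apply] at h2
    rw [pow_two]
    exact h2
  let ψ : Γ(T, ⊤) ≅ CommRingCat.of (Γ(T', ⊤) ⧸ I) :=
    (RingHom.quotientKerEquivOfSurjective (f := j.appTop.hom) hs).symm.toCommRingCatIso
  have hψ : j.appTop ≫ ψ.hom = CommRingCat.ofHom (Ideal.Quotient.mk I) := by
    ext x
    change (RingHom.quotientKerEquivOfSurjective (f := j.appTop.hom) hs).symm (j.appTop.hom x) =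
      Ideal.Quotient.mk I x
    rw [RingEquiv.symm_apply_eq]
    rfl
  refine ⟨Γ(T', ⊤), inferInstance, I, hI, T'.isoSpec, T.isoSpec ≪≫ (Scheme.Spec.mapIso ψ.symm.op), ?_⟩
  simp only [Iso.trans_hom, Functor.mapIso_hom, Iso.op_hom, Iso.symm_hom, Scheme.Spec_map, Quiver.Hom.unop_op,
    Category.assoc]
  rw [← Spec.map_comp, ← hψ, Category.assoc, Iso.hom_inv_id, Category.comp_id]
  exact (Scheme.isoSpec_hom_naturality j).symm

theorem exists_iso_over {T T' : Over S} (j : T ⟶ T') [IsAffine T'.left]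
    (h : MoreMor.IsFirstOrderThickening j.left) :
    ∃ (A : Type u) (_ : CommRing A) (I : Ideal A) (_ : I ^ 2 = ⊥) (str : Spec (CommRingCat.of A) ⟶ S)
      (e' : T' ≅ Over.mk str)
      (e : T ≅ Over.mk (Spec.map (CommRingCat.ofHom (Ideal.Quotient.mk I)) ≫ str)),
      j ≫ e'.hom = e.hom ≫ (Over.homMk (Spec.map (CommRingCat.ofHom (Ideal.Quotient.mk I))) rfl :
        Over.mk (Spec.map (CommRingCat.ofHom (Ideal.Quotient.mk I)) ≫ str) ⟶ Over.mk str) := by
  have := h.1.1
  obtain ⟨A, _, I, hI, e', e, w⟩ := exists_iso_spec j.left h.2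
  refine ⟨A, inferInstance, I, hI, e'.inv ≫ T'.hom, Over.isoMk e' (by simp),
    Over.isoMk e (by
      change e.hom ≫ Spec.map (CommRingCat.ofHom (Ideal.Quotient.mk I)) ≫ e'.inv ≫ T'.hom = T.hom
      rw [← Category.assoc e.hom, ← w, Category.assoc, Iso.hom_inv_id_assoc, Over.w]), ?_⟩
  ext1
  exact w

section

variable {F G : Sp S} {f : F ⟶ G}

/-- The lifting problem for a first order thickening of affine schemes as one of the standard ones. -/
theorem exists_infSq {T T' : Over S} (j : T ⟶ T') [IsAffine T'.left]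
    (h : MoreMor.IsFirstOrderThickening j.left) (a : (yon S).obj T ⟶ F) (b : (yon S).obj T' ⟶ G)
    (w : a ≫ f = (yon S).map j ≫ b) :
    ∃ (sq : InfSq f) (e' : T' ≅ sq.ptT') (e : T ≅ sq.ptT), j ≫ e'.hom = e.hom ≫ sq.j ∧
      (yon S).map e.hom ≫ sq.top = a ∧ (yon S).map e'.hom ≫ sq.bot = b := by
  obtain ⟨A, _, I, hI, str, e', e, h1⟩ := exists_iso_over j h
  refine ⟨{ A := A, I := I, sq_zero := hI, str := str, top := (yon S).map e.inv ≫ a,
            bot := (yon S).map e'.inv ≫ b, comm := ?_ }, e', e, h1, ?_, ?_⟩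
  · have h2 : e.inv ≫ j = (Over.homMk (Spec.map (CommRingCat.ofHom (Ideal.Quotient.mk I))) rfl :
        Over.mk (Spec.map (CommRingCat.ofHom (Ideal.Quotient.mk I)) ≫ str) ⟶ Over.mk str) ≫ e'.inv := by
      rw [Iso.inv_comp_eq, ← Category.assoc, ← h1, Category.assoc, Iso.hom_inv_id, Category.comp_id]
    rw [Category.assoc, w, ← Category.assoc, ← Category.assoc, ← Functor.map_comp, ← Functor.map_comp, h2]
  · rw [← Category.assoc, ← Functor.map_comp, Iso.hom_inv_id, (yon S).map_id, Category.id_comp]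
  · rw [← Category.assoc, ← Functor.map_comp, Iso.hom_inv_id, (yon S).map_id, Category.id_comp]

theorem exists_lift (hf : IsFormallySmoothMor f) {T T' : Over S} (j : T ⟶ T') [IsAffine T'.left]
    (h : MoreMor.IsFirstOrderThickening j.left) (a : (yon S).obj T ⟶ F) (b : (yon S).obj T' ⟶ G)
    (w : a ≫ f = (yon S).map j ≫ b) :
    ∃ l : (yon S).obj T' ⟶ F, (yon S).map j ≫ l = a ∧ l ≫ f = b := by
  obtain ⟨sq, e', e, h1, h2, h3⟩ := exists_infSq j h a b w
  obtain ⟨l, hl1, hl2⟩ := hf sq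
  refine ⟨(yon S).map e'.hom ≫ l, ?_, ?_⟩
  · rw [← Category.assoc, ← Functor.map_comp, h1, Functor.map_comp, Category.assoc, hl1, h2]
  · rw [Category.assoc, hl2, h3]

theorem lift_unique (hf : IsFormallyUnramifiedMor f) {T T' : Over S} (j : T ⟶ T') [IsAffine T'.left]
    (h : MoreMor.IsFirstOrderThickening j.left) (l l' : (yon S).obj T' ⟶ F)
    (h1 : (yon S).map j ≫ l = (yon S).map j ≫ l') (h2 : l ≫ f = l' ≫ f) : l = l' := by
  obtain ⟨sq, e', e, h3, h4, h5⟩ := exists_infSq (f := f) j h ((yon S).map j ≫ l) (l ≫ f)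
    (Category.assoc _ _ _)
  have hj : sq.j = e.inv ≫ j ≫ e'.hom := by rw [h3, Iso.inv_hom_id_assoc]
  have h4' : sq.top = (yon S).map e.inv ≫ (yon S).map j ≫ l := by
    rw [← h4, ← Category.assoc, ← Functor.map_comp, Iso.inv_hom_id, (yon S).map_id, Category.id_comp]
  have h5' : sq.bot = (yon S).map e'.inv ≫ l ≫ f := by
    rw [← h5, ← Category.assoc, ← Functor.map_comp, Iso.inv_hom_id, (yon S).map_id, Category.id_comp]
  have key := hf sq ((yon S).map e'.inv ≫ l) ((yon S).map e'.inv ≫ l') (by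
      rw [h4', hj, ← Category.assoc, ← Functor.map_comp, Category.assoc, Category.assoc, Iso.hom_inv_id,
        Category.comp_id, Functor.map_comp, Category.assoc]) (by rw [h5', Category.assoc]) (by
      rw [h4', hj, ← Category.assoc, ← Functor.map_comp, Category.assoc, Category.assoc, Iso.hom_inv_id,
        Category.comp_id, Functor.map_comp, Category.assoc, h1]) (by rw [h5', Category.assoc, h2])
  have : IsIso ((yon S).map e'.inv) := inferInstance
  exact (cancel_epi ((yon S).map e'.inv)).1 key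

theorem smooth_of_etale (hf : IsFormallyEtaleMor f) : IsFormallySmoothMor f :=
  fun sq ↦ (hf sq).exists

theorem unramified_of_etale (hf : IsFormallyEtaleMor f) : IsFormallyUnramifiedMor f :=
  fun sq _ _ h1 h2 h3 h4 ↦ (hf sq).unique ⟨h1, h2⟩ ⟨h3, h4⟩

theorem isFormallyEtaleMor_iff : IsFormallyEtaleMor f ↔ IsFormallySmoothMor f ∧ IsFormallyUnramifiedMor f :=
  ⟨fun h ↦ ⟨smooth_of_etale h, unramified_of_etale h⟩, fun ⟨h1, h2⟩ sq ↦ by
    obtain ⟨l, hl⟩ := h1 sq
    exact ⟨l, hl, fun l' hl' ↦ h2 sq _ _ hl'.1 hl'.2 hl.1 hl.2⟩⟩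

theorem existsUnique_lift (hf : IsFormallyEtaleMor f) {T T' : Over S} (j : T ⟶ T') [IsAffine T'.left]
    (h : MoreMor.IsFirstOrderThickening j.left) (a : (yon S).obj T ⟶ F) (b : (yon S).obj T' ⟶ G)
    (w : a ≫ f = (yon S).map j ≫ b) :
    ∃! l : (yon S).obj T' ⟶ F, (yon S).map j ≫ l = a ∧ l ≫ f = b := by
  obtain ⟨l, h1, h2⟩ := exists_lift (smooth_of_etale hf) j h a b w
  exact ⟨l, ⟨h1, h2⟩, fun l' h' ↦ lift_unique (unramified_of_etale hf) j h _ _ (by rw [h1, h'.1]) (by rw [h2, h'.2])⟩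

/-- The closed immersion of an infinitesimal lifting square is a first order thickening. -/
theorem isFirstOrderThickening_j (sq : InfSq f) : MoreMor.IsFirstOrderThickening sq.j.left := by
  have h1 : IsClosedImmersion sq.j.left :=
    IsClosedImmersion.spec_of_surjective _ Ideal.Quotient.mk_surjective
  have h2 : Surjective sq.j.left := Groth.Agent.Flat2H.FSLift.surjective_SpecMap_mk sq.A sq.I sq.sq_zero
  refine ⟨⟨h1, h2⟩, ?_⟩
  change (Spec.map (CommRingCat.ofHom (Ideal.Quotient.mk sq.I))).ker *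
    (Spec.map (CommRingCat.ofHom (Ideal.Quotient.mk sq.I))).ker = ⊥
  have h1' : IsClosedImmersion (Spec.map (CommRingCat.ofHom (Ideal.Quotient.mk sq.I))) := h1
  apply Scheme.IdealSheafData.ext_of_isAffine
  rw [Scheme.IdealSheafData.ideal_mul, Pi.mul_apply, Scheme.Hom.ker_apply, ← pow_two]
  refine Groth.Agent.Flat2H.FSLift.ker_SpecMap_appTop_pow _ 2 ?_
  rw [CommRingCat.hom_ofHom, Ideal.mk_ker, sq.sq_zero]

end

end K635.InfLift
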