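import Groth.Agent.AlgSp.K612.ArcHom
import Groth.Agent.AlgSp.K601.EnlRep

/-!
# The fibre of a group algebraic space over a field valued point of the base

`FibGrp G t`: a group scheme over the field with a homomorphism to `G` identifying it with the fibre of `G`.
`exists_fibGrp`: existence for `G` separated or a scheme. `exists_open`: an open subscheme `Γ` of `G`
induces an open immersion of its fibre in the group scheme.
-/

set_option autoImplicit false
universe u

open CategoryTheory CategoryTheory.Limits AlgebraicGeometry MonoidalCategory CartesianMonoidalCategory MonObj AlgSp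

namespace K635.LvlFib

open K622.AnDefs K622.AnDefs2 K612.OrbFlat K624.GrpBC K612.ArcDefs

variable {S : Scheme.{u}} {G : Over (pt S)} {K : Type u} [Field K] (t : Spec (CommRingCat.of K) ⟶ S)

/-- The structure map of a scheme over `K`, over `S`. -/
noncomputable abbrev str (V : Over (Spec (CommRingCat.of K))) : (Over.map t).obj V ⟶ Over.mk t :=
  Over.homMk V.hom rfl

/-- The fibres of a group algebraic space which is separated or a scheme are schemes. -/
theorem exists_fib [GrpObj G] (hG : IsAlgSpace G.left)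
    (h : IsSeparatedSp G.left ∨ G.left.obj.IsRepresentable) :
    ∃ (T₀ : Over S) (a : (yon S).obj T₀ ⟶ G.left) (q : T₀ ⟶ Over.mk t),
      IsPullback a ((yon S).map q) G.hom ((yon S).map (K625.Prod.toBase (Over.mk t))) := by
  rcases h with hs | h
  · have h1 : ((K624.GrpBC.F t).obj G).left.obj.IsRepresentable :=
      Groth.Agent.S10120.result K ((K624.GrpBC.F t).obj G) (K595.ChBase.isAlgSpace_R hG)
        (K624.AnBC.isSeparatedSp_R t hs)
    obtain ⟨T, ⟨e⟩⟩ := K610.ZarGlue.isRepresentable_iff.1 h1
    let E : (yon S).obj ((Over.map t).obj T) ≅ (K595.ChBase.L t).obj ((K595.ChBase.R t).obj G.left) :=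
      K595.ChBase.yonIso T ≪≫ (K595.ChBase.L t).mapIso e
    obtain ⟨q, hq⟩ := (yon S).map_surjective (E.hom ≫ K595.ChBase.projHom (g := t) ((K595.ChBase.R t).obj G.left))
    refine ⟨_, E.hom ≫ (K595.ChBase.adj t).counit.app G.left, q, ?_⟩
    rw [hq]
    exact IsPullback.of_iso (K624.AnBC.isPullback_counit_yon t G.left).flip E.symm (Iso.refl _) (Iso.refl _)
      (Iso.refl _) (by simp [E]) (by simp [E]) (K601.EnlFib.base_ext _ _) (K601.EnlFib.base_ext _ _)
  · obtain ⟨Q, ⟨e⟩⟩ := K610.ZarGlue.isRepresentable_iff.1 h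
    have sq := (IsPullback.of_hasPullback (K625.Prod.toBase Q) (K625.Prod.toBase (Over.mk t))).map (yon S)
    exact ⟨_, (yon S).map (pullback.fst (K625.Prod.toBase Q) (K625.Prod.toBase (Over.mk t))) ≫ e.hom,
      pullback.snd (K625.Prod.toBase Q) (K625.Prod.toBase (Over.mk t)),
      IsPullback.of_iso sq (Iso.refl _) e (Iso.refl _) (Iso.refl _) (by simp) (by simp)
        (K601.EnlFib.base_ext _ _) (K601.EnlFib.base_ext _ _)⟩

variable (G) in
/-- A group scheme over a field with a homomorphism to `G` which makes it the fibre of `G`. -/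
structure FibGrp [GrpObj G] where
  /-- the group scheme -/
  A : Over (Spec (CommRingCat.of K))
  [grp : GrpObj A]
  /-- the homomorphism -/
  h : (yon S).obj ((Over.map t).obj A) ⟶ G.left
  sq : IsPullback h ((yon S).map (str t A)) G.hom ((yon S).map (K625.Prod.toBase (Over.mk t)))
  hom : IsHom t G A h

attribute [instance] FibGrp.grp

/-- Products of points in the two notations. -/
theorem mul_pt [GrpObj G] {T : Over S} (x y : (yon S).obj T ⟶ G.left) :
    mul x y = (K601.EnlFib.pt x * K601.EnlFib.pt y).left := by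
  let θ : ov ((yon S).obj T) ⟶ K601.EnlFib.ob T := Over.homMk (𝟙 _) (K601.EnlFib.base_ext _ _)
  have h1 : ∀ z : (yon S).obj T ⟶ G.left, θ ≫ K601.EnlFib.pt z = up z := fun z => by
    apply Over.OverMorphism.ext
    change 𝟙 _ ≫ z = z
    rw [Category.id_comp]
  have h2 := congrArg (·.left) (MonObj.comp_mul θ (K601.EnlFib.pt x) (K601.EnlFib.pt y))
  rw [h1, h1] at h2
  refine h2.symm.trans ?_
  change 𝟙 _ ≫ _ = _
  rw [Category.id_comp]

/-- The fibre group exists. -/
theorem exists_fibGrp [GrpObj G] (hG : IsAlgSpace G.left)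
    (h : IsSeparatedSp G.left ∨ G.left.obj.IsRepresentable) : Nonempty (FibGrp G t) := by
  obtain ⟨T₀, a, q, hp⟩ := exists_fib t hG h
  let A : Over (Spec (CommRingCat.of K)) := Over.mk q.left
  let w₀ : (Over.map t).obj A ≅ T₀ := Over.isoMk (Iso.refl _) (by
    change 𝟙 _ ≫ T₀.hom = q.left ≫ t
    rw [Category.id_comp]
    exact (Over.w q).symm)
  have hw₀ : ∀ {V : Over (Spec (CommRingCat.of K))} (c : V ⟶ A),
      (Over.map t).map c ≫ w₀.hom = K601.EnlFib.toT q c := fun c => by
    apply Over.OverMorphism.ext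
    change c.left ≫ 𝟙 _ = c.left
    rw [Category.comp_id]
  exact ⟨{
    A := A
    grp := K601.EnlFib.grp G hp
    h := (yon S).map w₀.hom ≫ a
    sq := by
      refine IsPullback.of_iso hp ((yon S).mapIso w₀.symm) (Iso.refl _) (Iso.refl _) (Iso.refl _) ?_ ?_
        (K601.EnlFib.base_ext _ _) (K601.EnlFib.base_ext _ _)
      · simp
      · rw [Iso.refl_hom, Category.comp_id, Functor.mapIso_hom, ← Functor.map_comp]
        congr 1
    hom := by
      intro T c d
      have h1 := congrArg (·.left) (K601.EnlFib.hom_mul G hp (V := T) c d)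
      rw [← Category.assoc, ← Category.assoc, ← Category.assoc, ← Functor.map_comp, ← Functor.map_comp,
        ← Functor.map_comp]
      refine (congrArg (fun z => (yon S).map z ≫ a) (hw₀ _)).trans (h1.trans ?_)
      refine (mul_pt _ _).symm.trans ?_
      rw [← hw₀ c, ← hw₀ d] }⟩

variable {t}

namespace FibGrp

variable [GrpObj G] (D : FibGrp G t)

theorem lft (hG : IsAlgSpace G.left) (hl : LocP @LocallyOfFiniteType G.hom) :
    LocallyOfFiniteType D.A.hom :=
  locP_yon_map (K597.locP_bc K597.etLoc_lft D.sq hG.hasAtlas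
    (IsAlgSpace.yon_obj _).hasAtlas (IsAlgSpace.yon_obj _).hasAtlas hl)

/-- An idempotent point is the unit. -/
theorem eq_one_of_mul {F : Sp S} (x : F ⟶ G.left) (h : x = mul x x) : x = (1 : ov F ⟶ G).left := by
  have h1 : mul (K612.OrbFlat.inv x) (mul x x) = x := inv_mul_cancel' x x
  rw [← h, K612.OrbFlat.inv_mul'] at h1
  exact h1.symm

/-- The unit point. -/
theorem one_left (F : Sp S) (s : F ⟶ pt S) : (1 : ov F ⟶ G).left = s ≫ η[G].left := by
  rw [Hom.one_def]
  change (toUnit (ov F)).left ≫ η[G].left = _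
  congr 1
  exact K601.EnlFib.base_ext _ _

/-- The unit section of the group scheme maps to that of `G`. -/
theorem unit : (yon S).map ((Over.map t).map η[D.A]) ≫ D.h =
    (yon S).map (K625.Prod.toBase ((Over.map t).obj (𝟙_ (Over (Spec (CommRingCat.of K)))))) ≫ η[G].left := by
  rw [← one_left]
  apply eq_one_of_mul
  have h1 := D.hom (η[D.A]) (η[D.A])
  rw [← h1]
  congr 3
  have h2 : (η[D.A] : 𝟙_ _ ⟶ D.A) = 1 := by
    rw [Hom.one_def, toUnit_unit, Category.id_comp]
  rw [h2, _root_.one_mul]

/-- An open subscheme of `G` and its fibre. -/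
theorem exists_open {Γ : Over S} (j : (yon S).obj Γ ⟶ G.left) (hj : RepWith @IsOpenImmersion j) :
    ∃ jA : Over.mk (pullback.snd Γ.hom t) ⟶ D.A, IsOpenImmersion jA.left ∧
      (yon S).map ((Over.map t).map jA) ≫ D.h =
        (yon S).map (Over.homMk (pullback.fst Γ.hom t) pullback.condition :
          (Over.map t).obj (Over.mk (pullback.snd Γ.hom t)) ⟶ Γ) ≫ j := by
  let P : Over S := (Over.map t).obj (Over.mk (pullback.snd Γ.hom t))
  let p1 : P ⟶ Γ := Over.homMk (pullback.fst Γ.hom t) pullback.condition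
  let p2 : P ⟶ Over.mk t := str t (Over.mk (pullback.snd Γ.hom t))
  have sq0 : IsPullback p1 p2 (K625.Prod.toBase Γ) (K625.Prod.toBase (Over.mk t)) := by
    refine IsPullback.of_map (Over.forget S) ?_ (IsPullback.of_hasPullback Γ.hom t)
    apply Over.OverMorphism.ext
    exact pullback.condition
  have sq1 := sq0.map (yon S)
  have hjG : j ≫ G.hom = (yon S).map (K625.Prod.toBase Γ) := K601.EnlFib.base_ext _ _
  rw [← hjG] at sq1
  obtain ⟨l, hl⟩ := (yon S).map_surjective (D.sq.lift ((yon S).map p1 ≫ j) ((yon S).map p2)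
    (K601.EnlFib.base_ext _ _))
  have hl1 : (yon S).map l ≫ D.h = (yon S).map p1 ≫ j := by rw [hl, D.sq.lift_fst]
  have hl2 : (yon S).map l ≫ (yon S).map (str t D.A) = (yon S).map p2 := by rw [hl, D.sq.lift_snd]
  have hl3 : l ≫ str t D.A = p2 := by
    apply (yon S).map_injective
    rw [Functor.map_comp, hl2]
  have sq2 : IsPullback ((yon S).map p1) ((yon S).map l) j D.h := by
    refine IsPullback.of_bot ?_ hl1.symm D.sq
    rw [hl2]
    exact sq1
  have hop : RepWith @IsOpenImmersion ((yon S).map l) := MorphismProperty.of_isPullback sq2 hj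
  refine ⟨Over.homMk l.left (congrArg (·.left) hl3), (repWith_yon_map_iff @IsOpenImmersion l).1 hop, ?_⟩
  refine Eq.trans ?_ hl1
  rfl

end FibGrp

end K635.LvlFib
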