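import Groth.Agent.AlgSp.K635.LvlFib

/-!
# The data `Pre` at a maximal ideal, from the closure of an open part of a subgroup of the generic fibre
-/

set_option autoImplicit false
universe u

open CategoryTheory CategoryTheory.Limits AlgebraicGeometry MonoidalCategory CartesianMonoidalCategory MonObj AlgSp

namespace K635.LvlFib

open K622.AnDefs K622.AnDefs2 K612.OrbFlat K624.GrpBC K612.ArcDefs

/-- The open part of the subgroup. -/
def OpenA : Prop :=
  ∀ {K : Type u} [Field K] (A H : Over (Spec (CommRingCat.of K))) [GrpObj A] [GrpObj H]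
    [LocallyOfFiniteType A.hom] (i : H ⟶ A) [IsClosedImmersion i.left] [Smooth H.hom]
    [GeometricallyIntegral H.hom]
    (_ : Set.range i.left = connectedComponent
      ((η[A] : 𝟙_ (Over (Spec (CommRingCat.of K))) ⟶ A).left (IsLocalRing.closedPoint K)))
    (_ : η[H] ≫ i = η[A]) {V : Scheme.{u}} (jA : V ⟶ A.left) [IsOpenImmersion jA]
    (eV : Spec (CommRingCat.of K) ⟶ V)
    (_ : eV ≫ jA = (η[A] : 𝟙_ (Over (Spec (CommRingCat.of K))) ⟶ A).left),
    IsClosedImmersion (pullback.snd i.left jA) ∧ IsOpen (Set.range (pullback.snd i.left jA)) ∧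
      Smooth (pullback.snd i.left jA ≫ jA ≫ A.hom) ∧
      GeometricallyIntegral (pullback.snd i.left jA ≫ jA ≫ A.hom) ∧
      ∃ eU : Spec (CommRingCat.of K) ⟶ pullback i.left jA, eU ≫ pullback.snd i.left jA = eV

/-- The closure. -/
def Clos : Prop :=
  ∀ {R K : Type u} [CommRing R] [IsDedekindDomain R] [Field K] [Algebra R K] [IsFractionRing R K]
    {W : Scheme.{u}} (f : W ⟶ Spec (.of R)) [QuasiCompact f] {V : Scheme.{u}} {a : V ⟶ W}
    {b : V ⟶ Spec (.of K)} (_ : IsPullback a b f (Spec.map (CommRingCat.ofHom (algebraMap R K))))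
    {U : Scheme.{u}} (v : U ⟶ V) [IsClosedImmersion v], ∃ (Z : Scheme.{u}) (i : Z ⟶ W) (u : U ⟶ Z),
    IsClosedImmersion i ∧ Flat (i ≫ f) ∧ QuasiCompact (i ≫ f) ∧
    IsPullback u (v ≫ b) (i ≫ f) (Spec.map (CommRingCat.ofHom (algebraMap R K))) ∧ v ≫ a = u ≫ i ∧
    ∀ (P : Type u) [CommRing P] [Algebra P K] (_ : Function.Injective (algebraMap P K))
      (e : Spec (.of P) ⟶ W) (eU : Spec (.of K) ⟶ U)
      (_ : eU ≫ v ≫ a = Spec.map (CommRingCat.ofHom (algebraMap P K)) ≫ e),
      ∃ eZ : Spec (.of P) ⟶ Z, eZ ≫ i = e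

variable {S : Scheme.{u}} {G : Over (pt S)} [GrpObj G]

namespace FibGrp

variable {K : Type u} [Field K] {t : Spec (CommRingCat.of K) ⟶ S} (D : FibGrp G t)

theorem hom_ext {T : Over (Spec (CommRingCat.of K))} {x y : T ⟶ D.A}
    (h : (yon S).map ((Over.map t).map x) ≫ D.h = (yon S).map ((Over.map t).map y) ≫ D.h) : x = y := by
  have h1 : (yon S).map ((Over.map t).map x) = (yon S).map ((Over.map t).map y) := by
    apply D.sq.hom_ext h
    rw [← Functor.map_comp, ← Functor.map_comp]
    congr 1
    apply Over.OverMorphism.ext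
    exact (Over.w x).trans (Over.w y).symm
  have h2 := (yon S).map_injective h1
  apply Over.OverMorphism.ext
  exact congrArg (·.left) h2

/-- The unit section factors through the generic fibre of `Γ`. -/
theorem exists_unit {Γ : Over S} {j : (yon S).obj Γ ⟶ G.left} (jA : Over.mk (pullback.snd Γ.hom t) ⟶ D.A)
    (hjc : (yon S).map ((Over.map t).map jA) ≫ D.h =
        (yon S).map (Over.homMk (pullback.fst Γ.hom t) pullback.condition :
          (Over.map t).obj (Over.mk (pullback.snd Γ.hom t)) ⟶ Γ) ≫ j)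
    {T : Over S} (e : T ⟶ Γ)
    (he : (yon S).map e ≫ j = (yon S).map (Over.homMk T.hom (Category.comp_id _) : T ⟶ Over.mk (𝟙 S)) ≫ η[G].left)
    (lm : Spec (CommRingCat.of K) ⟶ T.left) (hlm : lm ≫ T.hom = t) :
    ∃ eV : Spec (CommRingCat.of K) ⟶ pullback Γ.hom t, eV ≫ pullback.fst Γ.hom t = lm ≫ e.left ∧
      eV ≫ pullback.snd Γ.hom t = 𝟙 _ ∧
      eV ≫ jA.left = (η[D.A] : 𝟙_ (Over (Spec (CommRingCat.of K))) ⟶ D.A).left := by
  let eV : Spec (CommRingCat.of K) ⟶ pullback Γ.hom t := pullback.lift (lm ≫ e.left) (𝟙 _) (by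
    rw [Category.assoc, Over.w, Category.id_comp, hlm])
  have heV1 : eV ≫ pullback.fst Γ.hom t = lm ≫ e.left := pullback.lift_fst _ _ _
  have heV2 : eV ≫ pullback.snd Γ.hom t = 𝟙 _ := pullback.lift_snd _ _ _
  let eV' : 𝟙_ (Over (Spec (CommRingCat.of K))) ⟶ Over.mk (pullback.snd Γ.hom t) := Over.homMk eV heV2
  refine ⟨eV, heV1, heV2, ?_⟩
  have hη : eV' ≫ jA = η[D.A] := by
    apply D.hom_ext
    rw [D.unit, Functor.map_comp, Functor.map_comp, Category.assoc, hjc, ← Category.assoc,
      ← Functor.map_comp]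
    let l' : (Over.map t).obj (𝟙_ (Over (Spec (CommRingCat.of K)))) ⟶ T := Over.homMk lm (by
      change lm ≫ T.hom = 𝟙 _ ≫ t
      rw [hlm, Category.id_comp])
    have h1 : (Over.map t).map eV' ≫ (Over.homMk (pullback.fst Γ.hom t) pullback.condition :
        (Over.map t).obj (Over.mk (pullback.snd Γ.hom t)) ⟶ Γ) = l' ≫ e := by
      apply Over.OverMorphism.ext
      exact heV1
    have h2 : (yon S).map (l' ≫ e) ≫ j = (yon S).map (K625.Prod.toBase _) ≫ η[G].left := by
      rw [Functor.map_comp, Category.assoc, he, ← Category.assoc, ← Functor.map_comp]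
      congr 2
      exact Over.mkIdTerminal.hom_ext _ _
    rw [← h2, ← h1]
  exact congrArg (·.left) hη

end FibGrp

section loc

variable {R K : Type u} [CommRing R] [Field K] [Algebra R K] [IsFractionRing R K]
  (q : MaximalSpectrum R)

/-- The embedding of the localization in the fraction field. -/
noncomputable def locMap : Localization.AtPrime q.asIdeal →+* K :=
  IsLocalization.lift (M := q.asIdeal.primeCompl) (g := algebraMap R K) fun y => by
    rw [isUnit_iff_ne_zero, Ne, IsFractionRing.to_map_eq_zero_iff]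
    exact fun h => y.2 (h ▸ zero_mem _)

theorem locMap_comp : (locMap (K := K) q).comp (algebraMap R _) = algebraMap R K :=
  IsLocalization.lift_comp _

theorem locMap_injective : Function.Injective (locMap (K := K) q) := by
  rw [injective_iff_map_eq_zero]
  intro x hx
  obtain ⟨a, s, rfl⟩ := IsLocalization.exists_mk'_eq q.asIdeal.primeCompl x
  rw [locMap, IsLocalization.lift_mk', mul_eq_zero] at hx
  rcases hx with hx | hx
  · rw [IsFractionRing.to_map_eq_zero_iff] at hx
    rw [hx, IsLocalization.mk'_zero]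
  · exact absurd hx (Units.ne_zero _)

end loc

variable {R K : Type u} [CommRing R] [IsDedekindDomain R] [Field K] [Algebra R K] [IsFractionRing R K]

/-- **The data at a maximal ideal.** -/
theorem exists_pre (hA : OpenA.{u}) (hC : Clos.{u}) (g : Spec (CommRingCat.of R) ⟶ S)
    (D : FibGrp G (gn R K ≫ g)) (hlA : LocallyOfFiniteType D.A.hom) (H : Over (Spec (CommRingCat.of K)))
    [GrpObj H] (i : H ⟶ D.A) [IsMonHom i] [IsClosedImmersion i.left] [Smooth H.hom]
    [GeometricallyIntegral H.hom]
    (hr : Set.range i.left = connectedComponent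
      ((η[D.A] : 𝟙_ (Over (Spec (CommRingCat.of K))) ⟶ D.A).left (IsLocalRing.closedPoint K)))
    (q : MaximalSpectrum R) {Γ : Over S} (j : (yon S).obj Γ ⟶ G.left) (hj : RepWith @IsOpenImmersion j)
    (hl : LocallyOfFiniteType Γ.hom) (hf : Flat Γ.hom) (hq : QuasiCompact Γ.hom)
    (e : (Over.map g).obj (loc q) ⟶ Γ)
    (he : (yon S).map e ≫ j =
      (yon S).map (Over.homMk ((Over.map g).obj (loc q)).hom (Category.comp_id _) :
        (Over.map g).obj (loc q) ⟶ Over.mk (𝟙 S)) ≫ η[G].left) :
    Nonempty (Pre g G H ((yon S).map ((Over.map (gn R K ≫ g)).map i) ≫ D.h) q) := by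
  obtain ⟨jA, hjA, hjc⟩ := D.exists_open j hj
  let t : Spec (CommRingCat.of K) ⟶ S := gn R K ≫ g
  let V : Scheme.{u} := pullback Γ.hom t
  let b : V ⟶ Spec (CommRingCat.of K) := pullback.snd Γ.hom t
  let a : V ⟶ pullback Γ.hom g := pullback.lift (pullback.fst Γ.hom t) (b ≫ gn R K) (by
    rw [Category.assoc]; exact pullback.condition)
  have ha1 : a ≫ pullback.fst Γ.hom g = pullback.fst Γ.hom t := pullback.lift_fst _ _ _
  have ha2 : a ≫ pullback.snd Γ.hom g = b ≫ gn R K := pullback.lift_snd _ _ _
  have sqV : IsPullback a b (pullback.snd Γ.hom g) (gn R K) := by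
    refine IsPullback.of_right (h₁₂ := pullback.fst Γ.hom g) (h₂₂ := g) (v₁₃ := Γ.hom) ?_ ha2
      (IsPullback.of_hasPullback Γ.hom g)
    rw [ha1]
    exact IsPullback.of_hasPullback Γ.hom t
  have hjb : jA.left ≫ D.A.hom = b := Over.w jA
  -- the unit section of the generic fibre
  let lm : Spec (CommRingCat.of K) ⟶ (loc q).left := Spec.map (CommRingCat.ofHom (locMap (K := K) q))
  have hlm : lm ≫ (loc q).hom = gn R K := by
    change Spec.map _ ≫ Spec.map _ = Spec.map _
    rw [← Spec.map_comp, ← CommRingCat.ofHom_comp, locMap_comp]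
  have hlm' : lm ≫ ((Over.map g).obj (loc q)).hom = t := by
    change lm ≫ (loc q).hom ≫ g = gn R K ≫ g
    rw [← Category.assoc, hlm]
  have hew : e.left ≫ Γ.hom = (loc q).hom ≫ g := Over.w e
  obtain ⟨eV, heV1, heV2, hη'⟩ := D.exists_unit jA hjc e he lm hlm'
  obtain ⟨hc1, hc2, hc3, hc4, eU, heU⟩ := hA D.A H i hr (IsMonHom.one_hom i) jA.left eV hη'
  have : QuasiCompact (pullback.snd Γ.hom g) := inferInstance
  obtain ⟨Z, iZ, u, hZ1, hZ2, hZ3, hZ4, hZ5, hZ6⟩ := hC (pullback.snd Γ.hom g) sqV (pullback.snd i.left jA.left)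
  -- the unit section of the closure
  let _ : Algebra (Localization.AtPrime q.asIdeal) K := (locMap (K := K) q).toAlgebra
  obtain ⟨eZ, heZ⟩ := hZ6 (Localization.AtPrime q.asIdeal) (locMap_injective q)
    (pullback.lift e.left (loc q).hom hew) eU (by
      rw [← Category.assoc, heU]
      apply pullback.hom_ext
      · rw [Category.assoc, Category.assoc, ha1, heV1, pullback.lift_fst]
      · rw [Category.assoc, Category.assoc, ha2, pullback.lift_snd, ← Category.assoc, heV2, Category.id_comp]
        exact hlm.symm)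
  have hsv : pullback.snd i.left jA.left ≫ b = pullback.snd i.left jA.left ≫ jA.left ≫ D.A.hom := by rw [hjb]
  have hw : (pullback.fst i.left jA.left) ≫ H.hom = pullback.snd i.left jA.left ≫ b := by
    rw [hsv, ← Category.assoc, ← pullback.condition, Category.assoc, Over.w]
  exact ⟨{
    Γ := Γ
    j := j
    openImm := hj
    lft := hl
    flat := hf
    e := e
    unit := he
    Z := Z
    i := iZ
    clZ := hZ1
    flatZ := hZ2
    qcZ := hZ3
    eZ := eZ
    eZ_fst := by
      have h1 := heZ =≫ pullback.fst Γ.hom g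
      rw [Category.assoc, pullback.lift_fst] at h1
      exact h1
    eZ_snd := by
      have h1 := heZ =≫ pullback.snd Γ.hom g
      rw [Category.assoc, pullback.lift_snd] at h1
      exact h1
    U := pullback i.left jA.left
    u := u
    u' := pullback.snd i.left jA.left ≫ b
    sq := hZ4
    smooth := by rw [hsv]; exact hc3
    geom := by rw [hsv]; exact hc4
    w := Over.homMk (pullback.fst i.left jA.left) hw
    compat := by
      rw [← Category.assoc, ← Functor.map_comp, ← Functor.map_comp]
      let m : Over.mk (pullback.snd i.left jA.left ≫ b) ⟶ Over.mk b :=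
        Over.homMk (pullback.snd i.left jA.left) rfl
      have h1 : (Over.homMk (pullback.fst i.left jA.left) hw :
          Over.mk (pullback.snd i.left jA.left ≫ b) ⟶ H) ≫ i = m ≫ jA := by
        apply Over.OverMorphism.ext
        exact pullback.condition
      rw [h1, Functor.map_comp, Functor.map_comp, Category.assoc, hjc, ← Category.assoc, ← Functor.map_comp]
      congr 2
      apply Over.OverMorphism.ext
      change pullback.snd i.left jA.left ≫ pullback.fst Γ.hom t = u ≫ iZ ≫ pullback.fst Γ.hom g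
      rw [← ha1, ← Category.assoc, hZ5, Category.assoc]
    A := D.A
    lftA := hlA
    V := V
    a := a
    b := b
    sqV := sqV
    jA := jA.left
    openA := hjA
    jA_hom := hjb
    v := pullback.snd i.left jA.left
    va := hZ5
    vb := rfl
    openV := hc2 }⟩

end K635.LvlFib
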