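import Groth.Agent.AlgSp.K635.EtTop
import Groth.Agent.AlgSp.K596.ClosedQC
/-!
Points of modifications: helper lemmas for glueing etale spaces along a modification.
-/

set_option autoImplicit false
universe u
open CategoryTheory CategoryTheory.Limits AlgebraicGeometry Opposite Topology

namespace K635.Modif

open AlgSp K635.EtTop

variable {S : Scheme.{u}}

theorem eqAt_of_iso_over {Y Y' U U' R : Sp S} {f : Y' ⟶ Y} {jU : U ⟶ Y} {fU : U' ⟶ U} {jU' : U' ⟶ Y'}
    (hU' : IsPullback jU' fU f jU) (hfU : IsIso fU) (α β : R ⟶ Y') (w : α ≫ f = β ≫ f) (x : Points R)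
    (hx : Points.map (α ≫ f) x ∈ Set.range (Points.map jU)) : EqAt α β x := by
  obtain ⟨y, hy⟩ := hx
  obtain ⟨z, hz1, hz2⟩ := K610.Base.exists_of_isPullback (IsPullback.of_hasPullback (α ≫ f) jU) x y hy.symm
  refine ⟨_, pullback.fst (α ≫ f) jU, z, hz1, ?_⟩
  have h1 : (pullback.fst (α ≫ f) jU ≫ α) ≫ f = pullback.snd (α ≫ f) jU ≫ jU := by
    rw [Category.assoc, pullback.condition]
  have h2 : (pullback.fst (α ≫ f) jU ≫ β) ≫ f = pullback.snd (α ≫ f) jU ≫ jU := by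
    rw [Category.assoc, ← w, pullback.condition]
  have h3 : hU'.lift _ _ h1 = hU'.lift _ _ h2 := by
    rw [← cancel_mono fU, hU'.lift_snd, hU'.lift_snd]
  rw [← hU'.lift_fst _ _ h1, h3, hU'.lift_fst]

theorem mem_range_of_iso_over {Y Y' U U' : Sp S} {f : Y' ⟶ Y} {jU : U ⟶ Y} {fU : U' ⟶ U} {jU' : U' ⟶ Y'}
    (hU' : IsPullback jU' fU f jU) (hfU : IsIso fU) (y : Points Y) (hy : y ∈ Set.range (Points.map jU)) :
    y ∈ Set.range (Points.map f) := by
  obtain ⟨z, rfl⟩ := hy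
  refine ⟨Points.map (inv fU ≫ jU') z, ?_⟩
  rw [← Points.map_comp, Category.assoc, hU'.w, IsIso.inv_hom_id_assoc]

theorem mem_range_of_isPullback {F G H P : Sp S} {fst : P ⟶ F} {snd : P ⟶ G} {f : F ⟶ H} {g : G ⟶ H}
    (sq : IsPullback fst snd f g) (x : Points F) (hx : Points.map f x ∈ Set.range (Points.map g)) :
    x ∈ Set.range (Points.map fst) := by
  obtain ⟨y, hy⟩ := hx
  obtain ⟨z, hz, -⟩ := K610.Base.exists_of_isPullback sq x y hy.symm
  exact ⟨z, hz⟩

theorem exists_over {R Z Y : Sp S} (g : R ⟶ Y) (i : Z ⟶ Y) (x : Points R)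
    (hx : Points.map g x ∈ Set.range (Points.map i)) :
    ∃ (Q : Sp S) (c : Q ⟶ R) (d : Q ⟶ Z) (z : Points Q), Points.map c z = x ∧ c ≫ g = d ≫ i := by
  obtain ⟨y, hy⟩ := hx
  obtain ⟨z, hz1, -⟩ := K610.Base.exists_of_isPullback (IsPullback.of_hasPullback g i) x y hy.symm
  exact ⟨_, _, _, z, hz1, pullback.condition⟩

end K635.Modif
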