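import Groth.Agent.AlgSp.K635.Univ
import Groth.Agent.AlgSp.K629.EtLocInst
import Groth.Agent.AlgSp.K629.Cover

/-!
# Universal first order thickenings and etale morphisms
-/

set_option autoImplicit false

universe u

open CategoryTheory CategoryTheory.Limits AlgebraicGeometry Opposite

namespace K635.UnivEt

open AlgSp K635.Glue K635.Thick K635.GlueLift K635.EtLift K635.InfLift K635.Formal K635.Univ

variable {S : Scheme.{u}}

/-- Universal first order thickenings of the same morphism are isomorphic. -/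
theorem exists_iso {Z Z₁ Z₂ X : Sp S} (hZ : IsAlgSpace Z) (hZ₁ : IsAlgSpace Z₁) (hZ₂ : IsAlgSpace Z₂)
    {h : Z ⟶ X} {i₁ : Z ⟶ Z₁} {h₁ : Z₁ ⟶ X} {i₂ : Z ⟶ Z₂} {h₂ : Z₂ ⟶ X}
    (H₁ : IsUnivFOThick h i₁ h₁) (H₂ : IsUnivFOThick h i₂ h₂) :
    ∃ φ : Z₁ ≅ Z₂, i₁ ≫ φ.hom = i₂ ∧ φ.hom ≫ h₂ = h₁ := by
  obtain ⟨a, ⟨ha1, ha2⟩, -⟩ := H₂.2.2 hZ hZ₁ i₁ (𝟙 Z) h₁ H₁.1 (by rw [H₁.2.1, Category.id_comp])
  obtain ⟨b, ⟨hb1, hb2⟩, -⟩ := H₁.2.2 hZ hZ₂ i₂ (𝟙 Z) h₂ H₂.1 (by rw [H₂.2.1, Category.id_comp])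
  rw [Category.id_comp] at ha1 hb1
  have e1 : a ≫ b = 𝟙 _ :=
    (H₁.2.2 hZ hZ₁ i₁ (𝟙 Z) h₁ H₁.1 (by rw [H₁.2.1, Category.id_comp])).unique
      ⟨by rw [← Category.assoc, ha1, hb1, Category.id_comp], by rw [Category.assoc, hb2, ha2]⟩
      ⟨by rw [Category.comp_id, Category.id_comp], Category.id_comp _⟩
  have e2 : b ≫ a = 𝟙 _ :=
    (H₂.2.2 hZ hZ₂ i₂ (𝟙 Z) h₂ H₂.1 (by rw [H₂.2.1, Category.id_comp])).unique
      ⟨by rw [← Category.assoc, hb1, ha1, Category.id_comp], by rw [Category.assoc, ha2, hb2]⟩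
      ⟨by rw [Category.comp_id, Category.id_comp], Category.id_comp _⟩
  exact ⟨⟨a, b, e1, e2⟩, ha1, ha2⟩

theorem repWith_etale_iso {F G : Sp S} (φ : F ≅ G) : RepWith @Etale φ.hom :=
  MorphismProperty.of_isIso (RepWith @Etale) φ.hom

theorem isEtaleMor_of_repWith {F G : Sp S} {f : F ⟶ G} (hf : RepWith @Etale f) : IsEtaleMor f :=
  fun _ _ hφ ↦ repWith_etale_comp hφ hf

/-- Etaleness descends along an etale surjective chart of the source. -/
theorem isEtaleMor_of_source {F G : Sp S} (hG : IsAlgSpace G) {D : Over S} {g : (yon S).obj D ⟶ F} {f : F ⟶ G}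
    (hg : RepWith @Etale g) (hs : RepWith @Surjective g) (h : RepWith @Etale (g ≫ f)) : IsEtaleMor f := by
  refine K629.LocP.isEtaleMor_of_locP hG ?_ K629.EtLocInst.etale
  refine K629.Cover.locP_of_surjective (IsAlgSpace.yon_obj D) g (K596.Pts.surjective_of_repWith hs) f @Etale
    (K629.LocP.locP_etale_of_isEtaleMor (isEtaleMor_of_repWith hg)) ?_
    (K629.LocP.locP_etale_of_isEtaleMor (isEtaleMor_of_repWith h))
  intro X Y Z p q hp hps hpq
  have : Etale p := hp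
  exact K629.SchDesc.etale p q inferInstance inferInstance hps hpq

/-- The canonical morphism between universal first order thickenings induced by an etale morphism is etale. -/
theorem isEtaleMor_of_univ {Z Z' V V' X : Sp S} (hAZ' : IsAlgSpace Z')
    (hAV' : IsAlgSpace V') {h : Z ⟶ X} {iZ : Z ⟶ Z'} {hZ' : Z' ⟶ X} (HZ : IsUnivFOThick h iZ hZ')
    {hV : V ⟶ X} {iV : V ⟶ V'} {hV' : V' ⟶ X} (HV : IsUnivFOThick hV iV hV') {v : V ⟶ Z} (hv : IsEtaleMor v)
    (w : v ≫ h = hV) {e' : V' ⟶ Z'} (w1 : iV ≫ e' = v ≫ iZ) (w2 : e' ≫ hZ' = hV') : IsEtaleMor e' := by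
  -- an atlas of `V'`
  obtain ⟨B, β, hβe, hβs⟩ := hAV'.atlas
  obtain ⟨A, iA, α, sqA⟩ := HV.1.1.1 β
  have hαe : RepWith @Etale α := MorphismProperty.of_isPullback sqA.flip hβe
  have HB : IsUnivFOThick (α ≫ hV) ((yon S).map iA) (β ≫ hV') :=
    etale_baseChange hAV' (IsAlgSpace.yon_obj B) HV (isFormallyEtaleMor_of_repWith hβe) sqA
  -- an atlas of `Z'`
  obtain ⟨W, ω, hωe, hωs⟩ := hAZ'.atlas
  obtain ⟨ZW, iW, ζ, sqW⟩ := HZ.1.1.1 ω
  have hζe : RepWith @Etale ζ := MorphismProperty.of_isPullback sqW.flip hωe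
  have hζs : RepWith @Surjective ζ := MorphismProperty.of_isPullback sqW.flip hωs
  -- the common refinement
  have hαv : RepWith @Etale (α ≫ v) := hv α hαe
  obtain ⟨D, dA, dW, sqD⟩ := hζe.1 (α ≫ v)
  obtain ⟨dW, rfl⟩ := (yon S).map_surjective dW
  have hdA : Etale dA.left := hζe.2 _ _ _ sqD
  have hdAs : Surjective dA.left := hζs.2 _ _ _ sqD
  have hdW : Etale dW.left := hαv.2 _ _ _ sqD.flip
  have hiW := (nthick_one_iff iW.left).2 (fot_of_isPullback hAZ' HZ.1 sqW)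
  have hiA := (nthick_one_iff iA.left).2 (fot_of_isPullback hAV' HV.1 sqA)
  have := hiW.1.1
  have := hiW.1.2
  have := hiA.1.1
  have := hiA.1.2
  obtain ⟨D₁, dW', i₁, hdW', sq₁⟩ := over_exists_etale_lift iW dW
  obtain ⟨D₂, dA', i₂, hdA', sq₂⟩ := over_exists_etale_lift iA dA
  have hωe' : RepWith @Etale ((yon S).map dW' ≫ ω) := repWith_etale_comp (repWith_etale_map dW') hωe
  have hβe' : RepWith @Etale ((yon S).map dA' ≫ β) := repWith_etale_comp (repWith_etale_map dA') hβe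
  have H₁ : IsUnivFOThick (((yon S).map dW ≫ ζ) ≫ h) ((yon S).map i₁) (((yon S).map dW' ≫ ω) ≫ hZ') :=
    etale_baseChange hAZ' (IsAlgSpace.yon_obj D₁) HZ (isFormallyEtaleMor_of_repWith hωe')
      ((sq₁.map (yon S)).flip.paste_horiz sqW)
  have H₂ : IsUnivFOThick (((yon S).map dA ≫ α) ≫ hV) ((yon S).map i₂) (((yon S).map dA' ≫ β) ≫ hV') :=
    etale_baseChange hAV' (IsAlgSpace.yon_obj D₂) HV (isFormallyEtaleMor_of_repWith hβe')
      ((sq₂.map (yon S)).flip.paste_horiz sqA)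
  have e1 : ((yon S).map dW ≫ ζ) ≫ h = ((yon S).map dA ≫ α) ≫ hV := by
    rw [sqD.w, ← w]
    simp only [Category.assoc]
  rw [e1] at H₁
  obtain ⟨φ, hφ1, hφ2⟩ := exists_iso (IsAlgSpace.yon_obj D) (IsAlgSpace.yon_obj D₂) (IsAlgSpace.yon_obj D₁) H₂ H₁
  have key : ((yon S).map dA' ≫ β) ≫ e' = φ.hom ≫ (yon S).map dW' ≫ ω := by
    refine (HZ.2.2 (IsAlgSpace.yon_obj D) (IsAlgSpace.yon_obj D₂) ((yon S).map i₂)
      ((yon S).map dA ≫ α ≫ v) (((yon S).map dA' ≫ β) ≫ hV') H₂.1 ?_).unique ⟨?_, ?_⟩ ⟨?_, ?_⟩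
    · rw [H₂.2.1, ← w]
      simp only [Category.assoc]
    · have e2 : (yon S).map i₂ ≫ (yon S).map dA' = (yon S).map dA ≫ (yon S).map iA := by
        rw [← Functor.map_comp, sq₂.w, Functor.map_comp]
      simp only [Category.assoc]
      rw [reassoc_of% e2, ← w1, ← sqA.w_assoc]
    · rw [Category.assoc _ e', w2]
    · rw [reassoc_of% hφ1]
      have e3 : (yon S).map i₁ ≫ (yon S).map dW' = (yon S).map dW ≫ (yon S).map iW := by
        rw [← Functor.map_comp, sq₁.w, Functor.map_comp]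
      rw [reassoc_of% e3, ← sqW.w, sqD.w_assoc]
      simp only [Category.assoc]
    · rw [Category.assoc, hφ2]
  have key2 : RepWith @Etale (((yon S).map dA' ≫ β) ≫ e') := by
    rw [key]
    exact repWith_etale_comp (repWith_etale_iso φ) hωe'
  have hdAs' : Surjective dA'.left := by
    have h3 : Surjective (i₂.left ≫ dA'.left) := by
      rw [← Over.comp_left, sq₂.w, Over.comp_left]; infer_instance
    exact Surjective.of_comp i₂.left dA'.left
  have hs : RepWith @Surjective ((yon S).map dA' ≫ β) :=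
    (repWith_isMultiplicative @Surjective).comp_mem _ _ ((repWith_yon_map_iff _ _).2 hdAs') hβs
  exact isEtaleMor_of_source hAZ' hβe' hs key2

end K635.UnivEt
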