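import Groth.Agent.AlgSp.K635.UnivRel
import Groth.Agent.AlgSp.K635.InfNbhd
import Groth.Agent.AlgSp.K594.Bootstrap
import Groth.Agent.AlgSp.K613.Cover
import Groth.Agent.AlgSp.K596.ImmDesc

/-!
# Descent of universal first order thickenings: existence from an etale chart of the source
-/

set_option autoImplicit false

universe u

open CategoryTheory CategoryTheory.Limits AlgebraicGeometry Opposite

namespace K635.UnivQuot

open AlgSp K635.Glue K635.Thick K635.GlueLift K635.EtLift K635.InfLift K635.Formal K635.Univ K635.UnivEt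
  K635.UnivRel K635.InfNbhd

variable {S : Scheme.{u}}

/-- First order thickenings may be recognised on one etale surjective chart of the target. -/
theorem repWith_nthick_of_chart {n : ℕ} {F G : Sp S} {i : F ⟶ G} {B A : Over S} {p : (yon S).obj B ⟶ G}
    (hp : RepWith @Etale p) (hps : RepWith @Surjective p) {q : (yon S).obj A ⟶ F} {iA : A ⟶ B}
    (sq : IsPullback q ((yon S).map iA) i p) (h : nthick n iA.left) : RepWith (nthick n) i := by
  have hcl : RepWith @IsClosedImmersion i := by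
    have := K596.ImmDesc.closed_descends.{u}
    exact K596.ImmDesc.repWith_of_etale_cover K596.ImmDesc.closed_le hp hps sq
      ((repWith_yon_map_iff _ _).2 h.1.1)
  refine repWith_nthick_of_cover hcl (fun V b ↦ ?_)
  obtain ⟨T, snd, fst, sqT⟩ := hp.1 b
  obtain ⟨fst, rfl⟩ := (yon S).map_surjective fst
  have h1 : Etale snd.left := hp.2 _ _ _ sqT
  have h2 : Surjective snd.left := hps.2 _ _ _ sqT
  refine ⟨PUnit, fun _ ↦ T, fun _ ↦ snd, fun _ ↦ inferInstance, fun v ↦ ⟨⟨⟩, h2.surj v⟩, fun _ ↦ ?_⟩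
  refine ⟨pullback iA fst, pullback.snd iA fst, (yon S).map (pullback.fst iA fst) ≫ q, ?_, ?_⟩
  · rw [← sqT.w]
    exact exists_pullback_comp sq fst
  · have := h.1.1
    exact powZero_of_isPullback (isPullback_left (IsPullback.of_hasPullback iA fst)).flip h.2

/-- Existence of the universal first order thickening from one etale surjective chart of the source. -/
theorem exists_of_chart {Z X : Sp S} {V V' : Over S} {h : Z ⟶ X} {p : (yon S).obj V ⟶ Z}
    (hpe : RepWith @Etale p) (hps : RepWith @Surjective p) {i : V ⟶ V'} {k : (yon S).obj V' ⟶ X}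
    (HU : IsUnivFOThick (p ≫ h) ((yon S).map i) k) :
    ∃ (Z' : Sp S) (iZ : Z ⟶ Z') (h' : Z' ⟶ X) (π : (yon S).obj V' ⟶ Z'), IsAlgSpace Z' ∧ RepWith @Etale π ∧
      RepWith @Surjective π ∧ IsPullback p ((yon S).map i) iZ π ∧ π ≫ h' = k ∧ IsUnivFOThick h iZ h' := by
  obtain ⟨R, R', s, t, s', t', iR, hs', ht', hss', sqR, sqs, sqt, hk⟩ := exists_rel hpe hps HU
  have hE : IsEtaleEqvRel s' t' := isEtaleEqvRel HU hs' ht' sqR sqs sqt hk
  obtain ⟨Z', π, hA, hπe, hπs, sqπ⟩ : ∃ (Z' : Sp S) (π : (yon S).obj V' ⟶ Z'), IsAlgSpace Z' ∧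
      RepWith @Etale π ∧ RepWith @Surjective π ∧ IsPullback ((yon S).map t') ((yon S).map s') π π :=
    ⟨_, K594.Quot.π s' t', (K594.Bootstrap.quot_isAlgSpace hE).1, (K594.Bootstrap.quot_isAlgSpace hE).2.1,
      (K594.Bootstrap.quot_isAlgSpace hE).2.2, K594.Quot.isPullback_π s' t' hE.toIsEqvRel⟩
  have hi := (nthick_one_iff i.left).2 ((isFOThickMor_yon_map_iff i).1 HU.1)
  have hi1 : IsClosedImmersion i.left := hi.1.1
  have hi2 : Mono i := Over.mono_of_mono_left i
  have hpS : K613.Cover.FSurj p := (K613.Cover.ESurj.of_repWith hpe hps).fSurj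
  have hπS : K613.Cover.FSurj π := (K613.Cover.ESurj.of_repWith hπe hπs).fSurj
  -- points with the same image under `p`
  have hrel : ∀ (T : Over S) (u v : T ⟶ V), (yon S).map u ≫ p = (yon S).map v ≫ p →
      ∃ r : T ⟶ R, r ≫ t = u ∧ r ≫ s = v := by
    intro T u v w
    obtain ⟨r, hr⟩ := (yon S).map_surjective (sqR.lift _ _ w)
    exact ⟨r, (yon S).map_injective (by rw [Functor.map_comp, hr]; exact sqR.lift_fst _ _ w),
      (yon S).map_injective (by rw [Functor.map_comp, hr]; exact sqR.lift_snd _ _ w)⟩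
  have hrel' : ∀ (T : Over S) (u v : T ⟶ V'), (yon S).map u ≫ π = (yon S).map v ≫ π →
      ∃ r : T ⟶ R', r ≫ t' = u ∧ r ≫ s' = v := by
    intro T u v w
    obtain ⟨r, hr⟩ := (yon S).map_surjective (sqπ.lift _ _ w)
    exact ⟨r, (yon S).map_injective (by rw [Functor.map_comp, hr]; exact sqπ.lift_fst _ _ w),
      (yon S).map_injective (by rw [Functor.map_comp, hr]; exact sqπ.lift_snd _ _ w)⟩
  -- the map `Z ⟶ Z'`
  obtain ⟨iZ, hiZ, -⟩ := hpS.desc ((yon S).map i ≫ π) (fun T u v w ↦ by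
    obtain ⟨u, rfl⟩ := (yon S).map_surjective u
    obtain ⟨v, rfl⟩ := (yon S).map_surjective v
    obtain ⟨r, rfl, rfl⟩ := hrel T u v w
    have e1 : (r ≫ t) ≫ i = (r ≫ iR) ≫ t' := by rw [Category.assoc, ← sqt.w, Category.assoc]
    have e2 : (r ≫ s) ≫ i = (r ≫ iR) ≫ s' := by rw [Category.assoc, ← sqs.w, Category.assoc]
    rw [← Category.assoc, ← Category.assoc, ← Functor.map_comp, ← Functor.map_comp, e1, e2, Functor.map_comp,
      Functor.map_comp _ _ s', Category.assoc, Category.assoc, sqπ.w])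
  -- the map `Z' ⟶ X`
  obtain ⟨h', hh', -⟩ := hπS.desc k (fun T u v w ↦ by
    obtain ⟨u, rfl⟩ := (yon S).map_surjective u
    obtain ⟨v, rfl⟩ := (yon S).map_surjective v
    obtain ⟨r, rfl, rfl⟩ := hrel' T u v w
    rw [Functor.map_comp, Functor.map_comp, Category.assoc, Category.assoc, hk])
  have hp := hpS.epi
  have hw : iZ ≫ h' = h := by
    rw [← cancel_epi p, ← Category.assoc, hiZ, Category.assoc, hh', HU.2.1]
  have sq : IsPullback p ((yon S).map i) iZ π := by
    refine K613.Basic.isPullback_of_yon hiZ (fun T z v' w ↦ ?_)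
    obtain ⟨v', rfl⟩ := (yon S).map_surjective v'
    have huniq : ∀ c c' : (yon S).obj T ⟶ (yon S).obj V, c ≫ (yon S).map i = (yon S).map v' →
        c' ≫ (yon S).map i = (yon S).map v' → c = c' := by
      intro c c' h1 h2
      obtain ⟨c, rfl⟩ := (yon S).map_surjective c
      obtain ⟨c', rfl⟩ := (yon S).map_surjective c'
      have : c ≫ i = c' ≫ i := (yon S).map_injective (by rw [Functor.map_comp, h1, Functor.map_comp, h2])
      rw [(cancel_mono i).1 this]
    -- a local lift of `z`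
    obtain ⟨T₁, c, v₁, hc, hv₁⟩ := hpS T z
    obtain ⟨v₁, rfl⟩ := (yon S).map_surjective v₁
    obtain ⟨r, hr1, hr2⟩ := hrel' T₁ (v₁ ≫ i) (c ≫ v') (by
      rw [Functor.map_comp, Category.assoc, ← hiZ, ← Category.assoc, hv₁, Category.assoc, w, Functor.map_comp,
        Category.assoc])
    -- `r` factors through `R`
    let r₀ : T₁ ⟶ R := sqt.lift r v₁ hr1
    have hr3 : r₀ ≫ iR = r := sqt.lift_fst _ _ _
    have hr4 : r₀ ≫ t = v₁ := sqt.lift_snd _ _ _
    have hv2 : (r₀ ≫ s) ≫ i = c ≫ v' := by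
      rw [Category.assoc, ← sqs.w, ← Category.assoc, hr3, hr2]
    obtain ⟨y, hy, -⟩ := hc.glue ((yon S).map (r₀ ≫ s)) (fun Q a b hab ↦ by
      rw [← Functor.map_comp, ← Functor.map_comp]
      congr 1
      rw [← cancel_mono i, Category.assoc a, Category.assoc b, hv2, ← Category.assoc, ← Category.assoc, hab])
    have := hc.epi
    have hy1 : y ≫ (yon S).map i = (yon S).map v' := by
      rw [← cancel_epi ((yon S).map c), ← Category.assoc, hy, ← Functor.map_comp, hv2, Functor.map_comp]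
    have hy2 : y ≫ p = z := by
      rw [← cancel_epi ((yon S).map c), ← Category.assoc, hy, Functor.map_comp, Category.assoc, ← sqR.w,
        ← Category.assoc, ← Functor.map_comp, hr4, hv₁]
    exact ⟨y, ⟨hy2, hy1⟩, fun c' hc' ↦ huniq _ _ hc'.2 hy1⟩
  have hFO : IsFOThickMor iZ := (isFOThickMor_iff hA iZ).2 (repWith_nthick_of_chart hπe hπs sq hi)
  refine ⟨Z', iZ, h', π, hA, hπe, hπs, sq, hh', ?_⟩
  refine descend (IsAlgSpace.yon_obj V) (isEtaleMor_of_repWith hpe) (K596.Pts.surjective_of_repWith hps) hFO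
    (isFormallyEtaleMor_of_repWith hπe) hiZ.symm hw ?_
  rw [hh']
  exact HU

end K635.UnivQuot
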