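import Groth.Agent.AlgSp.K635.UnivEt

/-!
# The etale equivalence relation on the universal first order thickening of an etale chart
-/

set_option autoImplicit false

universe u

open CategoryTheory CategoryTheory.Limits AlgebraicGeometry Opposite

namespace K635.UnivRel

open AlgSp K635.Glue K635.Thick K635.GlueLift K635.EtLift K635.InfLift K635.Formal K635.Univ K635.UnivEt

variable {S : Scheme.{u}}

section

variable {Z X : Sp S} {V V' : Over S} {h : Z ⟶ X} {p : (yon S).obj V ⟶ Z} {i : V ⟶ V'} {k : (yon S).obj V' ⟶ X}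

/-- The lift `R'` of `R = V ×_Z V`. -/
theorem exists_rel (hpe : RepWith @Etale p) (hps : RepWith @Surjective p)
    (HU : IsUnivFOThick (p ≫ h) ((yon S).map i) k) :
    ∃ (R R' : Over S) (s t : R ⟶ V) (s' t' : R' ⟶ V') (iR : R ⟶ R'), Etale s'.left ∧ Etale t'.left ∧
      Surjective s'.left ∧
      IsPullback ((yon S).map t) ((yon S).map s) p p ∧ IsPullback iR s s' i ∧ IsPullback iR t t' i ∧
      (yon S).map s' ≫ k = (yon S).map t' ≫ k := by
  obtain ⟨R, s, t, sqR⟩ := hpe.1 p
  obtain ⟨t, rfl⟩ := (yon S).map_surjective t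
  have hse : Etale s.left := hpe.2 _ _ _ sqR
  have hss : Surjective s.left := hps.2 _ _ _ sqR
  have hte : Etale t.left := hpe.2 _ _ _ sqR.flip
  have hi := (nthick_one_iff i.left).2 ((isFOThickMor_yon_map_iff i).1 HU.1)
  have := hi.1.1
  have := hi.1.2
  obtain ⟨R₁, s', i₁, hs', sq₁⟩ := over_exists_etale_lift i s
  obtain ⟨R₂, t', i₂, ht', sq₂⟩ := over_exists_etale_lift i t
  have H₁ : IsUnivFOThick ((yon S).map s ≫ p ≫ h) ((yon S).map i₁) ((yon S).map s' ≫ k) :=
    etale_baseChange (IsAlgSpace.yon_obj V') (IsAlgSpace.yon_obj R₁) HU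
      (isFormallyEtaleMor_of_repWith (repWith_etale_map s')) (sq₁.map (yon S)).flip
  have H₂ : IsUnivFOThick ((yon S).map t ≫ p ≫ h) ((yon S).map i₂) ((yon S).map t' ≫ k) :=
    etale_baseChange (IsAlgSpace.yon_obj V') (IsAlgSpace.yon_obj R₂) HU
      (isFormallyEtaleMor_of_repWith (repWith_etale_map t')) (sq₂.map (yon S)).flip
  rw [← Category.assoc, sqR.w, Category.assoc] at H₂
  obtain ⟨φ, hφ1, hφ2⟩ := exists_iso (IsAlgSpace.yon_obj R) (IsAlgSpace.yon_obj R₁) (IsAlgSpace.yon_obj R₂) H₁ H₂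
  let ψ : R₁ ≅ R₂ := (yon S).preimageIso φ
  have hψ : (yon S).map ψ.hom = φ.hom := by simp [ψ]
  have e1 : i₁ ≫ ψ.hom = i₂ := (yon S).map_injective (by rw [Functor.map_comp, hψ, hφ1])
  refine ⟨R, R₁, s, t, s', ψ.hom ≫ t', i₁, hs', ?_, ?_, sqR, sq₁, ?_, ?_⟩
  · have : IsIso ψ.hom.left := inferInstanceAs (IsIso ((Over.forget S).map ψ.hom))
    change Etale (ψ.hom.left ≫ t'.left)
    infer_instance
  · have h3 : Surjective (i₁.left ≫ s'.left) := by
      rw [← Over.comp_left, sq₁.w, Over.comp_left]; infer_instance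
    exact Surjective.of_comp i₁.left s'.left
  · refine IsPullback.of_iso sq₂ (Iso.refl _) ψ.symm (Iso.refl _) (Iso.refl _) ?_ ?_ ?_ ?_
    · rw [← e1]; simp
    · simp
    · simp
    · simp
  · rw [Functor.map_comp, Category.assoc, hψ, hφ2]

/-- the relation on the points of `V'` -/
def Rel (p : (yon S).obj V ⟶ Z) (i : V ⟶ V') (k : (yon S).obj V' ⟶ X) (T : Over S) (a b : T ⟶ V') : Prop :=
  ∃ (T₀ : Over S) (j : T₀ ⟶ T) (a₀ b₀ : T₀ ⟶ V), IsPullback a₀ j i a ∧ IsPullback b₀ j i b ∧
    (yon S).map a₀ ≫ p = (yon S).map b₀ ≫ p ∧ (yon S).map a ≫ k = (yon S).map b ≫ k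

theorem rel_equivalence (T : Over S) : Equivalence (Rel p i k T) where
  refl a := ⟨pullback i a, pullback.snd i a, pullback.fst i a, pullback.fst i a,
    IsPullback.of_hasPullback _ _, IsPullback.of_hasPullback _ _, rfl, rfl⟩
  symm := by
    rintro a b ⟨T₀, j, a₀, b₀, h1, h2, h3, h4⟩
    exact ⟨T₀, j, b₀, a₀, h2, h1, h3.symm, h4.symm⟩
  trans := by
    rintro a b c ⟨T₀, j, a₀, b₀, h1, h2, h3, h4⟩ ⟨T₁, j₁, b₁, c₁, h5, h6, h7, h8⟩
    let e := h2.isoIsPullback _ _ h5
    have he1 : e.hom ≫ b₁ = b₀ := h2.isoIsPullback_hom_fst _ _ h5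
    have he2 : e.hom ≫ j₁ = j := h2.isoIsPullback_hom_snd _ _ h5
    refine ⟨T₀, j, a₀, e.hom ≫ c₁, h1, ?_, ?_, h4.trans h8⟩
    · refine IsPullback.of_iso h6 e.symm (Iso.refl _) (Iso.refl _) (Iso.refl _) ?_ ?_ ?_ ?_
      · simp
      · simp [← he2]
      · simp
      · simp
    · rw [h3, ← he1, Functor.map_comp, Functor.map_comp, Category.assoc, Category.assoc, h7]

variable {R R' : Over S} {s t : R ⟶ V} {s' t' : R' ⟶ V'} {iR : R ⟶ R'}

/-- The relation is represented by `R'`. -/
theorem rel_iff (HU : IsUnivFOThick (p ≫ h) ((yon S).map i) k) (hs' : Etale s'.left)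
    (sqR : IsPullback ((yon S).map t) ((yon S).map s) p p) (sqs : IsPullback iR s s' i)
    (sqt : IsPullback iR t t' i) (hk : (yon S).map s' ≫ k = (yon S).map t' ≫ k) {T : Over S} (a b : T ⟶ V') :
    Rel p i k T a b ↔ ∃ r : T ⟶ R', r ≫ t' = a ∧ r ≫ s' = b := by
  have hi := (nthick_one_iff i.left).2 ((isFOThickMor_yon_map_iff i).1 HU.1)
  constructor
  · rintro ⟨T₀, j, a₀, b₀, h1, h2, h3, h4⟩
    have hj : nthick 1 j.left := MorphismProperty.of_isPullback (isPullback_left h1) hi
    have := hj.1.1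
    have := hj.1.2
    obtain ⟨r₀, hr₀⟩ := (yon S).map_surjective (sqR.lift _ _ h3)
    have hr1 : r₀ ≫ t = a₀ := (yon S).map_injective (by rw [Functor.map_comp, hr₀]; exact sqR.lift_fst _ _ h3)
    have hr2 : r₀ ≫ s = b₀ := (yon S).map_injective (by rw [Functor.map_comp, hr₀]; exact sqR.lift_snd _ _ h3)
    obtain ⟨r, ⟨hr3, hr4⟩, -⟩ := over_existsUnique_lift s' j (r₀ ≫ iR) b (by
      rw [Category.assoc, sqs.w, ← Category.assoc, hr2, h2.w])
    refine ⟨r, ?_, hr4⟩
    apply (yon S).map_injective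
    refine (existsUnique_scheme HU j ((nthick_one_iff _).1 hj) ((yon S).map a₀) ((yon S).map a ≫ k) ?_).unique
      ⟨?_, ?_⟩ ⟨?_, rfl⟩
    · rw [← Category.assoc, ← Functor.map_comp, ← h1.w, Functor.map_comp, Category.assoc, HU.2.1]
    · rw [← Functor.map_comp, ← Functor.map_comp, ← Category.assoc, hr3, Category.assoc, sqt.w,
        ← Category.assoc, hr1]
    · rw [Functor.map_comp, Category.assoc, ← hk, ← Category.assoc, ← Functor.map_comp, hr4, h4]
    · rw [← Functor.map_comp, ← h1.w, Functor.map_comp]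
  · rintro ⟨r, rfl, rfl⟩
    have h1 : IsPullback (pullback.fst iR r) (pullback.snd iR r) iR r := IsPullback.of_hasPullback _ _
    refine ⟨pullback iR r, pullback.snd iR r, pullback.fst iR r ≫ t, pullback.fst iR r ≫ s, ?_, ?_, ?_, ?_⟩
    · exact h1.paste_horiz sqt.flip
    · exact h1.paste_horiz sqs.flip
    · rw [Functor.map_comp, Functor.map_comp, Category.assoc, Category.assoc, sqR.w]
    · rw [Functor.map_comp, Functor.map_comp, Category.assoc, Category.assoc, hk]

/-- `R'` is an etale equivalence relation on `V'`. -/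
theorem isEtaleEqvRel (HU : IsUnivFOThick (p ≫ h) ((yon S).map i) k) (hs' : Etale s'.left) (ht' : Etale t'.left)
    (sqR : IsPullback ((yon S).map t) ((yon S).map s) p p) (sqs : IsPullback iR s s' i)
    (sqt : IsPullback iR t t' i) (hk : (yon S).map s' ≫ k = (yon S).map t' ≫ k) : IsEtaleEqvRel s' t' where
  injective T r r' h1 h2 := by
    have hi := (nthick_one_iff i.left).2 ((isFOThickMor_yon_map_iff i).1 HU.1)
    have hi1 : IsClosedImmersion i.left := hi.1.1
    have hi2 : Mono i := Over.mono_of_mono_left i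
    have P1 : IsPullback (pullback.fst iR r) (pullback.snd iR r) iR r := IsPullback.of_hasPullback _ _
    have P2 : IsPullback (pullback.fst iR r') (pullback.snd iR r') iR r' := IsPullback.of_hasPullback _ _
    have Q1 : IsPullback (pullback.fst iR r ≫ s) (pullback.snd iR r) i (r ≫ s') := P1.paste_horiz sqs.flip
    have Q2 : IsPullback (pullback.fst iR r' ≫ s) (pullback.snd iR r') i (r' ≫ s') := P2.paste_horiz sqs.flip
    rw [← h2] at Q2
    let e := Q1.isoIsPullback _ _ Q2
    have he1 : e.hom ≫ pullback.fst iR r' ≫ s = pullback.fst iR r ≫ s := Q1.isoIsPullback_hom_fst _ _ Q2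
    have he2 : e.hom ≫ pullback.snd iR r' = pullback.snd iR r := Q1.isoIsPullback_hom_snd _ _ Q2
    have hj : nthick 1 (pullback.snd iR r).left := MorphismProperty.of_isPullback (isPullback_left Q1) hi
    have := hj.1.1
    have := hj.1.2
    have key : e.hom ≫ pullback.fst iR r' = pullback.fst iR r := by
      apply (yon S).map_injective
      apply sqR.hom_ext
      · rw [← Functor.map_comp, ← Functor.map_comp]
        congr 1
        rw [← cancel_mono i]
        simp only [Category.assoc]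
        rw [← sqt.w, P2.w_assoc, P1.w_assoc, reassoc_of% he2, h1]
      · rw [← Functor.map_comp, ← Functor.map_comp, Category.assoc, he1]
    refine (over_existsUnique_lift s' (pullback.snd iR r) (pullback.fst iR r ≫ iR) (r ≫ s') ?_).unique
      ⟨P1.w.symm, rfl⟩ ⟨?_, h2.symm⟩
    · rw [Category.assoc, sqs.w, ← Category.assoc, Q1.w]
    · rw [← he2, Category.assoc, ← P2.w, ← Category.assoc, key]
  equivalence T := by
    have := rel_equivalence (p := p) (i := i) (k := k) T
    have h2 : Rel p i k T = fun a b : T ⟶ V' => ∃ r : T ⟶ R', r ≫ t' = a ∧ r ≫ s' = b := by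
      funext a b
      exact propext (rel_iff HU hs' sqR sqs sqt hk a b)
    rwa [h2] at this
  etale_left := hs'
  etale_right := ht'

end

end K635.UnivRel
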